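import Cfsg.Agent.Lib.PGroups.Parts
import Cfsg.Agent.Lib.PGroups.ExpP
import Cfsg.Agent.Lib.Basic.Core
import Cfsg.Agent.Lib.Components.Signal

/-!
# Helpers for groups that are a normal `p`-subgroup extended by a cyclic group

* `eq_of_card_eq_of_isCyclic`: a finite cyclic group has at most one subgroup of each order;
* `exists_complement_gen`: if `S` is a normal Sylow `p`-subgroup with cyclic quotient, then `X = S ⟨b⟩` for a
  `p'`-element `b`;
* `isCyclic_of_commute_gen`: if moreover `S` is cyclic and `b` centralises it, then `X` is cyclic;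
* `sup_zpowers_*`: the hypotheses "Sylow normal, cyclic quotient" for `T ⟨z⟩`.
-/

set_option autoImplicit false

namespace Cfsg.Agent.Lib.PGroups

open Subgroup Cfsg Cfsg.Agent.Lib.Basic

/-- A finite cyclic group has at most one subgroup of each order. -/
theorem eq_of_card_eq_of_isCyclic {X : Type*} [Group X] [Finite X] [IsCyclic X] {H K : Subgroup X}
    (h : Nat.card H = Nat.card K) : H = K := by
  classical
  letI := Fintype.ofFinite X
  set n := Nat.card H with hn
  have hpos : 0 < n := Nat.card_pos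
  have hF := IsCyclic.card_pow_eq_one_le (α := X) hpos
  have key : ∀ L : Subgroup X, Nat.card L = n →
      Finset.univ.filter (fun a => a ∈ L) = Finset.univ.filter (fun a : X => a ^ n = 1) := by
    intro L hL
    apply Finset.eq_of_subset_of_card_le
    · intro x hx
      rw [Finset.mem_filter] at hx ⊢
      refine ⟨hx.1, ?_⟩
      have h1 : ((⟨x, hx.2⟩ : L)) ^ n = 1 := by
        rw [← hL]
        exact pow_card_eq_one'
      exact congrArg Subtype.val h1
    · refine hF.trans ?_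
      have h2 : (Finset.univ.filter (fun a => a ∈ L)).card = Nat.card L := by
        rw [Nat.card_eq_fintype_card, Fintype.card_subtype]
      rw [h2, hL]
  have h1 := key H rfl
  have h2 := key K h.symm
  ext x
  have hx := Finset.ext_iff.mp (h1.trans h2.symm) x
  simpa using hx

theorem comm_of_isCyclic {X : Type*} [Group X] [IsCyclic X] (a b : X) : a * b = b * a := by
  obtain ⟨g, hg⟩ := IsCyclic.exists_generator (α := X)
  obtain ⟨i, rfl⟩ := Subgroup.mem_zpowers_iff.mp (hg a)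
  obtain ⟨j, rfl⟩ := Subgroup.mem_zpowers_iff.mp (hg b)
  exact ((Commute.refl g).zpow_zpow i j).eq

/-- `X = S ⟨b⟩` for a normal Sylow `p`-subgroup `S` with cyclic quotient, with `b` a `p'`-element. -/
theorem exists_complement_gen {X : Type*} [Group X] [Finite X] {p : ℕ} [Fact p.Prime] (S : Sylow p X)
    [hS : (S : Subgroup X).Normal] (hc : IsCyclic (X ⧸ (S : Subgroup X))) :
    ∃ b : X, ¬ p ∣ orderOf b ∧ ∀ h : X, ∃ s ∈ (S : Subgroup X), ∃ k : ℤ, h = s * b ^ k := by
  obtain ⟨ybar, hy⟩ := hc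
  obtain ⟨y, rfl⟩ := QuotientGroup.mk_surjective ybar
  obtain ⟨a, b, hyab, hcomm, hka, hb, -, -⟩ := exists_pPart p y
  have haS : a ∈ (S : Subgroup X) := by
    have h1 : a ∈ zpowers a ⊓ normalizer ((S : Subgroup X) : Set X) := by
      rw [normalizer_eq_top_iff.mpr hS]
      exact Subgroup.mem_inf.mpr ⟨mem_zpowers a, mem_top a⟩
    have h2 := (isPGroup_zpowers_iff.mpr hka).inf_normalizer_sylow S
    have h3 := SetLike.le_def.mp h2.le h1
    exact (Subgroup.mem_inf.mp h3).2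
  refine ⟨b, hb, fun h => ?_⟩
  obtain ⟨k, hk⟩ := Subgroup.mem_zpowers_iff.mp (hy (h : X ⧸ (S : Subgroup X)))
  have h1 : ((y ^ k : X) : X ⧸ (S : Subgroup X)) = h := by
    rw [← hk]
    rfl
  have h2 : (y ^ k)⁻¹ * h ∈ (S : Subgroup X) := QuotientGroup.eq.mp h1
  have hyk : y ^ k = a ^ k * b ^ k := by
    rw [hyab]
    exact hcomm.mul_zpow k
  obtain ⟨u, hu⟩ : ∃ u, u = (y ^ k)⁻¹ * h := ⟨_, rfl⟩
  rw [← hu] at h2
  have hh : h = y ^ k * u := by rw [hu]; group
  refine ⟨a ^ k * (b ^ k * u * (b ^ k)⁻¹), (S : Subgroup X).mul_mem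
    ((S : Subgroup X).zpow_mem haS k) (hS.conj_mem _ h2 _), k, ?_⟩
  rw [hh, hyk]
  group

/-- If `X = S ⟨b⟩` with `S` a cyclic `p`-group and `b` a `p'`-element centralising `S`, then `X` is cyclic. -/
theorem isCyclic_of_commute_gen {X : Type*} [Group X] [Finite X] {p : ℕ} [Fact p.Prime] (S : Subgroup X)
    (hSp : IsPGroup p S) (hSc : IsCyclic S) {b : X} (hb : ¬ p ∣ orderOf b)
    (hcomm : ∀ s ∈ S, b * s = s * b) (hdec : ∀ h : X, ∃ s ∈ S, ∃ k : ℤ, h = s * b ^ k) : IsCyclic X := by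
  obtain ⟨s₀, hs₀⟩ := IsCyclic.exists_generator (α := S)
  have hord : orderOf (s₀ : X) = Nat.card S := by
    rw [Subgroup.orderOf_coe]
    exact orderOf_eq_card_of_forall_mem_zpowers hs₀
  have hc : Commute (s₀ : X) b := (hcomm _ s₀.2).symm
  have hcop : (orderOf (s₀ : X)).Coprime (orderOf b) := by
    obtain ⟨k, hk⟩ := IsPGroup.iff_card.mp hSp
    rw [hord, hk]
    exact ((Nat.Prime.coprime_iff_not_dvd Fact.out).mpr hb).pow_left k
  have hou := hc.orderOf_mul_eq_mul_orderOf_of_coprime hcop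
  have htop : S ⊔ zpowers b = ⊤ := by
    rw [eq_top_iff]
    intro h _
    obtain ⟨s, hs, k, rfl⟩ := hdec h
    exact Subgroup.mul_mem _ ((le_sup_left : S ≤ _) hs) ((le_sup_right : zpowers b ≤ _) (zpow_mem (mem_zpowers b) k))
  have hN : zpowers b ≤ normalizer (S : Set X) := by
    rw [zpowers_le]
    exact mem_normalizer_of_forall_commute hcomm
  have hle := card_sup_le_of_le_normalizer hN
  rw [htop, Subgroup.card_top, Nat.card_zpowers] at hle
  apply isCyclic_of_orderOf_eq_card ((s₀ : X) * b)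
  apply le_antisymm (orderOf_le_card)
  rw [hou, hord]
  exact hle

section SupZpowers

variable {X : Type*} [Group X] [Finite X] {p : ℕ} [Fact p.Prime] {T : Subgroup X} {z : X}

theorem exists_decomp_sup_zpowers (hz : z ∈ normalizer (T : Set X)) (h : ↥(T ⊔ zpowers z)) :
    ∃ t ∈ T.subgroupOf (T ⊔ zpowers z), ∃ k : ℤ,
      h = t * (⟨z, (le_sup_right : zpowers z ≤ T ⊔ zpowers z) (mem_zpowers z)⟩ : ↥(T ⊔ zpowers z)) ^ k := by
  have hN : zpowers z ≤ normalizer (T : Set X) := by rwa [zpowers_le]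
  obtain ⟨x, hx, y, hy, hxy⟩ := Cfsg.Agent.Lib.Components.exists_mul_of_mem_sup_of_le_normalizer hN h.2
  obtain ⟨k, rfl⟩ := Subgroup.mem_zpowers_iff.mp hy
  refine ⟨⟨x, (le_sup_left : T ≤ T ⊔ zpowers z) hx⟩, mem_subgroupOf.mpr hx, k, ?_⟩
  apply Subtype.ext
  simpa using hxy

/-- `T` is normal in `T ⟨z⟩` when `z` normalises it. -/
theorem normal_subgroupOf_sup_zpowers (hz : z ∈ normalizer (T : Set X)) :
    (T.subgroupOf (T ⊔ zpowers z)).Normal := by
  have hN : zpowers z ≤ normalizer (T : Set X) := by rwa [zpowers_le]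
  exact (normal_subgroupOf_iff_le_normalizer le_sup_left).mpr (sup_le le_normalizer hN)

/-- A quotient of `T ⟨z⟩` by a normal subgroup containing `T` is cyclic. -/
theorem isCyclic_quotient_sup_zpowers (hz : z ∈ normalizer (T : Set X)) (U : Subgroup ↥(T ⊔ zpowers z))
    [hU : U.Normal] (hTU : T.subgroupOf (T ⊔ zpowers z) ≤ U) : IsCyclic (↥(T ⊔ zpowers z) ⧸ U) := by
  refine ⟨⟨(((⟨z, (le_sup_right : zpowers z ≤ T ⊔ zpowers z) (mem_zpowers z)⟩ : ↥(T ⊔ zpowers z))) :
    ↥(T ⊔ zpowers z) ⧸ U), fun x => ?_⟩⟩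
  obtain ⟨h, rfl⟩ := QuotientGroup.mk_surjective x
  obtain ⟨t, ht, k, rfl⟩ := exists_decomp_sup_zpowers hz h
  refine Subgroup.mem_zpowers_iff.mpr ⟨k, ?_⟩
  have h1 : ((t : ↥(T ⊔ zpowers z)) : ↥(T ⊔ zpowers z) ⧸ U) = 1 :=
    (QuotientGroup.eq_one_iff _).mpr (hTU ht)
  rw [QuotientGroup.mk_mul, h1, one_mul]
  rfl

/-- Every Sylow `p`-subgroup of `T ⟨z⟩` contains `T`, if `T` is a `p`-group normalised by `z`. -/
theorem le_sylow_sup_zpowers (hT : IsPGroup p T) (hz : z ∈ normalizer (T : Set X))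
    (S : Sylow p ↥(T ⊔ zpowers z)) : T.subgroupOf (T ⊔ zpowers z) ≤ (S : Subgroup ↥(T ⊔ zpowers z)) :=
  normal_pGroup_le_sylow (normal_subgroupOf_sup_zpowers hz)
    (hT.comap_of_injective _ (Subgroup.subtype_injective _)) S

/-- If `z` is a `p'`-element, `T` is the unique Sylow `p`-subgroup of `T ⟨z⟩`. -/
theorem sylow_eq_sup_zpowers (hT : IsPGroup p T) (hz : z ∈ normalizer (T : Set X)) (hzp : ¬ p ∣ orderOf z)
    (S : Sylow p ↥(T ⊔ zpowers z)) : (S : Subgroup ↥(T ⊔ zpowers z)) = T.subgroupOf (T ⊔ zpowers z) := by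
  apply le_antisymm _ (le_sylow_sup_zpowers hT hz S)
  intro s hs
  haveI := normal_subgroupOf_sup_zpowers hz
  obtain ⟨t, ht, k, rfl⟩ := exists_decomp_sup_zpowers hz s
  refine (T.subgroupOf (T ⊔ zpowers z)).mul_mem ht ?_
  set z' : ↥(T ⊔ zpowers z) := ⟨z, (le_sup_right : zpowers z ≤ T ⊔ zpowers z) (mem_zpowers z)⟩ with hz'
  have htS := le_sylow_sup_zpowers hT hz S ht
  have h1 : z' ^ k ∈ (S : Subgroup ↥(T ⊔ zpowers z)) := by
    have := (S : Subgroup ↥(T ⊔ zpowers z)).mul_mem ((S : Subgroup ↥(T ⊔ zpowers z)).inv_mem htS) hs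
    simpa using this
  obtain ⟨j, hj⟩ := exists_orderOf_of_mem_isPGroup S.isPGroup' h1
  have h2 : orderOf (z' ^ k) ∣ orderOf z' := by
    apply orderOf_dvd_of_pow_eq_one
    rw [← zpow_natCast, ← zpow_mul, mul_comm, zpow_mul, zpow_natCast, pow_orderOf_eq_one, one_zpow]
  have h3 : orderOf z' = orderOf z := Subgroup.orderOf_mk z _
  rw [h3, hj] at h2
  rcases j with _ | j
  · rw [pow_zero, orderOf_eq_one_iff] at hj
    rw [hj]
    exact Subgroup.one_mem _
  · exact absurd ((dvd_pow_self p (Nat.succ_ne_zero j)).trans h2) hzp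

end SupZpowers

end Cfsg.Agent.Lib.PGroups
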