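import Mathlib

/-!
# Fixed-point-free automorphisms of order three

`x * σ x * σ (σ x) = 1`, class at most two; with an extra involution inverting `σ` and the
relation `(x * τ x) ^ 2 = 1`, the group is elementary abelian of exponent two.
-/

set_option autoImplicit false
set_option linter.unusedSectionVars false
set_option linter.style.haveILetI false

namespace Cfsg.Agent.Lib.PGroups.Fpf3

open Subgroup
open scoped commutatorElement

section basic

variable {N : Type*} [Group N]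

theorem norm_inj (σ : N →* N) (hfix : ∀ x, σ x = x → x = 1) :
    Function.Injective (fun x : N => x⁻¹ * σ x) := by
  intro x y h
  have h' : x⁻¹ * σ x = y⁻¹ * σ y := h
  have h2 : σ y = y * (x⁻¹ * σ x) := by rw [h']; group
  have h3 : σ (y * x⁻¹) = y * x⁻¹ := by
    rw [map_mul, map_inv, h2]; group
  have h4 := hfix _ h3
  exact (mul_inv_eq_one.mp h4).symm

theorem norm_surj [Finite N] (σ : N →* N) (hfix : ∀ x, σ x = x → x = 1) (x : N) :
    ∃ y, y⁻¹ * σ y = x :=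
  (Finite.injective_iff_surjective.mp (norm_inj σ hfix)) x

/-- `x * σ x * σ² x = 1`. -/
theorem mul_three [Finite N] (σ : N →* N) (hσ : ∀ x, σ (σ (σ x)) = x)
    (hfix : ∀ x, σ x = x → x = 1) (x : N) : x * σ x * σ (σ x) = 1 := by
  obtain ⟨y, rfl⟩ := norm_surj σ hfix x
  simp only [map_mul, map_inv, hσ]
  group

theorem comm_sigma [Finite N] (σ : N →* N) (hσ : ∀ x, σ (σ (σ x)) = x)
    (hfix : ∀ x, σ x = x → x = 1) (x : N) : Commute x (σ x) := by
  have h1 := mul_three σ hσ hfix (σ (σ x))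
  have h2 := mul_three σ hσ hfix ((σ (σ x))⁻¹)
  simp only [map_inv, hσ] at h1 h2
  -- h1 : σ²x * x * σ x = 1 ; h2 : (σ²x)⁻¹ * x⁻¹ * (σ x)⁻¹ = 1
  have h3 : x * σ x = (σ (σ x))⁻¹ := by
    rw [eq_inv_iff_mul_eq_one]
    exact mul_three σ hσ hfix x
  have h4 : σ x * x = (σ (σ x))⁻¹ := by
    have h5 : (σ (σ x))⁻¹ * x⁻¹ * (σ x)⁻¹ = 1 := h2
    calc σ x * x = (σ (σ x))⁻¹ * x⁻¹ * (σ x)⁻¹ * (σ x * x) := by rw [h5, one_mul]
      _ = (σ (σ x))⁻¹ := by group
  exact h3.trans h4.symm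

/-- `a * b * σ a * σ b = b * σ b * a * σ a`. -/
theorem key_identity [Finite N] (σ : N →* N) (hσ : ∀ x, σ (σ (σ x)) = x)
    (hfix : ∀ x, σ x = x → x = 1) (a b : N) :
    a * b * σ a * σ b = b * σ b * (a * σ a) := by
  have h := mul_three σ hσ hfix (a * b)
  simp only [map_mul] at h
  have ha : σ (σ a) = (a * σ a)⁻¹ := by
    rw [eq_inv_iff_mul_eq_one]
    have h1 := mul_three σ hσ hfix a
    have h2 : Commute (σ (σ a)) (a * σ a) := by
      have : a * σ a = (σ (σ a))⁻¹ := by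
        rw [eq_inv_iff_mul_eq_one]; exact h1
      rw [this]; exact (Commute.refl _).inv_right
    rw [h2.eq]; exact h1
  have hb : σ (σ b) = (b * σ b)⁻¹ := by
    rw [eq_inv_iff_mul_eq_one]
    have h1 := mul_three σ hσ hfix b
    have h2 : Commute (σ (σ b)) (b * σ b) := by
      have : b * σ b = (σ (σ b))⁻¹ := by
        rw [eq_inv_iff_mul_eq_one]; exact h1
      rw [this]; exact (Commute.refl _).inv_right
    rw [h2.eq]; exact h1
  rw [ha, hb] at h
  have h3 : a * b * (σ a * σ b) = (((a * σ a)⁻¹ * (b * σ b)⁻¹))⁻¹ := by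
    rw [eq_inv_iff_mul_eq_one]; exact h
  calc a * b * σ a * σ b = a * b * (σ a * σ b) := by group
    _ = (((a * σ a)⁻¹ * (b * σ b)⁻¹))⁻¹ := h3
    _ = b * σ b * (a * σ a) := by group

/-- `σ v` commutes with all conjugates of `v`. -/
theorem comm_sigma_conj [Finite N] (σ : N →* N) (hσ : ∀ x, σ (σ (σ x)) = x)
    (hfix : ∀ x, σ x = x → x = 1) (v b : N) : Commute (σ v) (b * v * b⁻¹) := by
  -- take `a = b * v`
  set a := b * v with ha
  have h1 := key_identity σ hσ hfix (σ a) b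
  have h3 : σ a * σ (σ a) = a⁻¹ := by
    have h6 := mul_three σ hσ hfix (σ a)
    rw [hσ] at h6
    exact eq_inv_of_mul_eq_one_left h6
  rw [h3] at h1
  have hs : σ (σ a) = a⁻¹ * (σ a)⁻¹ := by
    have := mul_three σ hσ hfix a
    rw [mul_assoc] at this
    have h7 : σ a * σ (σ a) = a⁻¹ := h3
    calc σ (σ a) = (σ a)⁻¹ * (σ a * σ (σ a)) := by group
      _ = (σ a)⁻¹ * a⁻¹ := by rw [h7]
      _ = a⁻¹ * (σ a)⁻¹ := by
        have hc := (comm_sigma σ hσ hfix a).inv_inv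
        exact hc.symm.eq
  rw [hs] at h1
  -- h1 : σ a * b * (a⁻¹ * (σ a)⁻¹) * σ b = b * σ b * a⁻¹
  have hcb := comm_sigma σ hσ hfix b
  have hσv : σ v = (σ b)⁻¹ * σ a := by
    rw [ha, map_mul]; group
  have hconj : b * v⁻¹ * b⁻¹ = b * a⁻¹ := by
    rw [ha]; group
  have h8 : Commute (σ v) (b * v⁻¹ * b⁻¹) := by
    rw [hconj, hσv]
    change (σ b)⁻¹ * σ a * (b * a⁻¹) = b * a⁻¹ * ((σ b)⁻¹ * σ a)
    have h9 : σ a * (b * a⁻¹) * (σ a)⁻¹ * σ b = σ b * (b * a⁻¹) := by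
      calc σ a * (b * a⁻¹) * (σ a)⁻¹ * σ b = σ a * b * (a⁻¹ * (σ a)⁻¹) * σ b := by group
        _ = b * σ b * a⁻¹ := h1
        _ = σ b * b * a⁻¹ := by rw [hcb.eq]
        _ = σ b * (b * a⁻¹) := by group
    have h10 : σ a * (b * a⁻¹) = σ b * (b * a⁻¹) * (σ b)⁻¹ * σ a := by
      rw [← h9]; group
    calc (σ b)⁻¹ * σ a * (b * a⁻¹) = (σ b)⁻¹ * (σ a * (b * a⁻¹)) := by group
      _ = (σ b)⁻¹ * (σ b * (b * a⁻¹) * (σ b)⁻¹ * σ a) := by rw [← h10]
      _ = b * a⁻¹ * ((σ b)⁻¹ * σ a) := by group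
  have h11 := h8.inv_right
  have h12 : (b * v⁻¹ * b⁻¹)⁻¹ = b * v * b⁻¹ := by group
  rwa [h12] at h11

/-- `v` commutes with all its conjugates. -/
theorem comm_conj [Finite N] (σ : N →* N) (hσ : ∀ x, σ (σ (σ x)) = x)
    (hfix : ∀ x, σ x = x → x = 1) (v g : N) : Commute v (g * v * g⁻¹) := by
  have h1 := comm_sigma_conj σ hσ hfix v g
  -- `σ² v` commutes with the conjugates of `v`
  have h2 : Commute (σ (σ v)) (g * v * g⁻¹) := by
    have h3 := comm_sigma_conj σ hσ hfix (σ (σ v)) g⁻¹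
    rw [hσ] at h3
    have h4 : g * (g⁻¹ * σ (σ v) * g⁻¹⁻¹) * g⁻¹ = σ (σ v) := by group
    have h5 := h3.symm
    have h6 : Commute (g * (g⁻¹ * σ (σ v) * g⁻¹⁻¹) * g⁻¹) (g * v * g⁻¹) := by
      have := (h5.map (MulAut.conj g).toMonoidHom)
      simpa [MulAut.conj_apply] using this
    rwa [h4] at h6
  have h7 : v = (σ v * σ (σ v))⁻¹ := by
    have h8 := mul_three σ hσ hfix (σ v)
    rw [hσ] at h8
    rw [eq_inv_iff_mul_eq_one]
    have h9 : Commute v (σ v * σ (σ v)) := by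
      have : σ v * σ (σ v) = v⁻¹ := by
        rw [eq_inv_iff_mul_eq_one]; exact h8
      rw [this]; exact (Commute.refl _).inv_right
    rw [h9.eq]; exact h8
  have h10 : Commute (σ v * σ (σ v)) (g * v * g⁻¹) := h1.mul_left h2
  have h11 := h10.inv_left
  rw [← h7] at h11
  exact h11

end basic

section trilinear

variable {H : Type*} [Group H]

theorem comm_mul_left (x y c : H) : ⁅x * y, c⁆ = x * ⁅y, c⁆ * x⁻¹ * ⁅x, c⁆ := by
  simp only [commutatorElement_def]; group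

theorem comm_mul_right (a b c : H) : ⁅a, b * c⁆ = ⁅a, b⁆ * (b * ⁅a, c⁆ * b⁻¹) := by
  simp only [commutatorElement_def]; group

variable (hZ : ∀ a b c d : H, Commute ⁅⁅a, b⁆, c⁆ d)

include hZ

theorem T3 (a b c d : H) : ⁅⁅a, b⁆, c * d⁆ = ⁅⁅a, b⁆, c⁆ * ⁅⁅a, b⁆, d⁆ := by
  rw [comm_mul_right, ← (hZ a b d c).eq]
  group

theorem comm_central_left {z : H} (hz : ∀ c, Commute z c) (x c : H) : ⁅z * x, c⁆ = ⁅x, c⁆ := by
  simp only [commutatorElement_def]
  have := (hz c).eq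
  have h2 : z * x * c * (z * x)⁻¹ * c⁻¹ = x * (z * c * z⁻¹) * x⁻¹ * c⁻¹ := by
    rw [(hz x).eq]; group
  rw [h2, this]; group

theorem T1 (a d b c : H) : ⁅⁅a * d, b⁆, c⁆ = ⁅⁅a, b⁆, c⁆ * ⁅⁅d, b⁆, c⁆ := by
  have hz : ∀ e, Commute (⁅a, ⁅d, b⁆⁆) e := by
    intro e
    have : ⁅a, ⁅d, b⁆⁆ = ⁅⁅d, b⁆, a⁆⁻¹ := by rw [commutatorElement_inv]
    rw [this]
    exact (hZ d b a e).inv_left
  have h1 : ⁅a * d, b⁆ = ⁅a, ⁅d, b⁆⁆ * (⁅d, b⁆ * ⁅a, b⁆) := by
    rw [comm_mul_left]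
    simp only [commutatorElement_def]; group
  rw [h1, comm_central_left hZ hz, comm_mul_left]
  calc ⁅d, b⁆ * ⁅⁅a, b⁆, c⁆ * ⁅d, b⁆⁻¹ * ⁅⁅d, b⁆, c⁆ = ⁅⁅a, b⁆, c⁆ * (⁅d, b⁆ * ⁅d, b⁆⁻¹) * ⁅⁅d, b⁆, c⁆ := by
        rw [← (hZ a b c ⁅d, b⁆).eq]; group
    _ = ⁅⁅a, b⁆, c⁆ * ⁅⁅d, b⁆, c⁆ := by group

theorem T2 (a b d c : H) : ⁅⁅a, b * d⁆, c⁆ = ⁅⁅a, b⁆, c⁆ * ⁅⁅a, d⁆, c⁆ := by
  have hz : ∀ e, Commute (⁅b, ⁅a, d⁆⁆) e := by
    intro e
    have : ⁅b, ⁅a, d⁆⁆ = ⁅⁅a, d⁆, b⁆⁻¹ := by rw [commutatorElement_inv]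
    rw [this]
    exact (hZ a d b e).inv_left
  have h1 : ⁅a, b * d⁆ = ⁅b, ⁅a, d⁆⁆ * (⁅a, b⁆ * ⁅a, d⁆) := by
    have h2 : ⁅a, b * d⁆ = ⁅a, b⁆ * (⁅b, ⁅a, d⁆⁆ * ⁅a, d⁆) := by
      rw [comm_mul_right]
      simp only [commutatorElement_def]; group
    rw [h2, ← mul_assoc, ((hz _).eq).symm]
    group
  rw [h1, comm_central_left hZ hz, comm_mul_left]
  have := (hZ a d c ⁅⁅a, b⁆, c⁆).eq
  calc ⁅a, b⁆ * ⁅⁅a, d⁆, c⁆ * ⁅a, b⁆⁻¹ * ⁅⁅a, b⁆, c⁆ = ⁅⁅a, d⁆, c⁆ * (⁅a, b⁆ * ⁅a, b⁆⁻¹) * ⁅⁅a, b⁆, c⁆ := by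
        rw [← (hZ a d c ⁅a, b⁆).eq]; group
    _ = ⁅⁅a, d⁆, c⁆ * ⁅⁅a, b⁆, c⁆ := by group
    _ = ⁅⁅a, b⁆, c⁆ * ⁅⁅a, d⁆, c⁆ := this

theorem T_fixed (σ : H →* H) (hσ : ∀ x, σ (σ (σ x)) = x)
    (E1 : ∀ v g : H, Commute v (g * v * g⁻¹)) (E2 : ∀ v g : H, Commute (σ v) (g * v * g⁻¹))
    (a b c : H) : σ ⁅⁅a, b⁆, c⁆ = ⁅⁅a, b⁆, c⁆ := by
  have e1 : ∀ a b : H, Commute ⁅a, b⁆ a := by
    intro a b
    have h : ⁅a, b⁆ = a * (b * a * b⁻¹)⁻¹ := by
      simp only [commutatorElement_def]; group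
    rw [h]
    exact (Commute.refl a).mul_left (E1 a b).inv_right.symm
  have e2 : ∀ a b : H, Commute ⁅a, b⁆ b := by
    intro a b
    have h : ⁅a, b⁆ = (a * b * a⁻¹) * b⁻¹ := by
      simp only [commutatorElement_def]
    rw [h]
    exact (E1 b a).symm.mul_left (Commute.refl b).inv_left
  have e3 : ∀ a b : H, Commute ⁅a, b⁆ (σ a) := by
    intro a b
    have h : ⁅a, b⁆ = a * (b * a * b⁻¹)⁻¹ := by
      simp only [commutatorElement_def]; group
    rw [h]
    have h1 : Commute a (σ a) := by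
      have := (E2 a 1).symm
      simpa using this
    exact h1.mul_left (E2 a b).inv_right.symm
  have e4 : ∀ a b : H, Commute ⁅a, b⁆ (σ b) := by
    intro a b
    have h : ⁅a, b⁆ = (a * b * a⁻¹) * b⁻¹ := by
      simp only [commutatorElement_def]
    rw [h]
    have h1 : Commute b (σ b) := by
      have := (E2 b 1).symm
      simpa using this
    exact (E2 b a).symm.mul_left h1.inv_left
  have ta : ∀ a b : H, ⁅⁅a, b⁆, a⁆ = 1 := fun a b => commutatorElement_eq_one_iff_commute.mpr (e1 a b)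
  have tb : ∀ a b : H, ⁅⁅a, b⁆, b⁆ = 1 := fun a b => commutatorElement_eq_one_iff_commute.mpr (e2 a b)
  have tc : ∀ a b : H, ⁅⁅a, b⁆, σ a⁆ = 1 := fun a b => commutatorElement_eq_one_iff_commute.mpr (e3 a b)
  have td : ∀ a b : H, ⁅⁅a, b⁆, σ b⁆ = 1 := fun a b => commutatorElement_eq_one_iff_commute.mpr (e4 a b)
  have f : ∀ a b c : H, ⁅⁅a, b⁆, c⁆ * ⁅⁅a, c⁆, b⁆ = 1 := by
    intro a b c
    have h := tb a (b * c)
    rw [T2 hZ, T3 hZ, T3 hZ, tb, tb] at h
    simpa using h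
  have e : ∀ a b c : H, ⁅⁅a, b⁆, σ c⁆ * ⁅⁅a, c⁆, σ b⁆ = 1 := by
    intro a b c
    have h := td a (b * c)
    rw [map_mul, T2 hZ, T3 hZ, T3 hZ, td, td] at h
    simpa using h
  have hh : ∀ a b c : H, ⁅⁅a, b⁆, c⁆ * ⁅⁅c, b⁆, a⁆ = 1 := by
    intro a b c
    have h := ta (a * c) b
    rw [T1 hZ, T3 hZ, T3 hZ, ta, ta] at h
    simpa using h
  have i : ∀ a b c : H, ⁅⁅a, b⁆, σ c⁆ * ⁅⁅c, b⁆, σ a⁆ = 1 := by
    intro a b c
    have h := tc (a * c) b
    rw [map_mul, T1 hZ, T3 hZ, T3 hZ, tc, tc] at h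
    simpa using h
  have g : ∀ a b c : H, ⁅⁅a, b⁆, σ c⁆ = ⁅⁅a, σ b⁆, c⁆ := by
    intro a b c
    have h1 := e a b c
    have h2 := f a c (σ b)
    have h3 := eq_inv_of_mul_eq_one_left h1
    have h4 := eq_inv_of_mul_eq_one_right h2
    rw [h3, h4]
  have j : ∀ a b c : H, ⁅⁅σ a, b⁆, c⁆ = ⁅⁅a, b⁆, σ c⁆ := by
    intro a b c
    have h1 := i a b c
    have h2 := hh c b (σ a)
    have h3 := eq_inv_of_mul_eq_one_left h1
    have h4 := eq_inv_of_mul_eq_one_right h2
    rw [h3, h4]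
  rw [map_commutatorElement, map_commutatorElement, j, ← g, hσ]

end trilinear

section class2

variable {N : Type*} [Group N] [Finite N]

theorem mem_of_norm_mem (σ : N →* N) (hfix : ∀ x, σ x = x → x = 1) {K : Subgroup N}
    (hK : ∀ x ∈ K, σ x ∈ K) {u : N} (hu : u⁻¹ * σ u ∈ K) : u ∈ K := by
  let f : K → K := fun y => ⟨y⁻¹ * σ y, K.mul_mem (K.inv_mem y.2) (hK _ y.2)⟩
  have hf : Function.Injective f := by
    intro x y h
    have h1 : (x : N)⁻¹ * σ x = (y : N)⁻¹ * σ y := congrArg Subtype.val h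
    exact Subtype.ext (norm_inj σ hfix h1)
  obtain ⟨y, hy⟩ := (Finite.injective_iff_surjective.mp hf) ⟨_, hu⟩
  have h1 : (y : N)⁻¹ * σ y = u⁻¹ * σ u := congrArg Subtype.val hy
  have : (y : N) = u := norm_inj σ hfix h1
  exact this ▸ y.2

/-- A group with a fixed-point-free automorphism of order three which is nilpotent has class
at most two. -/
theorem lcs_two_eq_bot [Group.IsNilpotent N] (σ : N →* N) (hσ : ∀ x, σ (σ (σ x)) = x)
    (hfix : ∀ x, σ x = x → x = 1) : (⊤ : Subgroup N).lowerCentralSeries 2 = ⊥ := by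
  set K := (⊤ : Subgroup N).lowerCentralSeries 3 with hK
  haveI hKn : K.Normal := by rw [hK]; infer_instance
  have hKσ : ∀ x ∈ K, σ x ∈ K := by
    intro x hx
    let e : N ≃* N := MulEquiv.ofBijective σ ⟨fun a b hab => by
        have := congrArg (fun y => σ (σ y)) hab
        simpa only [hσ] using this, fun y => ⟨σ (σ y), hσ y⟩⟩
    have h0 : (K.comap e.toMonoidHom) = K := Subgroup.Characteristic.fixed (H := K) (inferInstance) e
    have h1 : x ∈ K.comap e.toMonoidHom := by rw [h0]; exact hx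
    exact h1
  let σb : N ⧸ K →* N ⧸ K := QuotientGroup.map K K σ (fun x hx => hKσ x hx)
  have hσb : ∀ x : N, σb (x : N ⧸ K) = ((σ x : N) : N ⧸ K) := fun x => rfl
  have hZ : ∀ a b c d : N ⧸ K, Commute ⁅⁅a, b⁆, c⁆ d := by
    intro a b c d
    induction a using QuotientGroup.induction_on with | _ a
    induction b using QuotientGroup.induction_on with | _ b
    induction c using QuotientGroup.induction_on with | _ c
    induction d using QuotientGroup.induction_on with | _ d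
    rw [← commutatorElement_eq_one_iff_commute]
    have h1 : ⁅⁅a, b⁆, c⁆ ∈ (⊤ : Subgroup N).lowerCentralSeries 2 :=
      commutator_mem_commutator (commutator_mem_commutator (mem_top a) (mem_top b)) (mem_top c)
    have h2 : ⁅⁅⁅a, b⁆, c⁆, d⁆ ∈ K := commutator_mem_commutator h1 (mem_top d)
    have h3 : ((⁅⁅⁅a, b⁆, c⁆, d⁆ : N) : N ⧸ K) = 1 := (QuotientGroup.eq_one_iff _).mpr h2
    simpa only [QuotientGroup.mk_mul, QuotientGroup.mk_inv, commutatorElement_def] using h3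
  have hσ3 : ∀ x : N ⧸ K, σb (σb (σb x)) = x := by
    intro x
    induction x using QuotientGroup.induction_on with | _ x
    rw [hσb, hσb, hσb, hσ]
  have E1 : ∀ v g : N ⧸ K, Commute v (g * v * g⁻¹) := by
    intro v g
    induction v using QuotientGroup.induction_on with | _ v
    induction g using QuotientGroup.induction_on with | _ g
    have := (comm_conj σ hσ hfix v g).map (QuotientGroup.mk' K)
    simpa only [map_mul, map_inv, QuotientGroup.mk'_apply] using this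
  have E2 : ∀ v g : N ⧸ K, Commute (σb v) (g * v * g⁻¹) := by
    intro v g
    induction v using QuotientGroup.induction_on with | _ v
    induction g using QuotientGroup.induction_on with | _ g
    have := (comm_sigma_conj σ hσ hfix v g).map (QuotientGroup.mk' K)
    simpa only [map_mul, map_inv, QuotientGroup.mk'_apply, hσb] using this
  have hT : ∀ a b c : N, ⁅⁅a, b⁆, c⁆ ∈ K := by
    intro a b c
    apply mem_of_norm_mem σ hfix hKσ
    have h1 := T_fixed hZ σb hσ3 E1 E2 (a : N ⧸ K) (b : N ⧸ K) (c : N ⧸ K)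
    have h2 : σb ((⁅⁅a, b⁆, c⁆ : N) : N ⧸ K) = ((⁅⁅a, b⁆, c⁆ : N) : N ⧸ K) := by
      simpa only [QuotientGroup.mk_mul, QuotientGroup.mk_inv, commutatorElement_def] using h1
    rw [hσb] at h2
    exact (QuotientGroup.eq.mp h2.symm)
  have h1K : (⊤ : Subgroup N).lowerCentralSeries 1 ≤ (Subgroup.center (N ⧸ K)).comap (QuotientGroup.mk' K) := by
    change ⁅(⊤ : Subgroup N), ⊤⁆ ≤ _
    rw [commutator_le]
    intro a _ b _
    rw [Subgroup.mem_comap, Subgroup.mem_center_iff]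
    intro c
    induction c using QuotientGroup.induction_on with | _ c
    have h3 : ((⁅⁅a, b⁆, c⁆ : N) : N ⧸ K) = 1 := (QuotientGroup.eq_one_iff _).mpr (hT a b c)
    have h4 : ⁅((⁅a, b⁆ : N) : N ⧸ K), (c : N ⧸ K)⁆ = 1 := by
      simpa only [QuotientGroup.mk_mul, QuotientGroup.mk_inv, commutatorElement_def] using h3
    exact (commutatorElement_eq_one_iff_commute.mp h4).symm.eq
  have h2K : (⊤ : Subgroup N).lowerCentralSeries 2 ≤ K := by
    change ⁅(⊤ : Subgroup N).lowerCentralSeries 1, ⊤⁆ ≤ K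
    rw [commutator_le]
    intro h hh c _
    have h5 := h1K hh
    rw [Subgroup.mem_comap, Subgroup.mem_center_iff] at h5
    have h6 := h5 (c : N ⧸ K)
    have h7 : ⁅((h : N) : N ⧸ K), (c : N ⧸ K)⁆ = 1 := commutatorElement_eq_one_iff_commute.mpr (Commute.symm h6)
    have h8 : ((⁅h, c⁆ : N) : N ⧸ K) = 1 := by
      simpa only [QuotientGroup.mk_mul, QuotientGroup.mk_inv, commutatorElement_def] using h7
    exact (QuotientGroup.eq_one_iff _).mp h8
  obtain ⟨n, hn⟩ := Subgroup.nilpotent_iff_lowerCentralSeries.mp (inferInstance : Group.IsNilpotent N)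
  have hall : ∀ k : ℕ, (⊤ : Subgroup N).lowerCentralSeries 2 ≤ (⊤ : Subgroup N).lowerCentralSeries (2 + k) := by
    intro k
    induction k with
    | zero => exact le_rfl
    | succ k ih =>
      have h9 : (⊤ : Subgroup N).lowerCentralSeries (2 + (k + 1)) = ⁅(⊤ : Subgroup N).lowerCentralSeries (2 + k), ⊤⁆ := rfl
      rw [h9]
      exact h2K.trans (commutator_mono ih le_rfl)
  have h10 : (⊤ : Subgroup N).lowerCentralSeries (2 + n) ≤ (⊤ : Subgroup N).lowerCentralSeries n :=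
    Subgroup.lowerCentralSeries_antitone _ (by omega)
  rw [eq_bot_iff, ← hn]
  exact (hall n).trans h10

end class2

section s3

variable {N : Type*} [Group N] [Finite N] [Group.IsNilpotent N]

theorem elem_of_s3 (σ τ : N →* N) (hσ : ∀ x, σ (σ (σ x)) = x) (hfix : ∀ x, σ x = x → x = 1)
    (hτ : ∀ x, τ (τ x) = x) (hrel : ∀ x, τ (σ x) = σ (σ (τ x)))
    (hP : ∀ x, (x * τ x) ^ 2 = 1) :
    (∀ x y : N, Commute x y) ∧ ∀ x : N, x ^ 2 = 1 := by
  have h3 : (⊤ : Subgroup N).lowerCentralSeries 2 = ⊥ := lcs_two_eq_bot σ hσ hfix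
  have hcent : ∀ a b c : N, Commute ⁅a, b⁆ c := by
    intro a b c
    have h1 : ⁅⁅a, b⁆, c⁆ ∈ (⊤ : Subgroup N).lowerCentralSeries 2 :=
      commutator_mem_commutator (commutator_mem_commutator (mem_top a) (mem_top b)) (mem_top c)
    rw [h3, mem_bot] at h1
    exact commutatorElement_eq_one_iff_commute.mp h1
  have bl : ∀ a b c : N, ⁅a * b, c⁆ = ⁅a, c⁆ * ⁅b, c⁆ := by
    intro a b c
    rw [comm_mul_left, ← (hcent b c a).eq]
    have := (hcent b c ⁅a, c⁆).eq
    calc ⁅b, c⁆ * a * a⁻¹ * ⁅a, c⁆ = ⁅b, c⁆ * ⁅a, c⁆ := by group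
      _ = ⁅a, c⁆ * ⁅b, c⁆ := this
  have br : ∀ a b c : N, ⁅a, b * c⁆ = ⁅a, b⁆ * ⁅a, c⁆ := by
    intro a b c
    rw [comm_mul_right, ← (hcent a c b).eq]
    group
  have cinv : ∀ a b : N, ⁅a, b⁆⁻¹ = ⁅b, a⁆ := fun a b => commutatorElement_inv a b
  let of : N →* Abelianization N := Abelianization.of
  let σa : Abelianization N →* Abelianization N := Abelianization.map σ
  let τa : Abelianization N →* Abelianization N := Abelianization.map τ
  have hσo : ∀ x, σa (of x) = of (σ x) := fun x => Abelianization.map_of _ _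
  have hτo : ∀ x, τa (of x) = of (τ x) := fun x => Abelianization.map_of _ _
  have hofs : ∀ a : Abelianization N, ∃ x, of x = a := by
    intro a
    obtain ⟨x, hx⟩ := QuotientGroup.mk_surjective a
    exact ⟨x, hx⟩
  have hofeq : ∀ x y : N, of x = of y → x⁻¹ * y ∈ commutator N := by
    intro x y h
    exact QuotientGroup.eq.mp h
  have hof1 : ∀ x ∈ commutator N, of x = 1 := by
    intro x hx
    exact (QuotientGroup.eq_one_iff _).mpr hx
  have hσ3a : ∀ a, σa (σa (σa a)) = a := by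
    intro a
    obtain ⟨x, rfl⟩ := hofs a
    rw [hσo, hσo, hσo, hσ]
  have hτa2 : ∀ a, τa (τa a) = a := by
    intro a
    obtain ⟨x, rfl⟩ := hofs a
    rw [hτo, hτo, hτ]
  have hrela : ∀ a, τa (σa a) = σa (σa (τa a)) := by
    intro a
    obtain ⟨x, rfl⟩ := hofs a
    rw [hσo, hτo, hτo, hσo, hσo, hrel]
  have hPa : ∀ a, (a * τa a) ^ 2 = 1 := by
    intro a
    obtain ⟨x, rfl⟩ := hofs a
    rw [hτo, ← map_mul, ← map_pow, hP, map_one]
  have hCσ : ∀ x ∈ commutator N, σ x ∈ commutator N := by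
    intro x hx
    have h1 : commutator N ≤ (commutator N).comap σ := by
      change ⁅(⊤ : Subgroup N), ⊤⁆ ≤ _
      rw [commutator_le]
      intro a _ b _
      rw [Subgroup.mem_comap, map_commutatorElement]
      exact commutator_mem_commutator (mem_top _) (mem_top _)
    exact h1 hx
  -- squares lie in the commutator subgroup
  have hsq : ∀ a : Abelianization N, σa (a ^ 2) = σa (σa (a ^ 2)) := by
    intro a
    have h1 := hPa a
    rw [mul_pow, ← map_pow] at h1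
    have h4 : τa (a ^ 2) = (a ^ 2)⁻¹ := eq_inv_of_mul_eq_one_right h1
    have h2 : σa (a ^ 2) * σa (σa (τa (a ^ 2))) = 1 := by
      have h5 := hPa (σa a)
      rw [hrela, mul_pow] at h5
      simpa only [map_pow] using h5
    rw [h4, map_inv, map_inv] at h2
    exact mul_inv_eq_one.mp h2
  have hsqC : ∀ x : N, x ^ 2 ∈ commutator N := by
    intro x
    have h1 := hsq (of x)
    have h2 : of (σ (x ^ 2)) = of (σ (σ (x ^ 2))) := by
      rw [← hσo, ← hσo, ← hσo, map_pow]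
      exact h1
    have h3 := hofeq _ _ h2
    have h4 := mem_of_norm_mem σ hfix hCσ h3
    have h5 := hCσ _ (hCσ _ h4)
    rwa [hσ] at h5
  have hCc : ∀ n ∈ commutator N, ∀ c, Commute n c := by
    have h1 : commutator N ≤ center N := by
      change ⁅(⊤ : Subgroup N), ⊤⁆ ≤ _
      rw [commutator_le]
      intro a _ b _
      rw [Subgroup.mem_center_iff]
      intro c
      exact (hcent a b c).symm.eq
    intro n hn c
    exact ((Subgroup.mem_center_iff.mp (h1 hn)) c).symm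
  have hc2 : ∀ a b : N, ⁅a, b⁆ ^ 2 = 1 := by
    intro a b
    have h1 : ⁅a * a, b⁆ = 1 := by
      apply commutatorElement_eq_one_iff_commute.mpr
      have := hCc _ (hsqC a) b
      rwa [pow_two] at this
    rw [bl] at h1
    rw [pow_two]; exact h1
  have hC2 : ∀ n ∈ commutator N, n ^ 2 = 1 := by
    let K₂ : Subgroup N :=
      { carrier := {n | n ∈ commutator N ∧ n ^ 2 = 1}
        one_mem' := ⟨one_mem _, one_pow _⟩
        mul_mem' := fun {a b} ha hb => ⟨mul_mem ha.1 hb.1, by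
          rw [(hCc a ha.1 b).mul_pow, ha.2, hb.2, one_mul]⟩
        inv_mem' := fun {a} ha => ⟨inv_mem ha.1, by rw [inv_pow, ha.2, inv_one]⟩ }
    have h1 : commutator N ≤ K₂ := by
      change ⁅(⊤ : Subgroup N), ⊤⁆ ≤ _
      rw [commutator_le]
      intro a _ b _
      exact ⟨commutator_mem_commutator (mem_top _) (mem_top _), hc2 a b⟩
    intro n hn
    exact (h1 hn).2
  -- elements fixed modulo the commutator subgroup
  have hA2 : ∀ a : Abelianization N, a ^ 2 = 1 := by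
    intro a
    obtain ⟨x, rfl⟩ := hofs a
    rw [← map_pow]
    exact hof1 _ (hsqC x)
  have hinv : ∀ a : Abelianization N, a⁻¹ = a := by
    intro a
    have := hA2 a
    rw [pow_two] at this
    exact (eq_inv_of_mul_eq_one_left this).symm
  have hthree : ∀ a : Abelianization N, a * σa a * σa (σa a) = 1 := by
    intro a
    obtain ⟨x, rfl⟩ := hofs a
    rw [hσo, hσo, ← map_mul, ← map_mul, mul_three σ hσ hfix, map_one]
  have fixsq : ∀ c, of (τ c) = of c → c ^ 2 = 1 := by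
    intro c hc
    have h1 : of c⁻¹ = of (σ c * τ (σ c)) := by
      have e1 : of (τ (σ c)) = σa (σa (of c)) := by
        rw [hrel, ← hσo, ← hσo, hc]
      rw [map_mul, e1, ← hσo, map_inv]
      have := hthree (of c)
      rw [mul_assoc] at this
      exact (eq_inv_of_mul_eq_one_right this).symm
    have h2 := hofeq _ _ h1
    rw [inv_inv] at h2
    set n := c * (σ c * τ (σ c)) with hn
    have h4 : σ c * τ (σ c) = c⁻¹ * n := by rw [hn]; group
    have h5 := hP (σ c)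
    rw [h4, ((hCc n h2 c⁻¹).symm).mul_pow, hC2 n h2, mul_one, inv_pow] at h5
    exact inv_eq_one.mp h5
  have fixmul : ∀ c d, of (τ c) = of c → of (τ d) = of d → of (τ (c * d)) = of (c * d) := by
    intro c d hc hd
    rw [map_mul, map_mul, map_mul, hc, hd]
  have fixcomm : ∀ c d, of (τ c) = of c → of (τ d) = of d → Commute c d := by
    intro c d hc hd
    have h1 := fixsq _ (fixmul c d hc hd)
    have h2 := fixsq c hc
    have h3 := fixsq d hd
    rw [pow_two] at h1 h2 h3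
    have h4 : c * d * (c * d) = 1 := h1
    have hci : c⁻¹ = c := (eq_inv_of_mul_eq_one_left h2).symm
    have hdi : d⁻¹ = d := (eq_inv_of_mul_eq_one_left h3).symm
    have h5 : c * d = (c * d)⁻¹ := eq_inv_of_mul_eq_one_left h4
    change c * d = d * c
    rw [h5, mul_inv_rev, hci, hdi]
  have polar : ∀ x y : N, ⁅x, σ y⁆ * ⁅y, σ x⁆ = 1 := by
    intro x y
    have h1 : ⁅x * y, σ (x * y)⁆ = 1 :=
      commutatorElement_eq_one_iff_commute.mpr (comm_sigma σ hσ hfix _)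
    rw [map_mul, bl, br, br,
      commutatorElement_eq_one_iff_commute.mpr (comm_sigma σ hσ hfix x),
      commutatorElement_eq_one_iff_commute.mpr (comm_sigma σ hσ hfix y)] at h1
    simpa using h1
  have psi : ∀ c d, of (τ c) = of c → of (τ d) = of d → ⁅c, σ d⁆ = 1 := by
    intro c d hc hd
    apply hfix
    rw [map_commutatorElement]
    have h1 : σ (σ d) = (d * σ d)⁻¹ := by
      have h2 := mul_three σ hσ hfix d
      exact eq_inv_of_mul_eq_one_right h2
    rw [h1]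
    have h3 : ⁅σ c, (d * σ d)⁻¹⁆ = ⁅σ c, d * σ d⁆⁻¹ := by
      have h4 : ⁅σ c, (d * σ d)⁻¹ * (d * σ d)⁆ = 1 := by simp
      rw [br] at h4
      exact eq_inv_of_mul_eq_one_left h4
    rw [h3, br]
    have h5 : ⁅σ c, σ d⁆ = 1 := by
      rw [← map_commutatorElement, commutatorElement_eq_one_iff_commute.mpr (fixcomm c d hc hd), map_one]
    rw [h5, mul_one, cinv]
    have h6 := polar c d
    have h7 : ⁅d, σ c⁆ = ⁅c, σ d⁆⁻¹ := eq_inv_of_mul_eq_one_right h6
    rw [h7]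
    have h8 := hc2 c (σ d)
    rw [pow_two] at h8
    exact (eq_inv_of_mul_eq_one_left h8).symm
  have decomp : ∀ x : N, ∃ c d, of (τ c) = of c ∧ of (τ d) = of d ∧ x = c * σ d := by
    intro x
    have hβ : of (τ (x * τ x)) = of (x * τ x) := by
      rw [map_mul, hτ, map_mul, map_mul, mul_comm]
    refine ⟨x * (σ (x * τ x))⁻¹, x * τ x, ?_, hβ, by group⟩
    set β := x * τ x with hβd
    have e1 : of (τ (σ β)) = σa (σa (of β)) := by
      rw [hrel, ← hσo, ← hσo, hβ]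
    have lhs : of (τ (x * (σ β)⁻¹)) = of (τ x) * (σa (σa (of β)))⁻¹ := by
      rw [map_mul, map_mul, map_inv, map_inv, e1]
    have rhs : of (x * (σ β)⁻¹) = of x * (σa (of β))⁻¹ := by
      rw [map_mul, map_inv, hσo]
    rw [lhs, rhs, hinv, hinv]
    have h1 := hthree (of β)
    have h2 : of β = of x * of (τ x) := by rw [hβd, map_mul]
    have h3 : (of (τ x) * σa (σa (of β))) * (of x * σa (of β)) = 1 := by
      rw [← h1]
      nth_rewrite 3 [h2]
      ac_rfl
    have h4 := eq_inv_of_mul_eq_one_left h3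
    rw [hinv] at h4
    exact h4
  have hcomm : ∀ x y : N, Commute x y := by
    intro x y
    obtain ⟨c, d, hc, hd, rfl⟩ := decomp x
    obtain ⟨c', d', hc', hd', rfl⟩ := decomp y
    rw [← commutatorElement_eq_one_iff_commute, bl, br, br,
      commutatorElement_eq_one_iff_commute.mpr (fixcomm c c' hc hc'), psi c d' hc hd']
    have h1 : ⁅σ d, c'⁆ = 1 := by
      rw [← cinv, psi c' d hc' hd, inv_one]
    have h2 : ⁅σ d, σ d'⁆ = 1 := by
      rw [← map_commutatorElement, commutatorElement_eq_one_iff_commute.mpr (fixcomm d d' hd hd'), map_one]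
    rw [h1, h2]; simp
  refine ⟨hcomm, fun x => ?_⟩
  obtain ⟨c, d, hc, hd, rfl⟩ := decomp x
  rw [(hcomm c (σ d)).mul_pow, fixsq c hc, ← map_pow, fixsq d hd]
  simp

end s3

end Cfsg.Agent.Lib.PGroups.Fpf3
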