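import Cfsg.Agent.Lib.Basic.Index

/-!
# `p`-elements whose conjugacy class has `p`-power size
-/

set_option autoImplicit false

namespace Cfsg.Agent.Lib.PGroups

open Subgroup

variable {G : Type*} [Group G] [Finite G]

/-- A `p`-element with a class of `p`-power size has all of its conjugates in any Sylow subgroup
containing it. -/
theorem conj_mem_sylow_of_index {p : ℕ} [hp : Fact p.Prime] {x : G} (P : Sylow p G)
    (hxP : x ∈ (P : Subgroup G)) {a : ℕ} (ha : (centralizer ({x} : Set G)).index = p ^ a) (g : G) :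
    g * x * g⁻¹ ∈ (P : Subgroup G) := by
  have hcop : (P : Subgroup G).index.Coprime (centralizer ({x} : Set G)).index := by
    rw [ha]
    exact Nat.Coprime.pow_right _ ((Nat.Prime.coprime_iff_not_dvd hp.out).mpr P.not_dvd_index).symm
  obtain ⟨s, hs, c, hc, rfl⟩ := Cfsg.Agent.Lib.Basic.exists_mul_of_index_coprime _ _ hcop g
  have hcx : c * x * c⁻¹ = x := by
    rw [mem_centralizer_singleton_iff] at hc
    rw [hc]; group
  have : s * c * x * (s * c)⁻¹ = s * (c * x * c⁻¹) * s⁻¹ := by group
  rw [this, hcx]
  exact mul_mem (mul_mem hs hxP) (inv_mem hs)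

/-- A `p`-element with a class of `p`-power size lies in a normal `p`-subgroup. -/
theorem normalClosure_isPGroup_of_index {p : ℕ} [hp : Fact p.Prime] {x : G} {k : ℕ}
    (hk : orderOf x = p ^ k) {a : ℕ} (ha : (centralizer ({x} : Set G)).index = p ^ a) :
    IsPGroup p (normalClosure ({x} : Set G)) := by
  have h1 : IsPGroup p (zpowers x) := by
    apply IsPGroup.of_card (n := k)
    rw [Nat.card_zpowers, hk]
  obtain ⟨P, hP⟩ := h1.exists_le_sylow
  have hxP : x ∈ (P : Subgroup G) := hP (mem_zpowers x)
  have h2 : normalClosure ({x} : Set G) ≤ (P : Subgroup G) := by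
    rw [normalClosure, closure_le]
    intro y hy
    rw [Group.mem_conjugatesOfSet_iff] at hy
    obtain ⟨x', hx', hc⟩ := hy
    rw [Set.mem_singleton_iff] at hx'
    subst hx'
    obtain ⟨g, rfl⟩ := isConj_iff.mp hc
    exact conj_mem_sylow_of_index P hxP ha g
  exact P.2.to_le h2

end Cfsg.Agent.Lib.PGroups
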