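import Cfsg.Agent.Lib.PGroups.Frobenius

/-! Consequences of Frobenius' theorem; decomposition of solution sets into commuting parts. -/

set_option autoImplicit false

namespace Cfsg.Agent.Lib.PGroups

open Subgroup Finset

variable {G : Type*} [Group G]

open Classical in
/-- Elements `x` with `x ^ (s * t) = 1` are the products `u * v` of commuting `u, v` with `u ^ s = 1`,
`v ^ t = 1`, uniquely. -/
theorem card_filter_pow_eq_sum [Fintype G] {s t : ℕ} (hc : s.Coprime t) (Pr : G → Prop) :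
    (univ.filter fun x : G => x ^ (s * t) = 1 ∧ Pr x).card =
      ∑ u ∈ univ.filter (fun u : G => u ^ s = 1),
        (univ.filter fun v : G => v ^ t = 1 ∧ Commute u v ∧ Pr (u * v)).card := by
  obtain ⟨α, hα1, hα2⟩ : ∃ α : ℕ, α ≡ 1 [MOD s] ∧ α ≡ 0 [MOD t] :=
    ⟨Nat.chineseRemainder hc 1 0, (Nat.chineseRemainder hc 1 0).2⟩
  obtain ⟨β, hβ1, hβ2⟩ : ∃ β : ℕ, β ≡ 0 [MOD s] ∧ β ≡ 1 [MOD t] :=
    ⟨Nat.chineseRemainder hc 0 1, (Nat.chineseRemainder hc 0 1).2⟩
  have hsum : α + β ≡ 1 [MOD s * t] :=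
    (Nat.modEq_and_modEq_iff_modEq_mul hc).mp ⟨hα1.add hβ1, hα2.add hβ2⟩
  rw [Finset.card_eq_sum_card_fiberwise (f := fun x : G => x ^ α)
    (t := univ.filter fun u : G => u ^ s = 1)]
  · apply Finset.sum_congr rfl
    intro u hu
    have hus : u ^ s = 1 := (Finset.mem_filter.mp hu).2
    apply Finset.card_bij' (fun x _ => x ^ β) (fun v _ => u * v)
    · intro x hx
      simp only [Finset.mem_filter, Finset.mem_univ, true_and] at hx ⊢
      obtain ⟨⟨hx1, hxP⟩, hx2⟩ := hx
      have hxu : u * x ^ β = x := by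
        rw [← hx2, ← pow_add, pow_eq_of_modEq hx1 hsum, pow_one]
      refine ⟨?_, ?_, by rw [hxu]; exact hxP⟩
      · rw [← pow_mul]
        have hdvd : s ∣ β := (Nat.modEq_zero_iff_dvd).mp hβ1
        obtain ⟨c, hc'⟩ := hdvd
        rw [hc', show s * c * t = s * t * c by ring, pow_mul, hx1, one_pow]
      · rw [← hx2]
        exact Commute.pow_pow_self x α β
    · intro v hv
      simp only [Finset.mem_filter, Finset.mem_univ, true_and] at hv ⊢
      obtain ⟨hv1, hv2, hv3⟩ := hv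
      refine ⟨⟨?_, hv3⟩, ?_⟩
      · rw [hv2.mul_pow, pow_mul, hus, one_pow, one_mul, mul_comm, pow_mul, hv1, one_pow]
      · rw [hv2.mul_pow, pow_eq_of_modEq hus hα1, pow_one, pow_eq_of_modEq hv1 hα2, pow_zero, mul_one]
    · intro x hx
      simp only [Finset.mem_filter, Finset.mem_univ, true_and] at hx
      obtain ⟨⟨hx1, -⟩, hx2⟩ := hx
      rw [← hx2, ← pow_add, pow_eq_of_modEq hx1 hsum, pow_one]
    · intro v hv
      simp only [Finset.mem_filter, Finset.mem_univ, true_and] at hv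
      obtain ⟨hv1, hv2, -⟩ := hv
      rw [hv2.mul_pow, pow_eq_of_modEq hus hβ1, pow_zero, one_mul, pow_eq_of_modEq hv1 hβ2, pow_one]
  · intro x hx
    have hx1 : x ^ (s * t) = 1 := by
      have := (Finset.mem_filter.mp hx).2
      exact this.1
    simp only [Finset.coe_filter, Finset.mem_univ, true_and, Set.mem_ofPred_eq]
    rw [← pow_mul]
    have hdvd : t ∣ α := (Nat.modEq_zero_iff_dvd).mp hα2
    obtain ⟨c, hc'⟩ := hdvd
    rw [hc', show t * c * s = s * t * c by ring, pow_mul, hx1, one_pow]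

/-- Frobenius for any `t`, `gcd t |H|` version. -/
theorem gcd_dvd_sol (H : Type*) [Group H] [Finite H] (t : ℕ) : Nat.gcd t (Nat.card H) ∣ sol H t := by
  rw [sol_eq_sol_gcd H t]
  exact frobenius (Nat.gcd_dvd_right _ _)

/-- `t ∣ [G : C(u)] * #{v ∈ C(u) | v ^ t = 1}` whenever `t ∣ |G|`. -/
theorem dvd_index_mul_cnt [Finite G] {t : ℕ} (ht : t ∣ Nat.card G) (u : G) :
    t ∣ (centralizer ({u} : Set G)).index * cnt t u := by
  rw [cnt_eq_sol]
  have h2 : t ∣ (centralizer ({u} : Set G)).index * Nat.card (centralizer ({u} : Set G)) := by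
    rw [Subgroup.index_mul_card]; exact ht
  exact (dvd_mul_gcd_of_dvd_mul h2).trans (Nat.mul_dvd_mul_left _ (gcd_dvd_sol _ t))

end Cfsg.Agent.Lib.PGroups
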