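import Mathlib
import Cfsg.Agent.Lib.Perm.JordanCycle

/-!
# Primitive groups generated by two prime-order permutations

Generic lemmas: translates of blocks under a prime cycle, transitivity and primitivity of
`⟨x, y⟩` when `y` is a long prime cycle, the reduction to the moved points.
-/

set_option autoImplicit false
set_option linter.unusedSectionVars false
set_option linter.style.haveILetI false

namespace Cfsg.Agent.Lib.PGroups

open MulAction Subgroup Equiv.Perm
open scoped Pointwise

variable {Δ : Type*} [Fintype Δ] [DecidableEq Δ]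

/-- Powers of an element of prime order not divisible by the order generate it. -/
theorem exists_pow_pow_eq_of_prime_order {G : Type*} [Group G] {y : G} {q : ℕ} (hq : q.Prime)
    (ho : orderOf y = q) {k : ℕ} (hk : ¬ q ∣ k) : ∃ m : ℕ, (y ^ k) ^ m = y := by
  have hc : Nat.Coprime k (orderOf y) := by
    rw [ho]
    exact ((Nat.Prime.coprime_iff_not_dvd hq).mpr hk).symm
  exact exists_pow_eq_self_of_coprime hc

/-- The core translates lemma for a prime cycle. -/
theorem translates_core {y : Equiv.Perm Δ} (hc : y.IsCycle) {q : ℕ} (hq : q.Prime)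
    (hs : y.support.card = q) (B : Set Δ)
    (hB : ∀ k : ℕ, ∀ u ∈ B, (y ^ k) u ∈ B → ∀ w ∈ B, (y ^ k) w ∈ B) {z : Δ} (hzB : z ∈ B)
    (hz : z ∈ y.support) :
    (∀ u ∈ y.support, u ∈ B) ∨ q * B.ncard ≤ Fintype.card Δ := by
  classical
  have ho : orderOf y = q := by rw [hc.orderOf, hs]
  by_cases h : ∃ k : ℕ, ∃ u ∈ B, (y ^ k) u ∈ B ∧ ¬ q ∣ k
  · left
    obtain ⟨k, u, hu, hu', hk⟩ := h
    obtain ⟨m, hm⟩ := exists_pow_pow_eq_of_prime_order hq ho hk
    have hstep : ∀ w ∈ B, (y ^ k) w ∈ B := hB k u hu hu'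
    have hstep2 : ∀ (n : ℕ), ∀ w ∈ B, ((y ^ k) ^ n) w ∈ B := by
      intro n
      induction n with
      | zero => intro w hw; simpa using hw
      | succ n ih =>
        intro w hw
        rw [pow_succ]
        exact ih _ (hstep w hw)
    have hy : ∀ w ∈ B, y w ∈ B := by
      intro w hw
      have := hstep2 m w hw
      rwa [hm] at this
    have hy2 : ∀ (n : ℕ), ∀ w ∈ B, (y ^ n) w ∈ B := by
      intro n
      induction n with
      | zero => intro w hw; simpa using hw
      | succ n ih =>
        intro w hw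
        rw [pow_succ]
        exact ih _ (hy w hw)
    intro v hv
    obtain ⟨n, hn⟩ := hc.exists_pow_eq (mem_support.mp hz) (mem_support.mp hv)
    rw [← hn]
    exact hy2 n z hzB
  · right
    push Not at h
    haveI : NeZero q := ⟨hq.ne_zero⟩
    let f : Fin q × B → Δ := fun a => (y ^ (a.1 : ℕ)) (a.2 : Δ)
    have hf : Function.Injective f := by
      have key : ∀ (i j : Fin q) (u v : B), (i : ℕ) ≤ j → f (i, u) = f (j, v) → (i, u) = (j, v) := by
        intro i j u v hij he
        have he' : (y ^ (i : ℕ)) (u : Δ) = (y ^ (j : ℕ)) (v : Δ) := he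
        have h1 : (y ^ ((j : ℕ) - i)) (v : Δ) = u := by
          have h2 : y ^ (j : ℕ) = y ^ (i : ℕ) * y ^ ((j : ℕ) - i) := by
            rw [← pow_add, Nat.add_sub_cancel' hij]
          rw [h2] at he'
          exact ((y ^ (i : ℕ)).injective he').symm
        have h3 := h ((j : ℕ) - i) v v.2 (by rw [h1]; exact u.2)
        have h4 : (j : ℕ) - i = 0 := by
          apply Nat.eq_zero_of_dvd_of_lt h3
          have := j.2
          omega
        have h5 : (i : ℕ) = j := by omega
        have h6 : i = j := Fin.ext h5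
        subst h6
        rw [h4, pow_zero] at h1
        have h7 : v = u := Subtype.ext h1
        rw [h7]
      rintro ⟨i, u⟩ ⟨j, v⟩ he
      rcases le_total (i : ℕ) j with hij | hij
      · exact key i j u v hij he
      · exact (key j i v u hij he.symm).symm
    have hcard := Nat.card_le_card_of_injective f hf
    rw [Nat.card_prod, Nat.card_fin, Nat.card_coe_set_eq, Nat.card_eq_fintype_card] at hcard
    exact hcard

/-- A group containing a long prime cycle is primitive as soon as it is transitive. -/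
theorem isPreprimitive_of_large_cycle {G : Subgroup (Equiv.Perm Δ)} [htr : IsPretransitive G Δ]
    {y : Equiv.Perm Δ} (hyG : y ∈ G) (hc : y.IsCycle) {q : ℕ} (hq : q.Prime)
    (hs : y.support.card = q) (hd : Fintype.card Δ < 2 * q) : IsPreprimitive G Δ := by
  classical
  refine { isTrivialBlock_of_isBlock := ?_ }
  intro B hB
  by_contra hnt
  simp only [IsTrivialBlock, not_or] at hnt
  obtain ⟨hns, hne⟩ := hnt
  obtain ⟨a, ha, b, hb, hab⟩ := Set.not_subsingleton_iff.mp hns
  have hsne : y.support.Nonempty := by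
    rw [← Finset.card_pos, hs]
    exact hq.pos
  obtain ⟨z, hz⟩ := hsne
  obtain ⟨g, hg⟩ := exists_smul_eq G a z
  set C : Set Δ := g • B with hC
  have hCb : IsBlock G C := hB.translate g
  have hzC : z ∈ C := ⟨a, ha, hg⟩
  have hbC : g • b ∈ C := ⟨b, hb, rfl⟩
  have hzb : z ≠ g • b := by
    intro h
    rw [← hg] at h
    exact hab (MulAction.injective g h)
  have hCne : C ≠ Set.univ := by
    intro h
    apply hne
    have : g⁻¹ • C = B := by rw [hC, inv_smul_smul]
    rw [← this, h, Set.smul_set_univ]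
  have hCn2 : 2 ≤ C.ncard := by
    have : 1 < C.ncard := (Set.one_lt_ncard (Set.toFinite C)).mpr ⟨z, hzC, g • b, hbC, hzb⟩
    exact this
  have htrans : ∀ k : ℕ, ∀ u ∈ C, (y ^ k) u ∈ C → ∀ w ∈ C, (y ^ k) w ∈ C := by
    intro k u hu hu' w hw
    have hk : y ^ k ∈ G := G.pow_mem hyG k
    have h1 := hCb.smul_eq_of_mem (g := (⟨y ^ k, hk⟩ : G)) hu hu'
    have h2 : (⟨y ^ k, hk⟩ : G) • w ∈ (⟨y ^ k, hk⟩ : G) • C := ⟨w, hw, rfl⟩
    rw [h1] at h2
    exact h2
  rcases translates_core hc hq hs C htrans hzC hz with h | h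
  · -- `C` contains the support of `y`.
    have hqC : q ≤ C.ncard := by
      rw [← hs, ← Set.ncard_coe_finset]
      exact Set.ncard_le_ncard (fun u hu => h u hu) (Set.toFinite _)
    obtain ⟨u, hu⟩ : ∃ u, u ∉ C := by
      by_contra hall
      push Not at hall
      exact hCne (Set.eq_univ_of_forall hall)
    obtain ⟨g', hg'⟩ := exists_smul_eq G z u
    have hdisj : Disjoint (g' • C) C := by
      rcases hCb.smul_eq_or_disjoint g' with h1 | h1
      · exfalso
        apply hu
        rw [← h1]
        exact ⟨z, hzC, hg'⟩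
      · exact h1
    have hcard : (g' • C).ncard + C.ncard ≤ Fintype.card Δ := by
      rw [← Set.ncard_union_eq hdisj (Set.toFinite _) (Set.toFinite _), ← Nat.card_eq_fintype_card]
      exact Set.ncard_le_card _
    rw [Set.ncard_smul_set] at hcard
    omega
  · nlinarith [hq.pos]

/-- Orbit points under a prime-order permutation are distinct. -/
theorem pow_apply_injective_of_prime_order {X : Equiv.Perm Δ} {p : ℕ} (hp : p.Prime)
    (hX : orderOf X = p) {z : Δ} (hz : X z ≠ z) {i j : ℕ} (hi : i < p) (hj : j < p)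
    (he : (X ^ i) z = (X ^ j) z) : i = j := by
  have key : ∀ i j : ℕ, i ≤ j → j < p → (X ^ i) z = (X ^ j) z → i = j := by
    intro i j hij hj he
    by_contra hne
    have h1 : (X ^ (j - i)) z = z := by
      have h2 : X ^ j = X ^ i * X ^ (j - i) := by rw [← pow_add, Nat.add_sub_cancel' hij]
      rw [h2] at he
      exact ((X ^ i).injective he).symm
    have hnd : ¬ p ∣ j - i := fun hd => by
      have := Nat.le_of_dvd (by omega) hd
      omega
    obtain ⟨m, hm⟩ := exists_pow_pow_eq_of_prime_order hp hX hnd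
    apply hz
    rw [← hm]
    have h3 : ∀ n : ℕ, ((X ^ (j - i)) ^ n) z = z := by
      intro n
      induction n with
      | zero => simp
      | succ n ih =>
        rw [pow_succ, Equiv.Perm.mul_apply, h1, ih]
    exact h3 m
  rcases le_total i j with h | h
  · exact key i j h hj he
  · exact (key j i h hi he.symm).symm

/-- Transitivity of a group with a prime order element and a long prime cycle. -/
theorem isPretransitive_of_two {G : Subgroup (Equiv.Perm Δ)} {X Y : Equiv.Perm Δ} (hXG : X ∈ G)
    (hYG : Y ∈ G) {p q : ℕ} (hp : p.Prime) (hX : orderOf X = p) (hc : Y.IsCycle) (hq : q.Prime)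
    (hs : Y.support.card = q) (hcov : ∀ z, X z ≠ z ∨ Y z ≠ z) (hd : Fintype.card Δ < p + q) :
    IsPretransitive G Δ := by
  classical
  have hsne : Y.support.Nonempty := by
    rw [← Finset.card_pos, hs]
    exact hq.pos
  obtain ⟨z₀, hz₀⟩ := hsne
  have hreach : ∀ z, ∃ g ∈ G, g z₀ = z := by
    have hinY : ∀ z ∈ Y.support, ∃ g ∈ G, g z₀ = z := by
      intro z hz
      obtain ⟨n, hn⟩ := hc.exists_pow_eq (mem_support.mp hz₀) (mem_support.mp hz)
      exact ⟨Y ^ n, G.pow_mem hYG n, hn⟩
    intro z
    by_cases hz : z ∈ Y.support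
    · exact hinY z hz
    have hXz : X z ≠ z := by
      rcases hcov z with h | h
      · exact h
      · exact absurd (mem_support.mpr h) hz
    -- The orbit of `z` under `X` meets the support of `Y`.
    let A : Finset Δ := (Finset.range p).image (fun i => (X ^ i) z)
    have hA : A.card = p := by
      rw [Finset.card_image_of_injOn, Finset.card_range]
      intro i hi j hj he
      exact pow_apply_injective_of_prime_order hp hX hXz
        (Finset.mem_range.mp hi) (Finset.mem_range.mp hj) he
    have hnd : ¬ Disjoint A Y.support := by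
      intro hdj
      have := Finset.card_union_of_disjoint hdj
      have h2 := Finset.card_le_univ (A ∪ Y.support)
      omega
    obtain ⟨w, hwA, hwY⟩ := Finset.not_disjoint_iff.mp hnd
    obtain ⟨i, -, hi⟩ := Finset.mem_image.mp hwA
    obtain ⟨g, hg, hgz⟩ := hinY w hwY
    refine ⟨(X ^ i)⁻¹ * g, G.mul_mem (G.inv_mem (G.pow_mem hXG i)) hg, ?_⟩
    rw [Equiv.Perm.mul_apply, hgz, ← hi]
    simp
  refine ⟨fun a b => ?_⟩
  obtain ⟨g₁, hg₁, h₁⟩ := hreach a
  obtain ⟨g₂, hg₂, h₂⟩ := hreach b
  refine ⟨⟨g₂ * g₁⁻¹, G.mul_mem hg₂ (G.inv_mem hg₁)⟩, ?_⟩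
  show (g₂ * g₁⁻¹) a = b
  rw [Equiv.Perm.mul_apply, ← h₁, ← h₂]
  simp

/-- Primitivity of `⟨X, Y⟩`. -/
theorem isPreprimitive_closure_pair {X Y : Equiv.Perm Δ} {p q : ℕ} (hp : p.Prime)
    (hX : orderOf X = p) (hc : Y.IsCycle) (hq : q.Prime) (hs : Y.support.card = q)
    (hcov : ∀ z, X z ≠ z ∨ Y z ≠ z) (hd1 : Fintype.card Δ < p + q)
    (hd2 : Fintype.card Δ < 2 * q) :
    IsPreprimitive (closure ({X, Y} : Set (Equiv.Perm Δ))) Δ := by
  have hXG : X ∈ closure ({X, Y} : Set (Equiv.Perm Δ)) := subset_closure (by simp)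
  have hYG : Y ∈ closure ({X, Y} : Set (Equiv.Perm Δ)) := subset_closure (by simp)
  haveI := isPretransitive_of_two hXG hYG hp hX hc hq hs hcov hd1
  exact isPreprimitive_of_large_cycle hYG hc hq hs hd2

/-- The closure lies in the alternating group if the generators do. -/
theorem closure_pair_le_alt {X Y : Equiv.Perm Δ} (hX : X ∈ alternatingGroup Δ)
    (hY : Y ∈ alternatingGroup Δ) :
    closure ({X, Y} : Set (Equiv.Perm Δ)) ≤ alternatingGroup Δ := by
  rw [closure_le]
  rintro z (rfl | rfl)
  · exact hX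
  · exact hY

/-- The reduction to the moved points. -/
theorem exists_reduction {α : Type} [Fintype α] [DecidableEq α] (x y : alternatingGroup α) :
    ∃ (D : Type) (_ : Fintype D) (_ : DecidableEq D) (X Y : Equiv.Perm D),
      X ∈ alternatingGroup D ∧ Y ∈ alternatingGroup D ∧
      X.cycleType = (x : Equiv.Perm α).cycleType ∧ Y.cycleType = (y : Equiv.Perm α).cycleType ∧
      (∀ z, X z ≠ z ∨ Y z ≠ z) ∧ Fintype.card D ≤ Fintype.card α ∧
      Nonempty (closure ({x, y} : Set (alternatingGroup α)) ≃* closure ({X, Y} : Set (Equiv.Perm D))) := by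
  classical
  let P : α → Prop := fun z => (x : Equiv.Perm α) z ≠ z ∨ (y : Equiv.Perm α) z ≠ z
  have hPx : ∀ z, P ((x : Equiv.Perm α) z) ↔ P z := by
    intro z
    by_cases hz : (x : Equiv.Perm α) z = z
    · rw [hz]
    · exact ⟨fun _ => Or.inl hz, fun _ => Or.inl (fun h => hz ((x : Equiv.Perm α).injective h))⟩
  have hPy : ∀ z, P ((y : Equiv.Perm α) z) ↔ P z := by
    intro z
    by_cases hz : (y : Equiv.Perm α) z = z
    · rw [hz]
    · exact ⟨fun _ => Or.inr hz, fun _ => Or.inr (fun h => hz ((y : Equiv.Perm α).injective h))⟩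
  let X : Equiv.Perm (Subtype P) := (x : Equiv.Perm α).subtypePerm hPx
  let Y : Equiv.Perm (Subtype P) := (y : Equiv.Perm α).subtypePerm hPy
  have hXo : ofSubtype X = (x : Equiv.Perm α) :=
    ofSubtype_subtypePerm hPx (fun z hz => Or.inl hz)
  have hYo : ofSubtype Y = (y : Equiv.Perm α) :=
    ofSubtype_subtypePerm hPy (fun z hz => Or.inr hz)
  have hXs : Equiv.Perm.sign X = 1 := by
    rw [← sign_ofSubtype, hXo]
    exact x.2
  have hYs : Equiv.Perm.sign Y = 1 := by
    rw [← sign_ofSubtype, hYo]
    exact y.2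
  refine ⟨Subtype P, inferInstance, inferInstance, X, Y, hXs, hYs, ?_, ?_, ?_, ?_, ?_⟩
  · have := congrArg Equiv.Perm.cycleType hXo
    rwa [cycleType_ofSubtype] at this
  · have := congrArg Equiv.Perm.cycleType hYo
    rwa [cycleType_ofSubtype] at this
  · rintro ⟨z, hz⟩
    rcases hz with h | h
    · exact Or.inl (fun he => h (congrArg Subtype.val he))
    · exact Or.inr (fun he => h (congrArg Subtype.val he))
  · exact Fintype.card_subtype_le P
  · let ψ : Equiv.Perm (Subtype P) →* Equiv.Perm α := ofSubtype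
    have hψ : Function.Injective ψ := ofSubtype_injective
    let φ : alternatingGroup α →* Equiv.Perm α := (alternatingGroup α).subtype
    have hφ : Function.Injective φ := (alternatingGroup α).subtype_injective
    have h1 : (closure ({x, y} : Set (alternatingGroup α))).map φ =
        closure ({(x : Equiv.Perm α), (y : Equiv.Perm α)} : Set (Equiv.Perm α)) := by
      rw [MonoidHom.map_closure, Set.image_pair]
      rfl
    have h2 : (closure ({X, Y} : Set (Equiv.Perm (Subtype P)))).map ψ =
        closure ({(x : Equiv.Perm α), (y : Equiv.Perm α)} : Set (Equiv.Perm α)) := by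
      rw [MonoidHom.map_closure, Set.image_pair]
      show closure {ofSubtype X, ofSubtype Y} = _
      rw [hXo, hYo]
    exact ⟨(equivMapOfInjective _ φ hφ).trans
      ((MulEquiv.subgroupCongr (h1.trans h2.symm)).trans (equivMapOfInjective _ ψ hψ).symm)⟩

/-- If `⟨X, Y⟩` is an alternating group then it is an abstract alternating group. -/
theorem nonempty_mulEquiv_alt_of_eq {D : Type} [Fintype D] [DecidableEq D]
    {K : Subgroup (Equiv.Perm D)} (hK : K = alternatingGroup D) :
    Nonempty (K ≃* alternatingGroup (Fin (Fintype.card D))) := by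
  subst hK
  exact ⟨Equiv.altCongrHom (Fintype.equivFin D)⟩

/-- The Jordan cases. -/
theorem closure_pair_eq_alt_of_jordan {X Y : Equiv.Perm Δ} {p q : ℕ} (hp : p.Prime)
    (hX : orderOf X = p) (hc : Y.IsCycle) (hq : q.Prime) (hs : Y.support.card = q)
    (hcov : ∀ z, X z ≠ z ∨ Y z ≠ z) (hd1 : Fintype.card Δ < p + q)
    (hd2 : Fintype.card Δ < 2 * q) (hXa : X ∈ alternatingGroup Δ) (hYa : Y ∈ alternatingGroup Δ)
    (hJ : (X.IsCycle ∧ (p + 3 ≤ Fintype.card Δ ∨ p = 3)) ∨ q + 3 ≤ Fintype.card Δ) :
    closure ({X, Y} : Set (Equiv.Perm Δ)) = alternatingGroup Δ := by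
  have hprim := isPreprimitive_closure_pair hp hX hc hq hs hcov hd1 hd2
  have hXG : X ∈ closure ({X, Y} : Set (Equiv.Perm Δ)) := subset_closure (by simp)
  have hYG : Y ∈ closure ({X, Y} : Set (Equiv.Perm Δ)) := subset_closure (by simp)
  apply le_antisymm (closure_pair_le_alt hXa hYa)
  rcases hJ with ⟨hXc, h⟩ | h
  · have hXs : X.support.card = p := by rw [← hXc.orderOf, hX]
    rcases h with h | rfl
    · exact Cfsg.Agent.Lib.Perm.jc_alternating_le hprim hp h hXc hXs hXG
    · have h3 : X.IsThreeCycle := by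
        rw [IsThreeCycle, hXc.cycleType, hXs]
      exact alternatingGroup_le_of_isPreprimitive_of_isThreeCycle_mem hprim h3 hXG
  · exact Cfsg.Agent.Lib.Perm.jc_alternating_le hprim hq h hc hs hYG

end Cfsg.Agent.Lib.PGroups
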