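import Mathlib
import Cfsg.Agent.Lib.PGroups.AltGen1
import Cfsg.Agent.Lib.PGroups.Parts

/-!
Group-level counting lemmas for elements of prime order acting without fixed points, and Burnside's
normal complement for a self-normalizing subgroup of prime order.
-/

set_option autoImplicit false
set_option linter.unusedSectionVars false
set_option linter.style.haveILetI false

namespace Cfsg.Agent.Lib.PGroups

open Subgroup

variable {G : Type*} [Group G]

/-- Normalizers grow in `p`-groups, element form. -/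
theorem exists_mem_normalizer_of_lt [Finite G] {p : ℕ} [Fact p.Prime] {A P : Subgroup G}
    (hP : IsPGroup p P) (hAP : A < P) : ∃ u ∈ P, u ∉ A ∧ ∀ w ∈ A, u * w * u⁻¹ ∈ A := by
  haveI : Group.IsNilpotent ↥P := hP.isNilpotent
  have hlt : A.subgroupOf P < ⊤ := by
    refine lt_top_iff_ne_top.mpr (fun h => hAP.ne (le_antisymm hAP.le ?_))
    exact subgroupOf_eq_top.mp h
  have hlt2 := Group.normalizerCondition_of_isNilpotent (G := ↥P) _ hlt
  obtain ⟨u, hun, hus⟩ := SetLike.exists_of_lt hlt2
  refine ⟨u, u.2, fun h => hus (mem_subgroupOf.mpr h), fun w hw => ?_⟩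
  have := (mem_normalizer_iff.mp hun ⟨w, hAP.le hw⟩).mp (mem_subgroupOf.mpr hw)
  exact mem_subgroupOf.mp this

/-- Conjugates under powers of an element of prime order are distinct. -/
theorem conj_pow_injective {x z : G} {p : ℕ} (hp : p.Prime) (hx : orderOf x = p)
    (hz : x * z ≠ z * x) {i j : ℕ} (hi : i < p) (hj : j < p)
    (he : x ^ i * z * (x ^ i)⁻¹ = x ^ j * z * (x ^ j)⁻¹) : i = j := by
  have key : ∀ i j : ℕ, i ≤ j → j < p → x ^ i * z * (x ^ i)⁻¹ = x ^ j * z * (x ^ j)⁻¹ → i = j := by
    intro i j hij hj he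
    by_contra hne
    have h1 : Commute (x ^ (j - i)) z := by
      have h2 : x ^ j = x ^ i * x ^ (j - i) := by rw [← pow_add, Nat.add_sub_cancel' hij]
      rw [h2] at he
      have h3 : z = x ^ (j - i) * z * (x ^ (j - i))⁻¹ := by
        have h4 : x ^ i * z * (x ^ i)⁻¹ = x ^ i * (x ^ (j - i) * z * (x ^ (j - i))⁻¹) * (x ^ i)⁻¹ := by
          rw [he]; group
        exact mul_left_cancel (mul_right_cancel h4)
      show x ^ (j - i) * z = z * x ^ (j - i)
      have h5 : z * x ^ (j - i) = x ^ (j - i) * z * (x ^ (j - i))⁻¹ * x ^ (j - i) := by rw [← h3]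
      rw [h5]; group
    have hnd : ¬ p ∣ j - i := fun hd => by
      have := Nat.le_of_dvd (by omega) hd
      omega
    obtain ⟨m, hm⟩ := exists_pow_pow_eq_of_prime_order hp hx hnd
    apply hz
    have h6 : Commute ((x ^ (j - i)) ^ m) z := h1.pow_left m
    rw [hm] at h6
    exact h6
  rcases le_total i j with h | h
  · exact key i j h hj he
  · exact (key j i h hi he.symm).symm

section Orbits

variable {K : Subgroup G} {x : G} {p : ℕ}

/-- Orbit of an element under conjugation by powers of `x`. -/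
private noncomputable def orb (x z : G) (p : ℕ) : Finset G := by
  classical
  exact (Finset.range p).image (fun i => x ^ i * z * (x ^ i)⁻¹)

private theorem orb_card (hp : p.Prime) (hx : orderOf x = p) {z : G} (hz : x * z ≠ z * x) :
    (orb x z p).card = p := by
  classical
  unfold orb
  rw [Finset.card_image_of_injOn, Finset.card_range]
  intro i hi j hj he
  exact conj_pow_injective hp hx hz (Finset.mem_range.mp hi) (Finset.mem_range.mp hj) he

private theorem orb_subset (hKx : ∀ w ∈ K, x * w * x⁻¹ ∈ K) {z : G} (hzK : z ∈ K) {w : G}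
    (hw : w ∈ orb x z p) : w ∈ K := by
  classical
  unfold orb at hw
  obtain ⟨i, -, rfl⟩ := Finset.mem_image.mp hw
  clear hw
  induction i with
  | zero => simpa using hzK
  | succ i ih =>
    have h1 := hKx _ ih
    have h2 : x ^ (i + 1) * z * (x ^ (i + 1))⁻¹ = x * (x ^ i * z * (x ^ i)⁻¹) * x⁻¹ := by
      rw [pow_succ']
      group
    rw [h2]
    exact h1

private theorem orb_orderOf {z w : G} (hw : w ∈ orb x z p) : orderOf w = orderOf z := by
  classical
  unfold orb at hw
  obtain ⟨i, -, rfl⟩ := Finset.mem_image.mp hw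
  exact orderOf_conj_eq _ _

/-- An element of prime order `p` normalizing a subgroup of order less than `p` centralizes it. -/
theorem commute_of_normalizes_small [Finite G] (hp : p.Prime) (hx : orderOf x = p)
    (hKx : ∀ w ∈ K, x * w * x⁻¹ ∈ K) (hK : Nat.card K < p) {z : G} (hz : z ∈ K) :
    x * z = z * x := by
  classical
  by_contra hnc
  have hcard := orb_card hp hx hnc
  have hsub : ((orb x z p : Finset G) : Set G) ⊆ (K : Set G) := fun w hw => orb_subset hKx hz hw
  have h2 := Set.ncard_le_ncard hsub (Set.toFinite _)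
  rw [Set.ncard_coe_finset, hcard] at h2
  have e : Nat.card K = (K : Set G).ncard := Nat.card_coe_set_eq (K : Set G)
  omega

/-- A nontrivial subgroup on which `x` of prime order `p` acts without fixed points has at least
`p + 1` elements. -/
theorem card_ge_of_fpf [Finite G] (hp : p.Prime) (hx : orderOf x = p)
    (hKx : ∀ w ∈ K, x * w * x⁻¹ ∈ K) (hfp : ∀ z ∈ K, x * z = z * x → z = 1) (hne : K ≠ ⊥) :
    p + 1 ≤ Nat.card K := by
  classical
  obtain ⟨z, hz⟩ := Subgroup.ne_bot_iff_exists_ne_one.mp hne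
  have hz1 : (z : G) ≠ 1 := fun h => hz (Subtype.ext h)
  have hnc : x * (z : G) ≠ z * x := fun h => hz1 (hfp z z.2 h)
  have hcard := orb_card hp hx hnc
  have hsub : ((insert 1 (orb x (z : G) p) : Finset G) : Set G) ⊆ (K : Set G) := by
    intro w hw
    simp only [Finset.coe_insert, Set.mem_insert_iff, Finset.mem_coe] at hw
    rcases hw with rfl | hw
    · exact K.one_mem
    · exact orb_subset hKx z.2 hw
  have h1 : (1 : G) ∉ orb x (z : G) p := by
    intro h
    have := orb_orderOf h
    rw [orderOf_one] at this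
    exact hz1 (orderOf_eq_one_iff.mp this.symm)
  have h2 := Set.ncard_le_ncard hsub (Set.toFinite _)
  rw [Set.ncard_coe_finset, Finset.card_insert_of_notMem h1, hcard] at h2
  have e : Nat.card K = (K : Set G).ncard := Nat.card_coe_set_eq (K : Set G)
  rwa [e]

/-- With two primes dividing `|K|` there are at least `2p + 1` elements. -/
theorem card_ge_of_fpf_two [Finite G] (hp : p.Prime) (hx : orderOf x = p)
    (hKx : ∀ w ∈ K, x * w * x⁻¹ ∈ K) (hfp : ∀ z ∈ K, x * z = z * x → z = 1) {r s : ℕ}
    (hr : r.Prime) (hs : s.Prime) (hrs : r ≠ s) (h1 : r ∣ Nat.card K) (h2 : s ∣ Nat.card K) :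
    2 * p + 1 ≤ Nat.card K := by
  classical
  haveI : Fact r.Prime := ⟨hr⟩
  haveI : Fact s.Prime := ⟨hs⟩
  obtain ⟨u, hu⟩ := exists_prime_orderOf_dvd_card' r h1
  obtain ⟨v, hv⟩ := exists_prime_orderOf_dvd_card' s h2
  have hu' : orderOf (u : G) = r := by rwa [Subgroup.orderOf_coe]
  have hv' : orderOf (v : G) = s := by rwa [Subgroup.orderOf_coe]
  have hu1 : (u : G) ≠ 1 := fun h => by
    rw [h, orderOf_one] at hu'
    exact hr.one_lt.ne hu'
  have hv1 : (v : G) ≠ 1 := fun h => by
    rw [h, orderOf_one] at hv'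
    exact hs.one_lt.ne hv'
  have hcu := orb_card hp hx (fun h => hu1 (hfp u u.2 h))
  have hcv := orb_card hp hx (fun h => hv1 (hfp v v.2 h))
  have hdj : Disjoint (orb x (u : G) p) (orb x (v : G) p) := by
    rw [Finset.disjoint_left]
    intro w hw1 hw2
    have e1 := orb_orderOf hw1
    have e2 := orb_orderOf hw2
    rw [hu'] at e1
    rw [hv'] at e2
    exact hrs (e1.symm.trans e2)
  have h3 : (1 : G) ∉ orb x (u : G) p ∪ orb x (v : G) p := by
    intro h
    rcases Finset.mem_union.mp h with h | h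
    · have := orb_orderOf h
      rw [orderOf_one] at this
      exact hu1 (orderOf_eq_one_iff.mp this.symm)
    · have := orb_orderOf h
      rw [orderOf_one] at this
      exact hv1 (orderOf_eq_one_iff.mp this.symm)
  have hsub : ((insert 1 (orb x (u : G) p ∪ orb x (v : G) p) : Finset G) : Set G) ⊆ (K : Set G) := by
    intro w hw
    simp only [Finset.coe_insert, Finset.coe_union, Set.mem_insert_iff, Set.mem_union,
      Finset.mem_coe] at hw
    rcases hw with rfl | hw | hw
    · exact K.one_mem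
    · exact orb_subset hKx u.2 hw
    · exact orb_subset hKx v.2 hw
  have h4 := Set.ncard_le_ncard hsub (Set.toFinite _)
  rw [Set.ncard_coe_finset, Finset.card_insert_of_notMem h3, Finset.card_union_of_disjoint hdj, hcu,
    hcv] at h4
  have e : Nat.card K = (K : Set G).ncard := Nat.card_coe_set_eq (K : Set G)
  rw [e]
  omega

/-- Fixed-point-free action of `x` of prime order: `|K| ≡ 1 (mod p)`. -/
theorem card_modEq_one_of_fpf [Finite G] (hp : p.Prime) (hx : orderOf x = p)
    (hKx : ∀ w ∈ K, x * w * x⁻¹ ∈ K) (hfp : ∀ z ∈ K, x * z = z * x → z = 1) :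
    Nat.card K ≡ 1 [MOD p] := by
  classical
  haveI : Fact p.Prime := ⟨hp⟩
  letI : Fintype K := Fintype.ofFinite K
  let f : Function.End K := fun w => ⟨x * w * x⁻¹, hKx w w.2⟩
  have hfn : ∀ (n : ℕ) (w : K), (((f ^ n) w : K) : G) = x ^ n * w * (x ^ n)⁻¹ := by
    intro n w
    induction n with
    | zero =>
      rw [pow_zero]
      show (w : G) = _
      simp
    | succ n ih =>
      have hstep : (f ^ (n + 1)) w = f ((f ^ n) w) := by
        rw [pow_succ']
        rfl
      rw [hstep]
      show x * (((f ^ n) w : K) : G) * x⁻¹ = _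
      rw [ih, pow_succ']
      group
  have hf1 : f ^ p ^ 1 = 1 := by
    funext w
    apply Subtype.ext
    rw [pow_one, hfn, ← hx, pow_orderOf_eq_one]
    show 1 * (w : G) * 1⁻¹ = w
    simp
  have h := Equiv.Perm.card_fixedPoints_modEq hf1
  have hfix : Fintype.card f.fixedPoints = 1 := by
    rw [Fintype.card_eq_one_iff]
    refine ⟨⟨1, ?_⟩, ?_⟩
    · show f 1 = 1
      apply Subtype.ext
      show x * 1 * x⁻¹ = 1
      group
    · rintro ⟨w, hw⟩
      apply Subtype.ext
      apply Subtype.ext
      have h1 : x * (w : G) * x⁻¹ = w := congrArg Subtype.val hw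
      have h2 : x * (w : G) = w * x := mul_inv_eq_iff_eq_mul.mp h1
      exact hfp w w.2 h2
  rw [hfix, ← Nat.card_eq_fintype_card] at h
  exact h

end Orbits

/-- Burnside: a self-normalizing subgroup of prime order has a normal complement. -/
theorem exists_normal_complement_of_self_normalizing [Finite G] {x : G} {p : ℕ} (hp : p.Prime)
    (hx : orderOf x = p) (hN : ∀ g : G, (∀ w ∈ zpowers x, g * w * g⁻¹ ∈ zpowers x) → g ∈ zpowers x) :
    ∃ K : Subgroup G, K.Normal ∧ K ⊓ zpowers x = ⊥ ∧ Nat.card K * p = Nat.card G ∧ ¬ p ∣ Nat.card K ∧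
      ∀ z ∈ K, x * z = z * x → z = 1 := by
  classical
  haveI : Fact p.Prime := ⟨hp⟩
  have hpg : IsPGroup p (zpowers x) := isPGroup_zpowers_iff.mpr ⟨1, by rw [hx, pow_one]⟩
  obtain ⟨P, hP⟩ := hpg.exists_le_sylow
  have hPe : (P : Subgroup G) = zpowers x := by
    by_contra hne
    have hlt : zpowers x < (P : Subgroup G) := lt_of_le_of_ne hP (Ne.symm hne)
    obtain ⟨u, -, hu, hu'⟩ := exists_mem_normalizer_of_lt P.isPGroup' hlt
    exact hu (hN u hu')
  have hcomm : ∀ g ∈ normalizer ((P : Subgroup G) : Set G), g ∈ centralizer ((P : Subgroup G) : Set G) := by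
    intro g hg
    have h1 : g ∈ zpowers x := by
      apply hN
      intro w hw
      rw [← hPe] at hw ⊢
      exact (mem_normalizer_iff.mp hg w).mp hw
    rw [mem_centralizer_iff]
    intro w hw
    have hw' : w ∈ zpowers x := by
      rw [← hPe]
      exact hw
    obtain ⟨i, rfl⟩ := mem_zpowers_iff.mp h1
    obtain ⟨j, rfl⟩ := mem_zpowers_iff.mp hw'
    rw [← zpow_add, ← zpow_add, add_comm]
  let K : Subgroup G := (MonoidHom.transferSylow P hcomm).ker
  have hK : K.IsComplement' (P : Subgroup G) := MonoidHom.ker_transferSylow_isComplement' P hcomm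
  have hnd : ¬ p ∣ Nat.card K := MonoidHom.not_dvd_card_ker_transferSylow P hcomm
  have hKn : K.Normal := MonoidHom.normal_ker _
  have hbot : K ⊓ zpowers x = ⊥ := by
    rw [← hPe]
    exact hK.disjoint.eq_bot
  have hcard : Nat.card K * p = Nat.card G := by
    have h1 := hK.card_mul_card
    rw [hPe, Nat.card_zpowers, hx] at h1
    exact h1
  refine ⟨K, hKn, hbot, hcard, hnd, ?_⟩
  intro z hzK hzc
  have h1 : z ∈ zpowers x := by
    apply hN
    intro w hw
    obtain ⟨i, rfl⟩ := mem_zpowers_iff.mp hw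
    have hc : Commute z (x ^ i) := (Commute.zpow_right (show Commute z x from hzc.symm) i)
    rw [hc.eq, mul_inv_cancel_right]
    exact hw
  have h2 : z ∈ K ⊓ zpowers x := mem_inf.mpr ⟨hzK, h1⟩
  rw [hbot, mem_bot] at h2
  exact h2

/-- Conjugation formula for powers. -/
theorem conj_pow_of_conj_eq_pow {n T : G} {r : ℕ} (h : n * T * n⁻¹ = T ^ r) (k : ℕ) :
    n ^ k * T * (n ^ k)⁻¹ = T ^ (r ^ k) := by
  induction k with
  | zero => simp
  | succ k ih =>
    have h1 : n ^ (k + 1) * T * (n ^ (k + 1))⁻¹ = n * (n ^ k * T * (n ^ k)⁻¹) * n⁻¹ := by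
      rw [pow_succ']
      group
    rw [h1, ih, ← conj_pow, h, ← pow_mul, pow_succ']

/-- Fermat: `n^(p-1)` centralizes an element of prime order `p` whose powers it normalizes. -/
theorem pow_pred_commute [Finite G] {n T : G} {p : ℕ} (hp : p.Prime) (hT : orderOf T = p)
    (h : n * T * n⁻¹ ∈ zpowers T) : n ^ (p - 1) * T = T * n ^ (p - 1) := by
  classical
  haveI : Fact p.Prime := ⟨hp⟩
  obtain ⟨r, hr⟩ : ∃ r : ℕ, n * T * n⁻¹ = T ^ r := by
    obtain ⟨r, hr⟩ := (Submonoid.mem_powers_iff _ _).mp (mem_powers_iff_mem_zpowers.mpr h)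
    exact ⟨r, hr.symm⟩
  have hT1 : T ≠ 1 := fun h1 => by
    rw [h1, orderOf_one] at hT
    exact hp.one_lt.ne hT
  have hnd : ¬ p ∣ r := by
    intro hd
    have h1 : T ^ r = 1 := by
      rw [← hT] at hd
      exact orderOf_dvd_iff_pow_eq_one.mp hd
    rw [h1] at hr
    apply hT1
    have h2 : T = n⁻¹ * (n * T * n⁻¹) * n := by group
    rw [h2, hr]
    group
  have h1 := conj_pow_of_conj_eq_pow hr (p - 1)
  have h2 : T ^ (r ^ (p - 1)) = T := by
    have h3 : (r : ZMod p) ≠ 0 := by
      rwa [Ne, ZMod.natCast_eq_zero_iff]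
    have h4 := ZMod.pow_card_sub_one_eq_one h3
    have h5 : r ^ (p - 1) ≡ 1 [MOD orderOf T] := by
      rw [hT, ← ZMod.natCast_eq_natCast_iff]
      push_cast
      exact h4
    have h6 := (pow_eq_pow_iff_modEq (x := T)).mpr h5
    rwa [pow_one] at h6
  rw [h2] at h1
  exact mul_inv_eq_iff_eq_mul.mp h1

end Cfsg.Agent.Lib.PGroups
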