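import Mathlib

/-! Counting lemmas: fibers that are cosets. -/

set_option autoImplicit false

namespace Cfsg.Agent.Lib.PGroups

variable {A : Type*} [Group A]

/-- A surjection out of a finite group whose fibers are the left cosets of `D`. -/
theorem card_eq_mul_of_fibers [Finite A] {β : Type*} (f : A → β) (hsurj : Function.Surjective f)
    (D : Subgroup A) (hD : ∀ a b : A, f a = f b ↔ a⁻¹ * b ∈ D) :
    Nat.card A = Nat.card β * Nat.card D := by
  have h1 := Subgroup.card_eq_card_quotient_mul_card_subgroup D
  rw [h1]
  congr 1
  apply Nat.card_congr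
  refine Equiv.ofBijective (Quotient.lift f (fun a b h => (hD a b).mpr (QuotientGroup.leftRel_apply.mp h))) ⟨?_, ?_⟩
  · intro x y
    induction x using Quotient.inductionOn with
    | _ a =>
    induction y using Quotient.inductionOn with
    | _ b =>
    intro h
    exact Quotient.sound (QuotientGroup.leftRel_apply.mpr ((hD a b).mp h))
  · intro b
    obtain ⟨a, rfl⟩ := hsurj b
    exact ⟨Quotient.mk _ a, rfl⟩

end Cfsg.Agent.Lib.PGroups
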