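import Mathlib
import Cfsg.Prelude
import Cfsg.Agent.Lib.Transfer.Basic
import Cfsg.Agent.Lib.PGroups.Cyclic
import Cfsg.Agent.Lib.PGroups.CyclicSylow
import Cfsg.Agent.Lib.PGroups.CycSub
import Cfsg.Agent.Lib.PGroups.Parts
import Cfsg.Agent.Lib.PGroups.AltGen2
import Cfsg.Agent.Lib.Basic.SchurZassenhaus

/-!
# Groups with a cyclic Sylow subgroup and abelian `p'`-subgroups: general lemmas and reductions
-/

set_option autoImplicit false

namespace Cfsg.Agent.Lib.PGroups.CycP

open Subgroup

universe u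

/-- A graph in which any two distinct vertices have exactly one common neighbour cannot be regular
of degree at least three. -/
theorem friendship_false {I : Type*} [Fintype I] [DecidableEq I] [hI : Nonempty I]
    (R : I → I → Prop) [DecidableRel R] (hirr : ∀ t, ¬ R t t) (hsymm : ∀ s t, R s t → R t s)
    {d : ℕ} (hd : 3 ≤ d) (hdeg : ∀ t, (Finset.univ.filter (fun z => R t z)).card = d)
    (hf : ∀ s t, s ≠ t → (Finset.univ.filter (fun z => R s z ∧ R z t)).card = 1) : False := by
  have hq : ((d - 1).minFac).Prime := Nat.minFac_prime (by omega)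
  set q := (d - 1).minFac with hqdef
  haveI : Fact q.Prime := ⟨hq⟩
  have hq2 : 2 ≤ q := hq.two_le
  have hdq : ((d : ℕ) : ZMod q) = 1 := by
    have h1 : ((d - 1 : ℕ) : ZMod q) = 0 := (ZMod.natCast_eq_zero_iff _ _).2 (Nat.minFac_dvd _)
    have h2 : d = (d - 1) + 1 := by omega
    rw [h2, Nat.cast_add, h1]; simp
  let A : Matrix I I (ZMod q) := Matrix.of fun s t => if R s t then 1 else 0
  let J : Matrix I I (ZMod q) := Matrix.of fun _ _ => 1
  have h1 : A * A = J := by
    ext s t
    simp only [Matrix.mul_apply, A, J, Matrix.of_apply]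
    have h0 : ∀ z, (if R s z then (1 : ZMod q) else 0) * (if R z t then 1 else 0) =
        if R s z ∧ R z t then 1 else 0 := by
      intro z; by_cases h1 : R s z <;> by_cases h2 : R z t <;> simp [h1, h2]
    simp_rw [h0]
    rw [Finset.sum_boole]
    by_cases hst : s = t
    · subst hst
      have h3 : Finset.univ.filter (fun z => R s z ∧ R z s) = Finset.univ.filter (fun z => R s z) := by
        ext z
        simp only [Finset.mem_filter, Finset.mem_univ, true_and]
        exact ⟨fun h => h.1, fun h => ⟨h, hsymm _ _ h⟩⟩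
      rw [h3, hdeg]; exact hdq
    · rw [hf s t hst]; simp
  have h2 : A * J = J := by
    ext s t
    simp only [Matrix.mul_apply, A, J, Matrix.of_apply, mul_one]
    rw [Finset.sum_boole, hdeg]; exact hdq
  have h3 : ∀ k, A ^ (k + 2) = J := by
    intro k
    induction k with
    | zero => rw [zero_add, pow_two]; exact h1
    | succ k ih => rw [show k + 1 + 2 = (k + 2) + 1 by ring, pow_succ', ih, h2]
  have h4 : Matrix.trace A = 0 := by
    simp [Matrix.trace, A, hirr]
  have h5 := ZMod.trace_pow_card A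
  obtain ⟨k, hk⟩ : ∃ k, q = k + 2 := ⟨q - 2, by omega⟩
  have h6 : A ^ q = J := by
    have h := h3 k
    rw [← hk] at h
    exact h
  rw [h6, h4, zero_pow hq.ne_zero] at h5
  have h7 : (Fintype.card I : ZMod q) = 0 := by
    have h8 : Matrix.trace J = Fintype.card I := by simp [Matrix.trace, J]
    rw [← h8]; exact h5
  have h8 : J * J = 0 := by
    ext s t
    simp [Matrix.mul_apply, J, h7]
  have h9 : J * J = J := by
    calc J * J = A ^ (0 + 2) * A ^ (0 + 2) := by rw [h3 0]
      _ = A ^ (2 + 2) := by rw [← pow_add]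
      _ = J := h3 2
  have h10 : J = 0 := by rw [← h9, h8]
  obtain ⟨t⟩ := hI
  have h11 := congrFun (congrFun h10 t) t
  simp [J] at h11

section general

variable {G : Type*} [Group G] [Finite G] {p : ℕ} [hp : Fact p.Prime]

/-- The order of `T ⟨z⟩`, for `z` normalising `T`, divides `|T| · o(z)`. -/
theorem card_sup_zpowers_dvd {T : Subgroup G} {z : G} (hz : z ∈ normalizer (T : Set G)) :
    Nat.card ↥(T ⊔ zpowers z) ∣ Nat.card T * orderOf z := by
  haveI := normal_subgroupOf_sup_zpowers hz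
  set W := T ⊔ zpowers z with hW
  set T' := T.subgroupOf W with hT'
  set z' : W := ⟨z, (le_sup_right : zpowers z ≤ T ⊔ zpowers z) (mem_zpowers z)⟩ with hz'
  have h1 : Nat.card T' = Nat.card T :=
    Nat.card_congr (Subgroup.subgroupOfEquivOfLe (le_sup_left : T ≤ T ⊔ zpowers z)).toEquiv
  have h2 : Nat.card W = Nat.card T' * T'.index := (T'.card_mul_index).symm
  have h3 : T'.index ∣ orderOf z := by
    have h4 : ∀ x : W ⧸ T', x ∈ zpowers ((z' : W) : W ⧸ T') := by
      intro x
      obtain ⟨h, rfl⟩ := QuotientGroup.mk_surjective x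
      obtain ⟨t, ht, k, rfl⟩ := exists_decomp_sup_zpowers hz h
      refine Subgroup.mem_zpowers_iff.mpr ⟨k, ?_⟩
      have h1 : ((t : W) : W ⧸ T') = 1 := (QuotientGroup.eq_one_iff _).mpr ht
      rw [QuotientGroup.mk_mul, h1, one_mul]
      rfl
    have h5 := orderOf_eq_card_of_forall_mem_zpowers h4
    rw [Subgroup.index_eq_card, ← h5]
    have h6 : orderOf ((z' : W) : W ⧸ T') ∣ orderOf z' :=
      orderOf_map_dvd (QuotientGroup.mk' T') z'
    have h7 : orderOf z' = orderOf z := Subgroup.orderOf_mk z _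
    rwa [h7] at h6
  rw [h2, h1]
  exact Nat.mul_dvd_mul_left _ h3

/-- In a finite cyclic group a subgroup whose order divides that of another is contained in it. -/
theorem le_of_card_dvd_of_isCyclic {X : Type*} [Group X] [Finite X] [IsCyclic X]
    {A B : Subgroup X} (h : Nat.card A ∣ Nat.card B) : A ≤ B := by
  classical
  letI : Fintype X := Fintype.ofFinite X
  intro x hx
  have hpos : 0 < Nat.card B := Nat.card_pos
  have h1 : x ^ Nat.card B = 1 := by
    have h2 : (⟨x, hx⟩ : A) ^ Nat.card A = 1 := pow_card_eq_one'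
    have h3 : x ^ Nat.card A = 1 := by
      have := congrArg Subtype.val h2
      rwa [Subgroup.coe_pow, Subgroup.coe_one] at this
    obtain ⟨c, hc⟩ := h
    rw [hc, pow_mul, h3, one_pow]
  set S : Finset X := Finset.univ.filter (fun a => a ^ Nat.card B = 1) with hS
  have h2 : S.card ≤ Nat.card B := IsCyclic.card_pow_eq_one_le hpos
  set T : Finset X := Finset.univ.filter (fun a => a ∈ B) with hT
  have h3 : T ⊆ S := by
    intro a ha
    rw [hT, Finset.mem_filter] at ha
    rw [hS, Finset.mem_filter]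
    refine ⟨Finset.mem_univ _, ?_⟩
    have h2 : (⟨a, ha.2⟩ : B) ^ Nat.card B = 1 := pow_card_eq_one'
    have := congrArg Subtype.val h2
    rwa [Subgroup.coe_pow, Subgroup.coe_one] at this
  have h4 : T.card = Nat.card B := by
    rw [Nat.card_eq_fintype_card, Fintype.card_subtype]
  have h5 : T = S := Finset.eq_of_subset_of_card_le h3 (by rw [h4]; exact h2)
  have h6 : x ∈ S := by rw [hS, Finset.mem_filter]; exact ⟨Finset.mem_univ _, h1⟩
  rw [← h5, hT, Finset.mem_filter] at h6
  exact h6.2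

/-- Subgroups of a cyclic `p`-subgroup form a chain. -/
theorem chain_of_cyclic {Q A B : Subgroup G} (hQc : IsCyclic Q) (hQp : IsPGroup p Q)
    (hA : A ≤ Q) (hB : B ≤ Q) : A ≤ B ∨ B ≤ A := by
  have hAp : IsPGroup p A := hQp.to_le hA
  have hBp : IsPGroup p B := hQp.to_le hB
  obtain ⟨a, ha⟩ := hAp.exists_card_eq
  obtain ⟨b, hb⟩ := hBp.exists_card_eq
  have key : ∀ {A B : Subgroup G}, A ≤ Q → B ≤ Q → Nat.card A ∣ Nat.card B → A ≤ B := by
    intro A B hA hB h
    have h1 : A.subgroupOf Q ≤ B.subgroupOf Q := by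
      apply le_of_card_dvd_of_isCyclic
      rw [Nat.card_congr (Subgroup.subgroupOfEquivOfLe hA).toEquiv,
        Nat.card_congr (Subgroup.subgroupOfEquivOfLe hB).toEquiv]
      exact h
    intro x hx
    have h2 : (⟨x, hA hx⟩ : Q) ∈ A.subgroupOf Q := mem_subgroupOf.mpr hx
    exact mem_subgroupOf.mp (h1 h2)
  rcases Nat.le_total a b with h | h
  · left
    exact key hA hB (by rw [ha, hb]; exact pow_dvd_pow _ h)
  · right
    exact key hB hA (by rw [ha, hb]; exact pow_dvd_pow _ h)

/-- A coprime element normalising a cyclic `p`-subgroup, acting trivially modulo a proper subgroup,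
centralises it. -/
theorem centralizes_of_mod {Q Q₀ : Subgroup G} (hQc : IsCyclic Q) (hQp : IsPGroup p Q) {y : G}
    (hy : y ∈ normalizer (Q : Set G)) (hyo : ¬ p ∣ orderOf y) (hQ₀ : ¬ Q ≤ Q₀)
    (h : ∀ x ∈ Q, y * x * y⁻¹ * x⁻¹ ∈ Q₀) : ∀ x ∈ Q, y * x = x * y := by
  let θ : Q →* Q := (((MulAut.conj y).toMonoidHom).comp Q.subtype).codRestrict Q (fun x => by
    have := (Subgroup.mem_normalizer_iff.1 hy x).1 x.2
    simpa using this)
  have hθ : ∀ x : Q, ((θ x : Q) : G) = y * x * y⁻¹ := fun x => rfl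
  have hit : ∀ (n : ℕ) (x : Q), ((θ^[n] x : Q) : G) = y ^ n * x * (y ^ n)⁻¹ := by
    intro n
    induction n with
    | zero => intro x; simp
    | succ n ih =>
      intro x
      rw [Function.iterate_succ_apply', hθ, ih, pow_succ']
      group
  have hm : (orderOf y).Coprime p :=
    ((Nat.Prime.coprime_iff_not_dvd hp.out).mpr hyo).symm
  have hfix : ∀ a, θ^[orderOf y] a = a := by
    intro a
    apply Subtype.ext
    rw [hit, pow_orderOf_eq_one]
    simp
  have hB : Q₀.subgroupOf Q ≠ ⊤ := by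
    intro htop
    apply hQ₀
    intro x hx
    have : (⟨x, hx⟩ : Q) ∈ Q₀.subgroupOf Q := by rw [htop]; trivial
    exact mem_subgroupOf.mp this
  have hfin : ∀ a : Q, θ a = a := by
    intro a
    apply hom_trivial_of_cyclic hQp θ (orderOf y) hm hfix (Q₀.subgroupOf Q) hB
    intro a
    rw [mem_subgroupOf]
    have := h a a.2
    simpa [hθ] using this
  intro x hx
  have := congrArg Subtype.val (hfin ⟨x, hx⟩)
  simp only [hθ] at this
  rwa [mul_inv_eq_iff_eq_mul] at this

/-- An element of order prime to `p` normalising a cyclic `p`-subgroup, fixing a nonidentity element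
of it, centralises it. -/
theorem centralizes_of_fix {Q : Subgroup G} (hQc : IsCyclic Q) (hQp : IsPGroup p Q) {y : G}
    (hy : y ∈ normalizer (Q : Set G)) (hyo : ¬ p ∣ orderOf y) {a : G} (ha : a ∈ Q) (ha1 : a ≠ 1)
    (hya : y * a = a * y) : ∀ x ∈ Q, y * x = x * y := by
  obtain ⟨⟨c, hcQ⟩, hc⟩ := hQc.exists_generator
  have hQ_eq : ∀ s ∈ Q, s ∈ zpowers c := by
    intro s hs
    obtain ⟨i, hi⟩ := mem_zpowers_iff.mp (hc ⟨s, hs⟩)
    refine mem_zpowers_iff.mpr ⟨i, ?_⟩
    have := congrArg Subtype.val hi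
    simpa using this
  have hcpow : ∃ n, orderOf c = p ^ n := by
    obtain ⟨n, hn⟩ := IsPGroup.iff_orderOf.mp hQp ⟨c, hcQ⟩
    exact ⟨n, by rw [← hn, Subgroup.orderOf_mk]⟩
  obtain ⟨n, hn⟩ := hcpow
  have hycop : (orderOf y).Coprime p := ((Nat.Prime.coprime_iff_not_dvd hp.out).mpr hyo).symm
  have hyc : y * c * y⁻¹ ∈ zpowers c :=
    hQ_eq _ ((Subgroup.mem_normalizer_iff.mp hy c).mp hcQ)
  have hcomm : Commute y c :=
    commute_of_cyclic_of_fix (pow_orderOf_eq_one y) hycop n c a hn hyc (hQ_eq a ha) ha1 hya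
  intro x hx
  obtain ⟨i, rfl⟩ := mem_zpowers_iff.mp (hQ_eq x hx)
  exact (hcomm.zpow_right i).eq

end general

end Cfsg.Agent.Lib.PGroups.CycP
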