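import Cfsg.Agent.Lib.PGroups.CycP1

/-!
# Groups with a cyclic Sylow subgroup and abelian `p'`-subgroups: reductions
-/

set_option autoImplicit false

namespace Cfsg.Agent.Lib.PGroups.CycP

open Subgroup Cfsg.Agent.Lib.Transfer
open scoped Pointwise

universe u

/-- The standing hypotheses: cyclic Sylow `p`-subgroups and abelian `p'`-subgroups. -/
structure Hyp (p : ℕ) (G : Type*) [Group G] : Prop where
  cyc : ∀ Q : Sylow p G, IsCyclic Q
  ab : ∀ H : Subgroup G, ¬ p ∣ Nat.card H → IsMulCommutative H

/-- The desired conclusion. -/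
def PS (p : ℕ) (G : Type*) [Group G] : Prop :=
  Cfsg.HasNormalPComplement p G ∨ ∃ Q : Sylow p G, (Q : Subgroup G).Normal

section general

variable {G : Type*} [Group G] {p : ℕ}

theorem Hyp.comm (h : Hyp p G) {H : Subgroup G} (hH : ¬ p ∣ Nat.card H) {a b : G} (ha : a ∈ H)
    (hb : b ∈ H) : a * b = b * a := by
  have := (h.ab H hH).is_comm.comm ⟨a, ha⟩ ⟨b, hb⟩
  exact congrArg Subtype.val this

variable [Finite G]

theorem card_comap_mk (A : Subgroup G) [A.Normal] (X : Subgroup (G ⧸ A)) :
    Nat.card (X.comap (QuotientGroup.mk' A)) = Nat.card A * Nat.card X := by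
  have h1 := (X.comap (QuotientGroup.mk' A)).card_mul_index
  have h2 := A.card_mul_index
  have h3 := X.card_mul_index
  rw [A.index_eq_card] at h2
  rw [Subgroup.index_comap_of_surjective _ (QuotientGroup.mk'_surjective A)] at h1
  rw [← h3] at h2
  have hpos : 0 < X.index := Nat.pos_of_ne_zero (Subgroup.index_ne_zero_of_finite)
  apply Nat.eq_of_mul_eq_mul_right hpos
  rw [h1, mul_assoc]
  exact h2.symm

theorem le_comap_mk (A : Subgroup G) [A.Normal] (X : Subgroup (G ⧸ A)) :
    A ≤ X.comap (QuotientGroup.mk' A) := by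
  intro a ha
  rw [mem_comap]
  have : QuotientGroup.mk' A a = 1 := (QuotientGroup.eq_one_iff _).2 ha
  rw [this]; exact X.one_mem

theorem card_eq_mul_relIndex {H K : Subgroup G} (h : H ≤ K) :
    Nat.card K = Nat.card H * H.relIndex K := by
  have h1 := (H.subgroupOf K).card_mul_index
  rw [Nat.card_congr (Subgroup.subgroupOfEquivOfLe h).toEquiv] at h1
  exact h1.symm

variable [hp : Fact p.Prime]

theorem Hyp.subgroup (h : Hyp p G) (H : Subgroup G) : Hyp p H where
  cyc Q := by
    obtain ⟨S, hS⟩ := (Q.2.map H.subtype).exists_le_sylow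
    haveI := h.cyc S
    let f : (Q : Subgroup H) →* S := MonoidHom.codRestrict (H.subtype.comp (Q : Subgroup H).subtype) S
      (fun x => hS ⟨x, x.2, rfl⟩)
    refine isCyclic_of_injective f ?_
    intro x y hxy
    have := congrArg Subtype.val hxy
    exact Subtype.ext (Subtype.ext this)
  ab X hX := by
    have h1 : Nat.card (X.map H.subtype) = Nat.card X :=
      Subgroup.card_map_of_injective H.subtype_injective
    have h2 : ¬ p ∣ Nat.card (X.map H.subtype) := by rwa [h1]
    refine ⟨⟨fun a b => ?_⟩⟩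
    apply Subtype.ext
    apply Subtype.ext
    exact h.comm h2 ⟨a, a.2, rfl⟩ ⟨b, b.2, rfl⟩

theorem Hyp.cyc_quot (h : Hyp p G) (A : Subgroup G) [A.Normal] (Q : Sylow p (G ⧸ A)) :
    IsCyclic (Q : Subgroup (G ⧸ A)) := by
  obtain ⟨S, rfl⟩ := Sylow.mapSurjective_surjective (QuotientGroup.mk'_surjective A) p Q
  haveI := h.cyc S
  let f : (S : Subgroup G) →* (S.mapSurjective (QuotientGroup.mk'_surjective A) : Subgroup (G ⧸ A)) :=
    MonoidHom.codRestrict ((QuotientGroup.mk' A).comp (S : Subgroup G).subtype) _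
      (fun x => ⟨x, x.2, rfl⟩)
  refine isCyclic_of_surjective f ?_
  rintro ⟨_, x, hx, rfl⟩
  exact ⟨⟨x, hx⟩, rfl⟩

/-- A surjection from an abelian subgroup of `G`. -/
theorem comm_of_image {A : Subgroup G} [A.Normal] {X : Subgroup (G ⧸ A)}
    (h : Hyp p G) {W : Subgroup G} (hW : ¬ p ∣ Nat.card W)
    (hX : ∀ x ∈ X, ∃ w ∈ W, (w : G ⧸ A) = x) (a b : X) : a * b = b * a := by
  obtain ⟨u, hu, hua⟩ := hX a a.2
  obtain ⟨v, hv, hvb⟩ := hX b b.2
  apply Subtype.ext
  have := h.comm hW hu hv
  simp only [Subgroup.coe_mul]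
  rw [← hua, ← hvb, ← QuotientGroup.mk_mul, ← QuotientGroup.mk_mul, this]

theorem Hyp.quot_A (h : Hyp p G) (A : Subgroup G) [hA : A.Normal] (hAp : ¬ p ∣ Nat.card A) :
    Hyp p (G ⧸ A) where
  cyc Q := h.cyc_quot A Q
  ab X hX := by
    have hpp : p.Prime := hp.out
    have hW' : ¬ p ∣ Nat.card (X.comap (QuotientGroup.mk' A)) := by
      rw [card_comap_mk]
      exact Nat.Prime.not_dvd_mul hpp hAp hX
    refine ⟨⟨fun a b => comm_of_image h hW' ?_ a b⟩⟩
    intro x hx
    obtain ⟨w, rfl⟩ := QuotientGroup.mk_surjective x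
    exact ⟨w, by rw [mem_comap]; exact hx, rfl⟩

/-- A complement of a normal Hall subgroup inside a larger subgroup. -/
theorem exists_complement_in (B K : Subgroup G) (hBK : B ≤ K) (hB : K ≤ normalizer (B : Set G))
    (hc : (Nat.card B).Coprime (B.relIndex K)) :
    ∃ L : Subgroup G, L ≤ K ∧ Nat.card L = B.relIndex K ∧ (∀ x ∈ K, ∃ b ∈ B, ∃ l ∈ L, x = b * l) := by
  haveI : (B.subgroupOf K).Normal := (normal_subgroupOf_iff_le_normalizer hBK).mpr hB
  have h1 : Nat.card (B.subgroupOf K) = Nat.card B :=
    Nat.card_congr (Subgroup.subgroupOfEquivOfLe hBK).toEquiv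
  have h2 : (Nat.card (B.subgroupOf K)).Coprime (B.subgroupOf K).index := by
    rw [h1]; exact hc
  obtain ⟨H, hH⟩ := Subgroup.exists_right_complement'_of_coprime h2
  refine ⟨H.map K.subtype, ?_, ?_, ?_⟩
  · rintro _ ⟨x, -, rfl⟩; exact x.2
  · rw [Subgroup.card_map_of_injective K.subtype_injective, ← hH.symm.index_eq_card]
    rfl
  · intro x hx
    obtain ⟨⟨a, b⟩, hab⟩ := hH.2 ⟨x, hx⟩
    refine ⟨a.1, mem_subgroupOf.mp a.2, b.1, ⟨b.1, b.2, rfl⟩, ?_⟩
    have := congrArg Subtype.val hab
    exact this.symm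

theorem Hyp.quot_B (h : Hyp p G) (B : Subgroup G) [hB : B.Normal] (hBp : IsPGroup p B) :
    Hyp p (G ⧸ B) where
  cyc Q := h.cyc_quot B Q
  ab X hX := by
    have hpp : p.Prime := hp.out
    set W := X.comap (QuotientGroup.mk' B) with hW
    have hBW : B ≤ W := le_comap_mk B X
    have hW1 : Nat.card W = Nat.card B * Nat.card X := card_comap_mk B X
    have hW2 : B.relIndex W = Nat.card X := by
      have h1 := card_eq_mul_relIndex hBW
      rw [hW1] at h1
      exact (Nat.eq_of_mul_eq_mul_left Nat.card_pos h1).symm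
    have hc : (Nat.card B).Coprime (B.relIndex W) := by
      obtain ⟨k, hk⟩ := hBp.exists_card_eq
      rw [hk, hW2]
      exact Nat.Coprime.pow_left _ ((Nat.Prime.coprime_iff_not_dvd hpp).2 hX)
    obtain ⟨L, hLW, hL1, hL2⟩ := exists_complement_in B W hBW
      (by rw [normalizer_eq_top_iff.mpr hB]; exact le_top) hc
    have hL3 : ¬ p ∣ Nat.card L := by rw [hL1, hW2]; exact hX
    refine ⟨⟨fun a b => comm_of_image h hL3 ?_ a b⟩⟩
    intro x hx
    obtain ⟨w, rfl⟩ := QuotientGroup.mk_surjective x
    have hw : w ∈ W := by rw [hW, mem_comap]; exact hx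
    obtain ⟨b, hb, l, hl, hbl⟩ := hL2 w hw
    refine ⟨l, hl, ?_⟩
    rw [hbl, QuotientGroup.mk_mul]
    have : ((b : G) : G ⧸ B) = 1 := (QuotientGroup.eq_one_iff _).2 hb
    rw [this, one_mul]

/-- A complement to a Sylow subgroup in its normalizer. -/
theorem exists_complement_normalizer (P : Sylow p G) :
    ∃ Y : Subgroup G, Y ≤ normalizer ((P : Subgroup G) : Set G) ∧ ¬ p ∣ Nat.card Y ∧
      (∀ m ∈ normalizer ((P : Subgroup G) : Set G), ∃ g ∈ (P : Subgroup G), ∃ y ∈ Y, m = g * y) ∧
      Nat.card (normalizer ((P : Subgroup G) : Set G)) = Nat.card P * Nat.card Y := by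
  have hpp : p.Prime := hp.out
  set M := normalizer ((P : Subgroup G) : Set G) with hM
  have hPM : (P : Subgroup G) ≤ M := Subgroup.le_normalizer
  have hnd : ¬ p ∣ (P : Subgroup G).relIndex M := by
    intro hd
    exact P.not_dvd_index (hd.trans (Subgroup.relIndex_dvd_index_of_le hPM))
  have hc : (Nat.card P).Coprime ((P : Subgroup G).relIndex M) := by
    obtain ⟨k, hk⟩ := P.2.exists_card_eq
    rw [hk]
    exact Nat.Coprime.pow_left _ ((Nat.Prime.coprime_iff_not_dvd hpp).2 hnd)
  obtain ⟨Y, hY1, hY2, hY3⟩ := exists_complement_in (P : Subgroup G) M hPM le_rfl hc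
  refine ⟨Y, hY1, by rwa [hY2], ?_, ?_⟩
  · intro m hm
    obtain ⟨b, hb, l, hl, hbl⟩ := hY3 m hm
    exact ⟨b, hb, l, hl, hbl⟩
  · rw [hY2]; exact card_eq_mul_relIndex hPM

/-- Case `A`: a normal `p'`-subgroup. -/
theorem caseA (h : Hyp p G) (A : Subgroup G) [hA : A.Normal] (hAp : ¬ p ∣ Nat.card A)
    (hq : PS p (G ⧸ A)) : PS p G := by
  have hpp : p.Prime := hp.out
  rcases hq with hq | ⟨Q, hQ⟩
  · left
    obtain ⟨N₁, hn, hc, k, hk⟩ := exists_hall_of_hasNormalPComplement hq
    haveI := hn
    have hind : (N₁.comap (QuotientGroup.mk' A)).index = p ^ k := by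
      rw [Subgroup.index_comap_of_surjective _ (QuotientGroup.mk'_surjective A)]; exact hk
    have hcop : (Nat.card (N₁.comap (QuotientGroup.mk' A))).Coprime p := by
      rw [card_comap_mk]
      exact Nat.Coprime.mul_left ((Nat.Prime.coprime_iff_not_dvd hpp).2 hAp).symm hc
    exact hasNormalPComplement_of_hall hcop hind
  · obtain ⟨P⟩ : Nonempty (Sylow p G) := inferInstance
    haveI := Sylow.unique_of_normal Q hQ
    have hf := QuotientGroup.mk'_surjective A
    have hPQ : (P.mapSurjective hf : Subgroup (G ⧸ A)) = Q := by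
      rw [Subsingleton.elim (P.mapSurjective hf) Q]
    set T := (Q : Subgroup (G ⧸ A)).comap (QuotientGroup.mk' A) with hT
    haveI : T.Normal := hQ.comap _
    have hPT : (P : Subgroup G) ≤ T := by
      intro x hx
      rw [hT, mem_comap, ← hPQ]
      exact ⟨x, hx, rfl⟩
    have h1 := Sylow.normalizer_sup_eq_top' P hPT
    set M := normalizer ((P : Subgroup G) : Set G) with hM
    have hMA : M ⊔ A = ⊤ := by
      rw [eq_top_iff, ← h1]
      apply sup_le le_sup_left
      intro x hx
      rw [hT, mem_comap, ← hPQ] at hx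
      obtain ⟨g, hg, hgx⟩ := hx
      have h2 : g⁻¹ * x ∈ A := by
        rw [← QuotientGroup.eq]
        exact hgx
      have h3 : x = g * (g⁻¹ * x) := by group
      rw [h3]
      exact mul_mem (Subgroup.mem_sup_left (Subgroup.le_normalizer hg)) (Subgroup.mem_sup_right h2)
    obtain ⟨Y, hYM, hYp, hYd, -⟩ := exists_complement_normalizer P
    rw [← hM] at hYM hYd
    -- `A Y` is a `p'`-group
    have hAY : ¬ p ∣ Nat.card ↥(A ⊔ Y) := by
      rw [card_eq_mul_relIndex (le_sup_left : A ≤ A ⊔ Y), relIndex_sup_left]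
      refine Nat.Prime.not_dvd_mul hpp hAp (fun hd => hYp (hd.trans (relIndex_dvd_card _ _)))
    have hcomm : ∀ y ∈ Y, ∀ a ∈ A, y * a = a * y := fun y hy a ha =>
      h.comm hAY (Subgroup.mem_sup_right hy) (Subgroup.mem_sup_left ha)
    by_cases hPA : ∀ x ∈ (P : Subgroup G), ∀ a ∈ A, x * a = a * x
    · right
      refine ⟨P, ?_⟩
      rw [← normalizer_eq_top_iff]
      have h2 : A ≤ M := by
        intro a ha
        apply mem_normalizer_of_forall_commute
        intro z hz
        exact (hPA z hz a ha).symm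
      rw [← hM, ← sup_eq_left.mpr h2, hMA]
    · left
      haveI := h.cyc P
      have hyc : ∀ y ∈ Y, ∀ x ∈ (P : Subgroup G), y * x = x * y := by
        intro y hy
        have hyo : ¬ p ∣ orderOf y := fun hd => hYp (hd.trans (Subgroup.orderOf_dvd_natCard Y hy))
        refine centralizes_of_mod (Q₀ := centralizer (A : Set G)) (h.cyc P) P.2 (hYM hy) hyo ?_ ?_
        · intro hle
          apply hPA
          intro x hx a ha
          exact (Subgroup.mem_centralizer_iff.mp (hle hx) a ha).symm
        · intro x hx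
          rw [Subgroup.mem_centralizer_iff]
          intro a ha
          have ha' : x⁻¹ * a * x ∈ A := by
            have := hA.conj_mem a ha x⁻¹
            simpa using this
          have c1 : Commute y (x⁻¹ * a * x) := hcomm y hy _ ha'
          have c2 : Commute y⁻¹ (x⁻¹ * a * x) := c1.inv_left
          symm
          calc (y * x * y⁻¹ * x⁻¹) * a = y * x * (y⁻¹ * (x⁻¹ * a * x)) * x⁻¹ := by group
            _ = y * x * ((x⁻¹ * a * x) * y⁻¹) * x⁻¹ := by rw [c2.eq]
            _ = (y * a) * x * y⁻¹ * x⁻¹ := by group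
            _ = (a * y) * x * y⁻¹ * x⁻¹ := by rw [hcomm y hy a ha]
            _ = a * (y * x * y⁻¹ * x⁻¹) := by group
      set V := A ⊔ Y with hV
      have hMV : M ≤ (P : Subgroup G) ⊔ V := by
        intro m hm
        obtain ⟨g, hg, y, hy, rfl⟩ := hYd m hm
        exact mul_mem (Subgroup.mem_sup_left hg)
          (Subgroup.mem_sup_right (Subgroup.mem_sup_right hy))
      have hPV : (P : Subgroup G) ⊔ V = ⊤ := by
        rw [eq_top_iff, ← hMA]
        exact sup_le hMV (le_sup_of_le_right le_sup_left)
      have hVn : V.Normal := by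
        rw [← normalizer_eq_top_iff, eq_top_iff, ← hPV]
        apply sup_le _ Subgroup.le_normalizer
        intro x hx
        apply mem_normalizer_of_conj_le'
        intro w hw
        have h3 : V ≤ V.comap (MulAut.conj x).toMonoidHom := by
          rw [hV]
          apply sup_le
          · intro a ha
            rw [mem_comap]
            exact Subgroup.mem_sup_left (hA.conj_mem a ha x)
          · intro y hy
            rw [mem_comap]
            have : (MulAut.conj x).toMonoidHom y = y := by
              simp only [MulEquiv.coe_toMonoidHom, MulAut.conj_apply]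
              rw [← hyc y hy x hx]
              group
            rw [this]
            exact Subgroup.mem_sup_right hy
        exact h3 hw
      have hVi : ∃ j, V.index = p ^ j := by
        obtain ⟨k, hk⟩ := P.2.exists_card_eq
        have h3 : V.index ∣ p ^ k := by
          have h4 : V.relIndex (V ⊔ (P : Subgroup G)) = V.relIndex P := relIndex_sup_left _ _
          rw [sup_comm, hPV, relIndex_top_right] at h4
          rw [h4, ← hk]
          exact relIndex_dvd_card _ _
        obtain ⟨j, -, hj⟩ := (Nat.dvd_prime_pow hpp).1 h3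
        exact ⟨j, hj⟩
      obtain ⟨j, hj⟩ := hVi
      exact hasNormalPComplement_of_hall ((Nat.Prime.coprime_iff_not_dvd hpp).2 hAY).symm hj

theorem mem_conj_smul_iff' {H : Subgroup G} {g x : G} :
    x ∈ MulAut.conj g • H ↔ g⁻¹ * x * g ∈ H := by
  rw [Subgroup.mem_pointwise_smul_iff_inv_smul_mem]
  simp [MulAut.smul_def, MulAut.conj_apply, mul_assoc]

/-- Case `B`: a normal `p`-subgroup. -/
theorem caseB (h : Hyp p G) (B : Subgroup G) [hB : B.Normal] (hBp : IsPGroup p B)
    (hq : PS p (G ⧸ B)) : PS p G := by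
  have hpp : p.Prime := hp.out
  rcases hq with hq | ⟨Q, hQ⟩
  · obtain ⟨N₁, hn, hc, k, hk⟩ := exists_hall_of_hasNormalPComplement hq
    haveI := hn
    set K := N₁.comap (QuotientGroup.mk' B) with hK
    haveI hKn : K.Normal := hn.comap _
    have hBK : B ≤ K := le_comap_mk B N₁
    have hKind : K.index = p ^ k := by
      rw [hK, Subgroup.index_comap_of_surjective _ (QuotientGroup.mk'_surjective B)]; exact hk
    have hK1 : Nat.card K = Nat.card B * Nat.card N₁ := card_comap_mk B N₁
    have hri : B.relIndex K = Nat.card N₁ := by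
      have h1 := card_eq_mul_relIndex hBK
      rw [hK1] at h1
      exact (Nat.eq_of_mul_eq_mul_left Nat.card_pos h1).symm
    obtain ⟨b₀, hb₀⟩ := hBp.exists_card_eq
    have hc' : (Nat.card B).Coprime (B.relIndex K) := by
      rw [hb₀, hri]
      exact Nat.Coprime.pow_left _ hc.symm
    obtain ⟨L, hLK, hL1, hL2⟩ := exists_complement_in B K hBK
      (by rw [normalizer_eq_top_iff.mpr hB]; exact le_top) hc'
    have hLc : (Nat.card L).Coprime p := by rw [hL1, hri]; exact hc
    have hLp : ¬ p ∣ Nat.card L := by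
      rw [← Nat.Prime.coprime_iff_not_dvd hpp]; exact hLc.symm
    obtain ⟨P⟩ : Nonempty (Sylow p G) := inferInstance
    haveI hPc := h.cyc P
    have hBP : B ≤ P := Cfsg.Agent.Lib.Basic.normal_pGroup_le_sylow hB hBp P
    haveI hBc : IsCyclic B := by
      let f : B →* (P : Subgroup G) := Subgroup.inclusion hBP
      exact isCyclic_of_injective f (Subgroup.inclusion_injective hBP)
    haveI hBcomm : IsMulCommutative B := ⟨⟨fun a b => comm_of_isCyclic a b⟩⟩
    have hsup : L ⊔ B = K := by
      apply le_antisymm (sup_le hLK hBK)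
      intro x hx
      obtain ⟨b, hb, l, hl, rfl⟩ := hL2 x hx
      exact mul_mem (Subgroup.mem_sup_right hb) (Subgroup.mem_sup_left hl)
    have hcopL : (Nat.card B).Coprime (Nat.card L) := by
      rw [hb₀]; exact Nat.Coprime.pow_left _ hLc.symm
    have hfr : ∀ g : G, ∃ b ∈ B, ∃ r ∈ normalizer (L : Set G), g = b * r := by
      intro g
      have hcardc : Nat.card ↥(MulAut.conj g • L) = Nat.card L := by
        exact Nat.card_congr (Subgroup.equivSMul _ _).symm.toEquiv
      have hsup' : L ⊔ B = (MulAut.conj g • L) ⊔ B := by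
        have h1 : MulAut.conj g • (L ⊔ B) = (MulAut.conj g • L) ⊔ (MulAut.conj g • B) :=
          Subgroup.smul_sup _ _ _
        have h2 : MulAut.conj g • B = B := by
          apply le_antisymm
          · intro x hx
            rw [mem_conj_smul_iff'] at hx
            have := hB.conj_mem _ hx g
            convert this using 1
            group
          · intro x hx
            rw [mem_conj_smul_iff']
            have := hB.conj_mem _ hx g⁻¹
            convert this using 1
            group
        have h3 : MulAut.conj g • K = K := by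
          apply le_antisymm
          · intro x hx
            rw [mem_conj_smul_iff'] at hx
            have := hKn.conj_mem _ hx g
            convert this using 1
            group
          · intro x hx
            rw [mem_conj_smul_iff']
            have := hKn.conj_mem _ hx g⁻¹
            convert this using 1
            group
        rw [hsup, h2] at h1
        rw [hsup, ← h1, h3]
      obtain ⟨a, ha, haL⟩ := Cfsg.Agent.Lib.Basic.schurZassenhaus_conj_abelian_rel B L
        (MulAut.conj g • L) (by rw [normalizer_eq_top_iff.mpr hB]; exact le_top)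
        (by rw [normalizer_eq_top_iff.mpr hB]; exact le_top) hcopL (by rw [hcardc]; exact hcopL)
        hsup'
      refine ⟨a, ha, a⁻¹ * g, ?_, by group⟩
      apply mem_normalizer_of_conj_le'
      intro w hw
      have h1 : g * w * g⁻¹ ∈ MulAut.conj g • L := by
        rw [mem_conj_smul_iff']
        convert hw using 1
        group
      rw [← haL, mem_conj_smul_iff'] at h1
      convert h1 using 1
      group
    set R := normalizer (L : Set G) with hR
    have hBR : B ⊔ R = ⊤ := by
      rw [eq_top_iff]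
      intro g _
      obtain ⟨b, hb, r, hr, rfl⟩ := hfr g
      exact mul_mem (Subgroup.mem_sup_left hb) (Subgroup.mem_sup_right hr)
    obtain ⟨T₀⟩ : Nonempty (Sylow p R) := inferInstance
    set T₁ := (T₀ : Subgroup R).map R.subtype with hT₁
    have hT₁p : IsPGroup p T₁ := T₀.2.map _
    have hT₁R : T₁ ≤ R := by
      rintro _ ⟨x, -, rfl⟩
      exact x.2
    obtain ⟨S, hS⟩ := (hT₁p.to_sup_of_normal_right hBp).exists_le_sylow
    rcases chain_of_cyclic (h.cyc S) S.2 (le_sup_left.trans hS) (le_sup_right.trans hS) with hle | hle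
    · -- `T₁ ≤ B`: `B` is a normal Sylow subgroup
      right
      have hnd : ¬ p ∣ B.index := by
        have h1 : B.relIndex (B ⊔ R) = B.relIndex R := relIndex_sup_left _ _
        rw [hBR, relIndex_top_right] at h1
        rw [h1, ← inf_relIndex_right]
        intro hd
        have h2 : (B ⊓ R).relIndex R ∣ T₁.relIndex R :=
          Subgroup.relIndex_dvd_of_le_left R (le_inf hle hT₁R)
        have h3 : T₁.relIndex R = (T₀ : Subgroup R).index := by
          have h4 : T₁.subgroupOf R = (T₀ : Subgroup R) :=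
            Subgroup.comap_map_eq_self_of_injective R.subtype_injective _
          rw [Subgroup.relIndex, h4]
        rw [h3] at h2
        exact T₀.not_dvd_index (hd.trans h2)
      refine ⟨hBp.toSylow hnd, ?_⟩
      rw [IsPGroup.toSylow_coe]
      exact hB
    · -- `B ≤ T₁`: `L` is normal
      left
      have hRt : R = ⊤ := by
        rw [← hBR]
        exact (sup_eq_right.mpr (hle.trans hT₁R)).symm
      haveI hLn : L.Normal := normalizer_eq_top_iff.mp hRt
      have h1 := L.card_mul_index
      have h2 := K.card_mul_index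
      rw [hK1, hKind, ← hri, ← hL1, ← h1, hb₀] at h2
      have h3 : L.index = p ^ (b₀ + k) := by
        apply Nat.eq_of_mul_eq_mul_left (Nat.card_pos (α := L))
        rw [← h2, pow_add]
        ring
      exact hasNormalPComplement_of_hall hLc h3
  · right
    set T := (Q : Subgroup (G ⧸ B)).comap (QuotientGroup.mk' B) with hT
    have hTp : IsPGroup p T := by
      apply Q.2.comap_of_ker_isPGroup
      rw [QuotientGroup.ker_mk']
      exact hBp
    have hnd : ¬ p ∣ T.index := by
      rw [hT, Subgroup.index_comap_of_surjective _ (QuotientGroup.mk'_surjective B)]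
      exact Q.not_dvd_index
    refine ⟨hTp.toSylow hnd, ?_⟩
    rw [IsPGroup.toSylow_coe]
    exact hQ.comap _

/-- A proper nontrivial normal subgroup gives a nontrivial normal subgroup which is a `p`-group or
a `p'`-group. -/
theorem exists_normal_small (N : Subgroup G) (hN : N.Normal) (hN1 : N ≠ ⊥) (hps : PS p N) :
    ∃ N₀ : Subgroup G, N₀.Normal ∧ N₀ ≠ ⊥ ∧ (¬ p ∣ Nat.card N₀ ∨ IsPGroup p N₀) := by
  have hpp : p.Prime := hp.out
  rcases hps with hc | ⟨Q, hQ⟩
  · obtain ⟨J, hJn, hJc, k, hk⟩ := exists_hall_of_hasNormalPComplement hc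
    haveI := hJn
    set J' := J.map N.subtype with hJ'
    have hJ'card : Nat.card J' = Nat.card J := Subgroup.card_map_of_injective N.subtype_injective
    have hmem : ∀ x : G, x ∈ J' ↔ x ∈ N ∧ Nat.Coprime (orderOf x) p := by
      intro x
      constructor
      · rintro ⟨y, hy, rfl⟩
        refine ⟨y.2, ?_⟩
        have := (mem_iff_coprime_of_hall hJc hk y).1 hy
        simpa using this
      · rintro ⟨hx, hx2⟩
        refine ⟨⟨x, hx⟩, ?_, rfl⟩
        refine (mem_iff_coprime_of_hall hJc hk _).2 ?_
        simpa using hx2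
    have hnorm : J'.Normal := by
      refine ⟨fun x hx g => ?_⟩
      rw [hmem] at hx ⊢
      refine ⟨hN.conj_mem x hx.1 g, ?_⟩
      rw [orderOf_conj_eq]
      exact hx.2
    by_cases hJb : J' = ⊥
    · refine ⟨N, hN, hN1, Or.inr ?_⟩
      have h1 : Nat.card J = 1 := by
        rw [← hJ'card, hJb]; exact Nat.card_unique
      have h2 := J.card_mul_index
      rw [h1, hk, one_mul] at h2
      exact IsPGroup.of_card h2.symm
    · refine ⟨J', hnorm, hJb, Or.inl ?_⟩
      rw [hJ'card, ← Nat.Prime.coprime_iff_not_dvd hpp]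
      exact hJc.symm
  · set Q' := (Q : Subgroup N).map N.subtype with hQ'
    have hnorm : Q'.Normal := by
      refine ⟨fun x hx g => ?_⟩
      obtain ⟨y, hy, rfl⟩ := hx
      have hgx : g * (y : G) * g⁻¹ ∈ N := hN.conj_mem _ y.2 g
      refine ⟨⟨g * y * g⁻¹, hgx⟩, ?_, rfl⟩
      apply mem_sylow_of_mem_normalizer Q
      · obtain ⟨j, hj⟩ := IsPGroup.iff_orderOf.mp Q.2 ⟨y, hy⟩
        refine ⟨j, ?_⟩
        rw [Subgroup.orderOf_mk, orderOf_conj_eq]
        rw [Subgroup.orderOf_mk, Subgroup.orderOf_mk] at hj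
        exact hj
      · rw [normalizer_eq_top_iff.mpr hQ]; trivial
    by_cases hQb : Q' = ⊥
    · refine ⟨N, hN, hN1, Or.inl fun hd => ?_⟩
      apply Q.ne_bot_of_dvd_card hd
      rw [hQ'] at hQb
      exact (Subgroup.map_eq_bot_iff_of_injective _ N.subtype_injective).mp hQb
    · exact ⟨Q', hnorm, hQb, Or.inr (Q.2.map _)⟩

end general

end Cfsg.Agent.Lib.PGroups.CycP
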