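import Cfsg.Agent.Lib.PGroups.CycP2
import Cfsg.Agent.Lib.Transfer.Frobenius

/-!
# Groups with a cyclic Sylow subgroup and abelian `p'`-subgroups: the simple case, local structure
-/

set_option autoImplicit false

namespace Cfsg.Agent.Lib.PGroups.CycP

open Subgroup Cfsg.Agent.Lib.Transfer
open scoped Pointwise

universe u

/-- The hypotheses of the simple case. -/
structure SH (p : ℕ) (G : Type*) [Group G] : Prop where
  hyp : Hyp p G
  simple : ∀ N : Subgroup G, N.Normal → N = ⊥ ∨ N = ⊤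
  nonab : ∃ x y : G, x * y ≠ y * x
  pdvd : p ∣ Nat.card G
  ps : ∀ H : Subgroup G, H ≠ ⊤ → PS p H

section SHsec

variable {G : Type*} [Group G] [Finite G] {p : ℕ}

theorem SH.not_comm (h : SH p G) : ¬ ∀ x y : G, x * y = y * x := by
  obtain ⟨x, y, hxy⟩ := h.nonab
  exact fun hc => hxy (hc x y)

/-- The centre is trivial. -/
theorem SH.central (h : SH p G) {x : G} (hx : ∀ y, x * y = y * x) : x = 1 := by
  rcases h.simple (center G) inferInstance with hb | ht
  · have : x ∈ center G := Subgroup.mem_center_iff.mpr (fun y => (hx y).symm)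
    rw [hb] at this
    simpa using this
  · exfalso
    apply h.not_comm
    intro a b
    have : a ∈ center G := by rw [ht]; trivial
    exact (Subgroup.mem_center_iff.mp this b).symm

/-- **Burnside**: no Sylow subgroup is central in its normaliser. -/
theorem SH.burnside (h : SH p G) {r : ℕ} [Fact r.Prime] (hr : r ∣ Nat.card G) (S : Sylow r G) :
    ¬ normalizer ((S : Subgroup G) : Set G) ≤ centralizer ((S : Subgroup G) : Set G) := by
  intro hS
  have hc := MonoidHom.ker_transferSylow_isComplement' S hS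
  set N := (MonoidHom.transferSylow S hS).ker with hN
  have hNn : N.Normal := MonoidHom.normal_ker _
  have hcard := hc.card_mul
  rcases h.simple N hNn with hb | ht
  · rw [hb] at hcard
    simp only [Nat.card_unique, one_mul] at hcard
    have hSt : (S : Subgroup G) = ⊤ := by
      exact Subgroup.eq_top_of_card_eq _ hcard
    apply h.not_comm
    intro a b
    have h1 : a ∈ normalizer ((S : Subgroup G) : Set G) := by
      rw [normalizer_eq_top_iff.mpr (by rw [hSt]; infer_instance)]; trivial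
    have h2 := Subgroup.mem_centralizer_iff.mp (hS h1) b (by rw [hSt]; trivial)
    exact h2.symm
  · rw [ht] at hcard
    have h1 : Nat.card (S : Subgroup G) = 1 := by
      have h2 : Nat.card (⊤ : Subgroup G) = Nat.card G := Subgroup.card_top
      rw [h2] at hcard
      have hpos : 0 < Nat.card G := Nat.card_pos
      exact Nat.eq_of_mul_eq_mul_left hpos (by rw [hcard, mul_one])
    exact S.ne_bot_of_dvd_card hr (Subgroup.card_eq_one.mp h1)

variable [hp : Fact p.Prime]

theorem SH.not_top (h : SH p G) (Q : Sylow p G) : (Q : Subgroup G) ≠ ⊤ := by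
  intro ht
  apply h.not_comm
  intro a b
  haveI := h.hyp.cyc Q
  have h1 : a ∈ (Q : Subgroup G) := by rw [ht]; trivial
  have h2 : b ∈ (Q : Subgroup G) := by rw [ht]; trivial
  exact congrArg Subtype.val (comm_of_isCyclic (⟨a, h1⟩ : (Q : Subgroup G)) ⟨b, h2⟩)

theorem SH.ne_bot (h : SH p G) (Q : Sylow p G) : (Q : Subgroup G) ≠ ⊥ :=
  Q.ne_bot_of_dvd_card h.pdvd

/-- Elements of a Sylow `p`-subgroup commute. -/
theorem SH.sylow_comm (h : SH p G) (Q : Sylow p G) {a b : G} (ha : a ∈ (Q : Subgroup G))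
    (hb : b ∈ (Q : Subgroup G)) : a * b = b * a := by
  haveI := h.hyp.cyc Q
  exact congrArg Subtype.val (comm_of_isCyclic (⟨a, ha⟩ : (Q : Subgroup G)) ⟨b, hb⟩)

/-- The normaliser of a Sylow `p`-subgroup is a maximal subgroup. -/
theorem SH.max (h : SH p G) (Q : Sylow p G) {H : Subgroup G}
    (hle : normalizer ((Q : Subgroup G) : Set G) ≤ H) (hne : H ≠ ⊤) :
    H = normalizer ((Q : Subgroup G) : Set G) := by
  have hpp : p.Prime := hp.out
  have hQH : (Q : Subgroup G) ≤ H := Subgroup.le_normalizer.trans hle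
  rcases h.ps H hne with hc | ⟨Q₁, hQ₁⟩
  · exfalso
    obtain ⟨J, hJn, hJc, k, hk⟩ := exists_hall_of_hasNormalPComplement hc
    haveI := hJn
    apply h.burnside h.pdvd Q
    intro m hm
    obtain ⟨a, b, hab, -, ⟨j, hj⟩, hbo, ha', hb'⟩ := exists_pPart p m
    have haN : a ∈ normalizer ((Q : Subgroup G) : Set G) := (zpowers_le.mpr hm) ha'
    have hbN : b ∈ normalizer ((Q : Subgroup G) : Set G) := (zpowers_le.mpr hm) hb'
    have haQ : a ∈ (Q : Subgroup G) := mem_sylow_of_mem_normalizer Q ⟨j, hj⟩ haN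
    have hbJ : (⟨b, hle hbN⟩ : H) ∈ J := by
      rw [mem_iff_coprime_of_hall hJc hk, Subgroup.orderOf_mk]
      exact ((Nat.Prime.coprime_iff_not_dvd hpp).mpr hbo).symm
    rw [Subgroup.mem_centralizer_iff]
    intro x hx
    have hc1 : b * x * b⁻¹ * x⁻¹ ∈ (Q : Subgroup G) :=
      mul_mem ((Subgroup.mem_normalizer_iff.mp hbN x).mp hx) (inv_mem hx)
    have hc2 : (⟨b, hle hbN⟩ : H) * (⟨x, hQH hx⟩ : H) * (⟨b, hle hbN⟩ : H)⁻¹ * (⟨x, hQH hx⟩ : H)⁻¹ ∈ J := by
      have h1 := hJn.conj_mem _ (inv_mem hbJ) (⟨x, hQH hx⟩ : H)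
      have h2 := mul_mem hbJ h1
      convert h2 using 1
      group
    have hc3 : orderOf (b * x * b⁻¹ * x⁻¹) = 1 := by
      have h1 : orderOf (b * x * b⁻¹ * x⁻¹) ∣ Nat.card Q :=
        Subgroup.orderOf_dvd_natCard _ hc1
      have h2 := Subgroup.orderOf_dvd_natCard J hc2
      have h3 : orderOf ((⟨b, hle hbN⟩ : H) * (⟨x, hQH hx⟩ : H) * (⟨b, hle hbN⟩ : H)⁻¹ * (⟨x, hQH hx⟩ : H)⁻¹) =
          orderOf (b * x * b⁻¹ * x⁻¹) := by
        rw [← Subgroup.orderOf_coe]
        simp
      rw [h3] at h2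
      obtain ⟨n, hn⟩ := Q.2.exists_card_eq
      rw [hn] at h1
      exact Nat.Coprime.eq_one_of_dvd (Nat.Coprime.coprime_dvd_left h2
        (Nat.Coprime.pow_right _ hJc)) h1
    have hc4 : b * x * b⁻¹ * x⁻¹ = 1 := orderOf_eq_one_iff.mp hc3
    have hc5 : b * x = x * b := by
      have : b * x * b⁻¹ = x := by
        rwa [mul_inv_eq_one] at hc4
      rwa [mul_inv_eq_iff_eq_mul] at this
    rw [hab, mul_assoc a b x, hc5, ← mul_assoc, ← mul_assoc, h.sylow_comm Q hx haQ]
  · apply le_antisymm _ hle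
    have hQ2 : (Q : Subgroup G) ≤ (Q₁ : Subgroup H).map H.subtype := by
      intro x hx
      refine ⟨⟨x, hQH hx⟩, ?_, rfl⟩
      apply mem_sylow_of_mem_normalizer Q₁
      · obtain ⟨j, hj⟩ := IsPGroup.iff_orderOf.mp Q.2 ⟨x, hx⟩
        refine ⟨j, ?_⟩
        rw [Subgroup.orderOf_mk]
        rw [Subgroup.orderOf_mk] at hj
        exact hj
      · rw [normalizer_eq_top_iff.mpr hQ₁]; trivial
    have hQ3 : (Q₁ : Subgroup H).map H.subtype = (Q : Subgroup G) :=
      Q.is_maximal' (Q₁.2.map _) hQ2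
    intro g hg
    rw [Subgroup.mem_normalizer_iff]
    intro x
    rw [← hQ3]
    constructor
    · rintro ⟨y, hy, rfl⟩
      exact ⟨⟨g, hg⟩ * y * ⟨g, hg⟩⁻¹, hQ₁.conj_mem y hy _, rfl⟩
    · rintro ⟨y, hy, hyx⟩
      have h1 : (⟨g, hg⟩ : H)⁻¹ * y * (⟨g, hg⟩ : H)⁻¹⁻¹ ∈ (Q₁ : Subgroup H) := hQ₁.conj_mem y hy _
      refine ⟨_, h1, ?_⟩
      simp only [Subgroup.coe_subtype, Subgroup.coe_mul, Subgroup.coe_inv, inv_inv] at hyx ⊢
      rw [hyx]
      group

/-- The normaliser of a nontrivial subgroup of a Sylow `p`-subgroup is that of the Sylow subgroup. -/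
theorem SH.normalizer_eq (h : SH p G) (Q : Sylow p G) {Z : Subgroup G} (hZ : Z ≤ Q) (hZ1 : Z ≠ ⊥) :
    normalizer (Z : Set G) = normalizer ((Q : Subgroup G) : Set G) := by
  apply h.max Q
  · intro m hm
    apply mem_normalizer_of_conj_le'
    set A := Z.map (MulAut.conj m).toMonoidHom with hA
    have hAQ : A ≤ Q := by
      rintro _ ⟨z, hz, rfl⟩
      exact (Subgroup.mem_normalizer_iff.mp hm z).mp (hZ hz)
    have hAc : Nat.card A = Nat.card Z :=
      Subgroup.card_map_of_injective (MulAut.conj m).injective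
    have hAZ : A ≤ Z := by
      rcases chain_of_cyclic (h.hyp.cyc Q) Q.2 hAQ hZ with hle | hle
      · exact hle
      · exact (Subgroup.eq_of_le_of_card_ge hle hAc.le).ge
    intro w hw
    exact hAZ ⟨w, hw, rfl⟩
  · intro ht
    have hn : Z.Normal := normalizer_eq_top_iff.mp ht
    rcases h.simple Z hn with hb | ht'
    · exact hZ1 hb
    · exact h.not_top Q (top_le_iff.mp (ht' ▸ hZ))

/-- Centralisers of nonidentity elements of `Q` lie in `N(Q)`. -/
theorem SH.mem_normalizer_of_commute (h : SH p G) (Q : Sylow p G) {a x : G} (ha : a ∈ (Q : Subgroup G))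
    (ha1 : a ≠ 1) (hx : x * a = a * x) : x ∈ normalizer ((Q : Subgroup G) : Set G) := by
  rw [← h.normalizer_eq Q (Z := zpowers a) (zpowers_le.mpr ha) (by simpa using ha1)]
  apply mem_normalizer_of_forall_commute
  intro z hz
  obtain ⟨i, rfl⟩ := mem_zpowers_iff.mp hz
  exact ((show Commute x a from hx).zpow_right i).eq

/-- The Sylow subgroups are TI. -/
theorem SH.sylow_eq (h : SH p G) (Q Q' : Sylow p G) {a : G} (ha : a ∈ (Q : Subgroup G))
    (ha' : a ∈ (Q' : Subgroup G)) (ha1 : a ≠ 1) : Q = Q' := by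
  have h1 := h.normalizer_eq Q (Z := zpowers a) (zpowers_le.mpr ha) (by simpa using ha1)
  have h2 := h.normalizer_eq Q' (Z := zpowers a) (zpowers_le.mpr ha') (by simpa using ha1)
  have h3 : (Q' : Subgroup G) ≤ Q := by
    intro x hx
    apply mem_sylow_of_mem_normalizer Q
    · obtain ⟨j, hj⟩ := IsPGroup.iff_orderOf.mp Q'.2 ⟨x, hx⟩
      refine ⟨j, ?_⟩
      rw [Subgroup.orderOf_mk] at hj
      exact hj
    · rw [← h1, h2]
      exact Subgroup.le_normalizer hx
  apply Sylow.ext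
  exact Q'.is_maximal' Q.2 h3

/-- Membership in the normaliser of a conjugate Sylow subgroup. -/
theorem mem_normalizer_smul (Q : Sylow p G) (g x : G) :
    x ∈ normalizer (((g • Q : Sylow p G) : Subgroup G) : Set G) ↔
      g⁻¹ * x * g ∈ normalizer ((Q : Subgroup G) : Set G) := by
  have hm : ∀ z, z ∈ ((g • Q : Sylow p G) : Subgroup G) ↔ g⁻¹ * z * g ∈ (Q : Subgroup G) :=
    fun z => mem_smul_sylow
  constructor
  · intro hx
    rw [Subgroup.mem_normalizer_iff]
    intro y
    have h1 := Subgroup.mem_normalizer_iff.mp hx (g * y * g⁻¹)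
    rw [hm, hm] at h1
    have e1 : g⁻¹ * (g * y * g⁻¹) * g = y := by group
    have e2 : g⁻¹ * (x * (g * y * g⁻¹) * x⁻¹) * g = g⁻¹ * x * g * y * (g⁻¹ * x * g)⁻¹ := by group
    rw [e1, e2] at h1
    exact h1
  · intro hx
    rw [Subgroup.mem_normalizer_iff]
    intro y
    have h1 := Subgroup.mem_normalizer_iff.mp hx (g⁻¹ * y * g)
    rw [hm, hm, h1]
    have e2 : g⁻¹ * x * g * (g⁻¹ * y * g) * (g⁻¹ * x * g)⁻¹ = g⁻¹ * (x * y * x⁻¹) * g := by group
    rw [e2]

/-- An element of `N(Q)` of order prime to `p` commuting with a nonidentity element of `Q` centralises `Q`. -/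
theorem SH.centralizes (h : SH p G) (Q : Sylow p G) {y a : G} (hy : y ∈ normalizer ((Q : Subgroup G) : Set G))
    (hyo : ¬ p ∣ orderOf y) (ha : a ∈ (Q : Subgroup G)) (ha1 : a ≠ 1) (hya : y * a = a * y) :
    ∀ x ∈ (Q : Subgroup G), y * x = x * y :=
  centralizes_of_fix (h.hyp.cyc Q) Q.2 hy hyo ha ha1 hya

end SHsec

end Cfsg.Agent.Lib.PGroups.CycP
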