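import Cfsg.Agent.Lib.PGroups.CycP3

/-!
# Groups with a cyclic Sylow subgroup and abelian `p'`-subgroups: the simple case, global structure
-/

set_option autoImplicit false

namespace Cfsg.Agent.Lib.PGroups.CycP

open Subgroup Cfsg.Agent.Lib.Transfer
open scoped Pointwise

universe u

theorem modEq_one_of_parts (m p : ℕ) (hm : m ≠ 0)
    (h : ∀ r, r.Prime → r ∣ m → r ^ (m.factorization r) ≡ 1 [MOD p]) : m ≡ 1 [MOD p] := by
  have key : ∀ s : Finset ℕ, (∀ r ∈ s, r ^ (m.factorization r) ≡ 1 [MOD p]) →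
      (∏ r ∈ s, r ^ (m.factorization r)) ≡ 1 [MOD p] := by
    intro s
    induction s using Finset.induction_on with
    | empty => intro _; simp [Nat.ModEq.refl]
    | insert a s ha ih =>
      intro hs
      rw [Finset.prod_insert ha]
      have h1 := hs a (Finset.mem_insert_self _ _)
      have h2 := ih (fun r hr => hs r (Finset.mem_insert_of_mem hr))
      simpa using h1.mul h2
  have h1 := key m.factorization.support (fun r hr => by
    have hr' := Nat.support_factorization m ▸ hr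
    exact h r (Nat.prime_of_mem_primeFactors hr') (Nat.dvd_of_mem_primeFactors hr'))
  have h2 := Nat.factorization_prod_pow_eq_self hm
  rw [Finsupp.prod] at h2
  rwa [h2] at h1

/-- An injective pair of homomorphisms into a cyclic group, with images of exponent `n`, bounds the
order of the source by `n²`. -/
theorem card_le_sq {W X : Type*} [Group W] [Group X] [Finite W] [Finite X] [IsCyclic X]
    (φ ψ : W →* X) {n : ℕ} (hn : 0 < n) (hφ : ∀ w, φ w ^ n = 1) (hψ : ∀ w, ψ w ^ n = 1)
    (hinj : ∀ v, φ v = 1 → ψ v = 1 → v = 1) : Nat.card W ≤ n * n := by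
  classical
  letI : Fintype X := Fintype.ofFinite X
  letI : Fintype W := Fintype.ofFinite W
  set μ : Finset X := Finset.univ.filter (fun u => u ^ n = 1) with hμ
  have hμc : μ.card ≤ n := IsCyclic.card_pow_eq_one_le hn
  have h1 : (Finset.univ : Finset W).card ≤ (μ ×ˢ μ).card := by
    apply Finset.card_le_card_of_injOn (fun w => (φ w, ψ w))
    · intro w _
      simp only [Finset.coe_product, Set.mem_prod, Finset.mem_coe, hμ, Finset.mem_filter,
        Finset.mem_univ, true_and]
      exact ⟨hφ w, hψ w⟩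
    · intro w _ w' _ hww
      simp only [Prod.mk.injEq] at hww
      have h2 := hinj (w * w'⁻¹) (by rw [map_mul, map_inv, hww.1, mul_inv_cancel])
        (by rw [map_mul, map_inv, hww.2, mul_inv_cancel])
      exact mul_inv_eq_one.mp h2
  rw [Finset.card_product] at h1
  rw [Nat.card_eq_fintype_card, ← Finset.card_univ]
  exact h1.trans (Nat.mul_le_mul hμc hμc)

section SHsec

variable {G : Type*} [Group G] [Finite G] {p : ℕ}

/-- Conjugation action of a subgroup on a cyclic subgroup. -/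
noncomputable def phi (a₀ : G) (W : Subgroup G) (hW : W ≤ normalizer (zpowers a₀ : Set G)) :
    ↥W →* MulAut (zpowers a₀) :=
  (zpowers a₀).normalizerMonoidHom.comp (Subgroup.inclusion hW)

theorem phi_eq_one_iff (a₀ : G) (W : Subgroup G) (hW : W ≤ normalizer (zpowers a₀ : Set G)) (w : W) :
    phi a₀ W hW w = 1 ↔ (w : G) * a₀ = a₀ * w := by
  have h1 : phi a₀ W hW w = 1 ↔ Subgroup.inclusion hW w ∈ (zpowers a₀).normalizerMonoidHom.ker :=
    (MonoidHom.mem_ker).symm
  rw [h1, normalizerMonoidHom_ker, mem_subgroupOf, mem_centralizer_iff]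
  constructor
  · intro h
    exact (h a₀ (mem_zpowers a₀)).symm
  · intro h z hz
    obtain ⟨i, rfl⟩ := mem_zpowers_iff.mp hz
    exact (((show Commute (w : G) a₀ from h).zpow_right i)).symm.eq

variable [hp : Fact p.Prime]

theorem card_zpowers_of_order {a₀ : G} (ha : orderOf a₀ = p) : Nat.card (zpowers a₀) = p := by
  rw [Nat.card_zpowers, ha]

theorem isCyclic_mulAut_zpowers {a₀ : G} (ha : orderOf a₀ = p) : IsCyclic (MulAut (zpowers a₀)) := by
  have h1 : Nat.card (zpowers a₀) = p := card_zpowers_of_order ha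
  have h2 : IsCyclic (ZMod (Nat.card (zpowers a₀)))ˣ := by
    rw [h1]; infer_instance
  exact isCyclic_of_surjective (IsCyclic.mulAutMulEquiv (zpowers a₀)).symm
    (IsCyclic.mulAutMulEquiv (zpowers a₀)).symm.surjective

theorem card_mulAut_zpowers {a₀ : G} (ha : orderOf a₀ = p) :
    Nat.card (MulAut (zpowers a₀)) = p - 1 := by
  rw [IsCyclic.card_mulAut, card_zpowers_of_order ha, Nat.totient_prime hp.out]

/-- An element of `Q` of order `p`. -/
theorem SH.exists_order (h : SH p G) (Q : Sylow p G) :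
    ∃ a₀ ∈ (Q : Subgroup G), orderOf a₀ = p := by
  have h1 : p ∣ Nat.card Q := by
    obtain ⟨k, hk⟩ := Q.2.exists_card_eq
    rcases k with _ | k
    · exfalso
      apply h.ne_bot Q
      rw [pow_zero] at hk
      exact Subgroup.card_eq_one.mp hk
    · rw [hk]; exact dvd_pow_self _ (by omega)
  obtain ⟨x, hx⟩ := exists_prime_orderOf_dvd_card' p h1
  exact ⟨x, x.2, by rwa [Subgroup.orderOf_coe]⟩

variable {Q : Sylow p G} {Y : Subgroup G}

/-- A `p'`-element of `N(Q)` centralising `Q` lies in `Y`. -/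
theorem mem_complement (h : SH p G) (hYp : ¬ p ∣ Nat.card Y)
    (hYd : ∀ m ∈ normalizer ((Q : Subgroup G) : Set G), ∃ g ∈ (Q : Subgroup G), ∃ y ∈ Y, m = g * y)
    {v : G} (hvM : v ∈ normalizer ((Q : Subgroup G) : Set G)) (hvo : ¬ p ∣ orderOf v)
    (hvQ : ∀ x ∈ (Q : Subgroup G), v * x = x * v) : v ∈ Y := by
  have hpp : p.Prime := hp.out
  obtain ⟨g, hg, y, hy, rfl⟩ := hYd v hvM
  have hgy : g * y = y * g := by
    have h1 := hvQ g hg
    have h2 : g * y * g = g * (y * g) := mul_assoc _ _ _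
    rw [h2] at h1
    exact (mul_left_cancel h1).symm ▸ rfl
  set o := orderOf (g * y) with ho
  have h1 : (g * y) ^ o = 1 := pow_orderOf_eq_one _
  rw [(show Commute g y from hgy).mul_pow] at h1
  have h2 : g ^ o = (y ^ o)⁻¹ := eq_inv_of_mul_eq_one_left h1
  have h3 : g ^ o ∈ Y := by rw [h2]; exact inv_mem (pow_mem hy _)
  have h4 : g ^ o ∈ (Q : Subgroup G) := pow_mem hg _
  have h5 : g ^ o = 1 := by
    have h6 := Subgroup.orderOf_dvd_natCard _ h3
    have h7 := Subgroup.orderOf_dvd_natCard _ h4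
    obtain ⟨n, hn⟩ := Q.2.exists_card_eq
    rw [hn] at h7
    have hc : (Nat.card Y).Coprime (p ^ n) := Nat.Coprime.pow_right _
      ((Nat.Prime.coprime_iff_not_dvd hpp).2 hYp).symm
    have := Nat.Coprime.eq_one_of_dvd (Nat.Coprime.coprime_dvd_left h6 hc) h7
    exact orderOf_eq_one_iff.mp this
  have h6 : g = 1 := by
    obtain ⟨n, hn⟩ := IsPGroup.iff_orderOf.mp Q.2 ⟨g, hg⟩
    rw [Subgroup.orderOf_mk] at hn
    have h7 : orderOf g ∣ o := orderOf_dvd_of_pow_eq_one h5
    have h8 : (orderOf g).Coprime p := (Nat.Prime.coprime_iff_not_dvd hpp).2 hvo |>.symm |>.coprime_dvd_left h7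
    rw [hn] at h7 h8
    rcases n with _ | n
    · rw [pow_zero] at hn
      exact orderOf_eq_one_iff.mp hn
    · exfalso
      have h9 : p ∣ p ^ (n + 1) := dvd_pow_self _ (by omega)
      exact hpp.one_lt.ne' (Nat.Coprime.eq_one_of_dvd h8.symm h9)
  rw [h6, one_mul]
  exact hy

/-- Centraliser of a central `p'`-element of `N(Q)`. -/
theorem SH.commute_iff (h : SH p G) {v : G} (hvM : v ∈ normalizer ((Q : Subgroup G) : Set G))
    (hvo : ¬ p ∣ orderOf v) (hvQ : ∀ x ∈ (Q : Subgroup G), v * x = x * v) (hv1 : v ≠ 1)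
    (hYM : Y ≤ normalizer ((Q : Subgroup G) : Set G)) (hYp : ¬ p ∣ Nat.card Y)
    (hYd : ∀ m ∈ normalizer ((Q : Subgroup G) : Set G), ∃ g ∈ (Q : Subgroup G), ∃ y ∈ Y, m = g * y)
    (x : G) : x * v = v * x ↔ x ∈ normalizer ((Q : Subgroup G) : Set G) := by
  have hvY : v ∈ Y := mem_complement h hYp hYd hvM hvo hvQ
  have hle : normalizer ((Q : Subgroup G) : Set G) ≤ centralizer ({v} : Set G) := by
    intro m hm
    rw [mem_centralizer_singleton_iff]
    obtain ⟨g, hg, y, hy, rfl⟩ := hYd m hm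
    have h1 : y * v = v * y := h.hyp.comm hYp hy hvY
    have h2 : g * v = v * g := (hvQ g hg).symm
    rw [mul_assoc, h1, ← mul_assoc, h2, mul_assoc]
  have hne : centralizer ({v} : Set G) ≠ ⊤ := by
    intro ht
    apply hv1
    apply h.central
    intro y
    have : y ∈ centralizer ({v} : Set G) := by rw [ht]; trivial
    exact (mem_centralizer_singleton_iff.mp this).symm
  have h1 := h.max Q hle hne
  rw [← h1, mem_centralizer_singleton_iff]

/-- TI property of the central `p'`-elements. -/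
theorem SH.ti (h : SH p G) {v a : G} (hvM : v ∈ normalizer ((Q : Subgroup G) : Set G))
    (hvo : ¬ p ∣ orderOf v) (hvQ : ∀ x ∈ (Q : Subgroup G), v * x = x * v) (hv1 : v ≠ 1)
    (hwM : a * v * a⁻¹ ∈ normalizer ((Q : Subgroup G) : Set G))
    (hwQ : ∀ x ∈ (Q : Subgroup G), (a * v * a⁻¹) * x = x * (a * v * a⁻¹))
    (hYM : Y ≤ normalizer ((Q : Subgroup G) : Set G)) (hYp : ¬ p ∣ Nat.card Y)
    (hYd : ∀ m ∈ normalizer ((Q : Subgroup G) : Set G), ∃ g ∈ (Q : Subgroup G), ∃ y ∈ Y, m = g * y) :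
    a ∈ normalizer ((Q : Subgroup G) : Set G) := by
  have hwo : ¬ p ∣ orderOf (a * v * a⁻¹) := by rwa [orderOf_conj_eq]
  have hw1 : a * v * a⁻¹ ≠ 1 := by
    intro hw
    apply hv1
    have : v = a⁻¹ * (a * v * a⁻¹) * a := by group
    rw [this, hw]; group
  apply mem_normalizer_of_conj_le'
  intro q hq
  apply mem_sylow_of_mem_normalizer Q
  · obtain ⟨j, hj⟩ := IsPGroup.iff_orderOf.mp Q.2 ⟨q, hq⟩
    refine ⟨j, ?_⟩
    rw [Subgroup.orderOf_mk] at hj
    rw [orderOf_conj_eq, hj]
  · rw [← h.commute_iff hwM hwo hwQ hw1 hYM hYp hYd]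
    have h1 := hvQ q hq
    calc a * q * a⁻¹ * (a * v * a⁻¹) = a * (q * v) * a⁻¹ := by group
      _ = a * (v * q) * a⁻¹ := by rw [h1]
      _ = a * v * a⁻¹ * (a * q * a⁻¹) := by group

/-- A Sylow `r`-subgroup inside `N(Q)` is normalised by an element of order `p` outside `N(Q)`. -/
theorem SH.exists_outside (h : SH p G) {r : ℕ} [hr : Fact r.Prime] (hrd : r ∣ Nat.card G) (hrp : r ≠ p)
    (S : Sylow r G) (hSM : (S : Subgroup G) ≤ normalizer ((Q : Subgroup G) : Set G)) :
    ∃ a ∈ normalizer ((S : Subgroup G) : Set G), orderOf a = p ∧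
      a ∉ normalizer ((Q : Subgroup G) : Set G) := by
  have hpp : p.Prime := hp.out
  by_contra hcon
  push_neg at hcon
  apply h.burnside hrd S
  have hScop : (Nat.card S).Coprime p := by
    obtain ⟨n, hn⟩ := S.2.exists_card_eq
    rw [hn]
    exact Nat.Coprime.pow_left _ ((Nat.coprime_primes hr.out hpp).2 hrp)
  intro w hw
  obtain ⟨u, v, huv, -, ⟨j, hj⟩, hvo, hu', hv'⟩ := exists_pPart p w
  have huN : u ∈ normalizer ((S : Subgroup G) : Set G) := (zpowers_le.mpr hw) hu'
  have hvN : v ∈ normalizer ((S : Subgroup G) : Set G) := (zpowers_le.mpr hw) hv'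
  rw [Subgroup.mem_centralizer_iff]
  intro s hs
  -- `v` commutes with `s`
  have h1 : ¬ p ∣ Nat.card ↥((S : Subgroup G) ⊔ zpowers v) := by
    intro hd
    have h2 := hd.trans (card_sup_zpowers_dvd hvN)
    rcases (Nat.Prime.dvd_mul hpp).1 h2 with h3 | h3
    · exact hpp.one_lt.ne' (Nat.Coprime.eq_one_of_dvd hScop.symm h3)
    · exact hvo h3
  have hvs : v * s = s * v := h.hyp.comm h1 (Subgroup.mem_sup_right (mem_zpowers v))
    (Subgroup.mem_sup_left hs)
  -- `u` commutes with `s`
  have hus : u * s = s * u := by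
    by_cases hu1 : u = 1
    · rw [hu1]; simp
    have hj0 : j ≠ 0 := by
      rintro rfl
      apply hu1
      rw [pow_zero] at hj
      exact orderOf_eq_one_iff.mp hj
    have hdv : p ∣ orderOf u := by rw [hj]; exact dvd_pow_self _ hj0
    set a := u ^ (orderOf u / p) with ha
    have hao : orderOf a = p := orderOf_pow_orderOf_div (orderOf_pos u).ne' hdv
    have haN : a ∈ normalizer ((S : Subgroup G) : Set G) := pow_mem huN _
    have haM : a ∈ normalizer ((Q : Subgroup G) : Set G) := hcon a haN hao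
    have haQ : a ∈ (Q : Subgroup G) := mem_sylow_of_mem_normalizer Q ⟨1, by rw [hao, pow_one]⟩ haM
    have ha1 : a ≠ 1 := by
      intro ha1
      rw [ha1, orderOf_one] at hao
      exact hpp.one_lt.ne hao
    have hua : u * a = a * u := by
      rw [ha]
      exact ((Commute.refl u).pow_right _).eq
    have huM : u ∈ normalizer ((Q : Subgroup G) : Set G) := h.mem_normalizer_of_commute Q haQ ha1 hua
    have huQ : u ∈ (Q : Subgroup G) := mem_sylow_of_mem_normalizer Q ⟨j, hj⟩ huM
    have hc1 : u * s * u⁻¹ * s⁻¹ ∈ (S : Subgroup G) :=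
      mul_mem ((Subgroup.mem_normalizer_iff.mp huN s).mp hs) (inv_mem hs)
    have hc2 : u * s * u⁻¹ * s⁻¹ ∈ (Q : Subgroup G) := by
      have h2 : s * u⁻¹ * s⁻¹ ∈ (Q : Subgroup G) :=
        (Subgroup.mem_normalizer_iff.mp (hSM hs) _).mp (inv_mem huQ)
      have h3 := mul_mem huQ h2
      convert h3 using 1
      group
    have hc3 : u * s * u⁻¹ * s⁻¹ = 1 := by
      have h2 := Subgroup.orderOf_dvd_natCard _ hc1
      have h3 := Subgroup.orderOf_dvd_natCard _ hc2
      obtain ⟨n, hn⟩ := Q.2.exists_card_eq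
      rw [hn] at h3
      have := Nat.Coprime.eq_one_of_dvd (Nat.Coprime.coprime_dvd_left h2 (Nat.Coprime.pow_right _ hScop)) h3
      exact orderOf_eq_one_iff.mp this
    have : u * s * u⁻¹ = s := by rwa [mul_inv_eq_one] at hc3
    rwa [mul_inv_eq_iff_eq_mul] at this
  rw [huv]
  calc s * (u * v) = (s * u) * v := by group
    _ = (u * s) * v := by rw [hus]
    _ = u * (s * v) := by group
    _ = u * (v * s) := by rw [hvs]
    _ = u * v * s := by group

end SHsec

end Cfsg.Agent.Lib.PGroups.CycP
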