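import Cfsg.Agent.Lib.PGroups.CycP4

/-!
# Groups with a cyclic Sylow subgroup and abelian `p'`-subgroups: the central elements of `N(Q)`
-/

set_option autoImplicit false

namespace Cfsg.Agent.Lib.PGroups.CycP

open Subgroup Cfsg.Agent.Lib.Transfer
open scoped Pointwise

universe u

section SHsec

variable {G : Type*} [Group G] [Finite G] {p : ℕ} [hp : Fact p.Prime]

/-- A complement to `Q` in `N(Q)` contains a nontrivial element centralising `Q`. -/
theorem SH.exists_kappa (h : SH p G) (Q : Sylow p G) {Y : Subgroup G}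
    (hYM : Y ≤ normalizer ((Q : Subgroup G) : Set G)) (hYp : ¬ p ∣ Nat.card Y)
    (hYd : ∀ m ∈ normalizer ((Q : Subgroup G) : Set G), ∃ g ∈ (Q : Subgroup G), ∃ y ∈ Y, m = g * y)
    (hYc : Nat.card (normalizer ((Q : Subgroup G) : Set G)) = Nat.card Q * Nat.card Y) :
    ∃ κ ∈ Y, κ ≠ 1 ∧ ∀ x ∈ (Q : Subgroup G), κ * x = x * κ := by
  have hpp : p.Prime := hp.out
  by_contra hcon
  have hK : ∀ κ ∈ Y, (∀ x ∈ (Q : Subgroup G), κ * x = x * κ) → κ = 1 := by
    intro κ hκ hc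
    by_contra h1
    exact hcon ⟨κ, hκ, h1, hc⟩
  have hcQ : ∀ {x y : G}, x ∈ (Q : Subgroup G) → ¬ p ∣ orderOf y → orderOf y ∣ orderOf x → y = 1 := by
    intro x y hx hy hd
    obtain ⟨n, hn⟩ := IsPGroup.iff_orderOf.mp Q.2 ⟨x, hx⟩
    rw [Subgroup.orderOf_mk] at hn
    rw [hn] at hd
    obtain ⟨j, -, hj⟩ := (Nat.dvd_prime_pow hpp).1 hd
    rcases j with _ | j
    · rw [pow_zero] at hj
      exact orderOf_eq_one_iff.mp hj
    · exact absurd (by rw [hj]; exact dvd_pow_self _ (by omega)) hy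
  -- no nontrivial `p'`-element commutes with an element of order `p`
  have hfp : ∀ a : G, orderOf a = p → ∀ z : G, ¬ p ∣ orderOf z → a * z = z * a → z = 1 := by
    intro a ha z hzo haz
    have hap : IsPGroup p (zpowers a) := isPGroup_zpowers_iff.mpr ⟨1, by rw [ha, pow_one]⟩
    obtain ⟨S₁, hS₁⟩ := hap.exists_le_sylow
    obtain ⟨g, hg⟩ := MulAction.exists_smul_eq G Q S₁
    have ha1 : a ∈ g • Q := by rw [hg]; exact hS₁ (mem_zpowers a)
    have hb : g⁻¹ * a * g ∈ (Q : Subgroup G) := mem_smul_sylow.mp ha1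
    have hb1 : g⁻¹ * a * g ≠ 1 := by
      intro hb1
      have : a = g * (g⁻¹ * a * g) * g⁻¹ := by group
      rw [hb1] at this
      rw [this] at ha
      simp only [mul_one, mul_inv_cancel, orderOf_one] at ha
      exact hpp.one_lt.ne ha
    set z' := g⁻¹ * z * g with hz'
    have hz'b : z' * (g⁻¹ * a * g) = (g⁻¹ * a * g) * z' := by
      calc z' * (g⁻¹ * a * g) = g⁻¹ * (z * a) * g := by rw [hz']; group
        _ = g⁻¹ * (a * z) * g := by rw [haz]
        _ = (g⁻¹ * a * g) * z' := by rw [hz']; group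
    have hz'M := h.mem_normalizer_of_commute Q hb hb1 hz'b
    obtain ⟨h₀, hh₀, y, hy, hz'e⟩ := hYd z' hz'M
    have hyb : y * (g⁻¹ * a * g) = (g⁻¹ * a * g) * y := by
      have h1 : y = h₀⁻¹ * z' := by rw [hz'e]; group
      have h2 : h₀⁻¹ * (g⁻¹ * a * g) = (g⁻¹ * a * g) * h₀⁻¹ := h.sylow_comm Q (inv_mem hh₀) hb
      rw [h1, mul_assoc, hz'b, ← mul_assoc, h2, mul_assoc]
    have hyo : ¬ p ∣ orderOf y := fun hd => hYp (hd.trans (Subgroup.orderOf_dvd_natCard Y hy))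
    have hy1 := hK y hy (h.centralizes Q (hYM hy) hyo hb hb1 hyb)
    rw [hy1, mul_one] at hz'e
    have hz'o : orderOf z' = orderOf z := by rw [hz', orderOf_conj_inv_eq]
    have hz'1 : z' = 1 := hcQ hh₀ (by rwa [hz'o]) (by rw [hz'e])
    have : z = g * z' * g⁻¹ := by rw [hz']; group
    rw [this, hz'1]; group
  -- Sylow subgroups for other primes have order `≡ 1`
  have hS : ∀ r : ℕ, r.Prime → r ≠ p → r ∣ Nat.card G → ∀ (_ : Fact r.Prime) (S : Sylow r G),
      Nat.card S ≡ 1 [MOD p] := by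
    intro r hr hrp hrd _ S
    have hbur := h.burnside hrd S
    have hScop : (Nat.card S).Coprime p := by
      obtain ⟨n, hn⟩ := S.2.exists_card_eq
      rw [hn]
      exact Nat.Coprime.pow_left _ ((Nat.coprime_primes hr hpp).2 hrp)
    have hNp : p ∣ Nat.card ↥(normalizer ((S : Subgroup G) : Set G)) := by
      by_contra hnd
      apply hbur
      intro w hw
      rw [Subgroup.mem_centralizer_iff]
      intro s hs
      exact h.hyp.comm hnd (Subgroup.le_normalizer hs) hw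
    obtain ⟨x, hx⟩ := exists_prime_orderOf_dvd_card' p hNp
    have hx' : orderOf (x : G) = p := by rwa [Subgroup.orderOf_coe]
    apply card_modEq_one_of_fpf hpp hx'
    · intro w hw
      exact (Subgroup.mem_normalizer_iff.mp x.2 w).mp hw
    · intro z hz hxz
      refine hfp x hx' z (fun hd => ?_) hxz
      have h1 := hd.trans (Subgroup.orderOf_dvd_natCard _ hz)
      exact hpp.one_lt.ne' (Nat.Coprime.eq_one_of_dvd hScop.symm h1)
  -- the `p'`-part of the group order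
  have hm : (Q : Subgroup G).index ≡ 1 [MOD p] := by
    apply modEq_one_of_parts _ _ Subgroup.index_ne_zero_of_finite
    intro r hr hrm
    have hrp : r ≠ p := by
      rintro rfl
      exact Q.not_dvd_index hrm
    have hcm := (Q : Subgroup G).card_mul_index
    have hrd : r ∣ Nat.card G := by rw [← hcm]; exact Dvd.dvd.mul_left hrm _
    haveI : Fact r.Prime := ⟨hr⟩
    obtain ⟨S⟩ : Nonempty (Sylow r G) := inferInstance
    have h1 := hS r hr hrp hrd inferInstance S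
    rw [Sylow.card_eq_multiplicity S] at h1
    obtain ⟨k, hk⟩ := Q.2.exists_card_eq
    have h2 : (Nat.card G).factorization r = ((Q : Subgroup G).index).factorization r := by
      rw [← hcm, hk, Nat.factorization_mul (pow_ne_zero _ hpp.ne_zero)
        Subgroup.index_ne_zero_of_finite]
      simp only [Finsupp.add_apply]
      rw [Nat.factorization_eq_zero_of_not_dvd, zero_add]
      intro hd
      exact hrp ((Nat.prime_dvd_prime_iff_eq hr hpp).1 (hr.dvd_of_dvd_pow hd))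
    rwa [h2] at h1
  -- the order of `Y`
  have hY1 : Nat.card Y ≡ 1 [MOD p] := by
    set M := normalizer ((Q : Subgroup G) : Set G) with hM
    have hQM : (Q : Subgroup G) ≤ M := Subgroup.le_normalizer
    have h1 : (Q : Subgroup G).relIndex M * M.index = (Q : Subgroup G).index :=
      relIndex_mul_index hQM
    have h2 : (Q : Subgroup G).relIndex M = Nat.card Y := by
      have h3 := card_eq_mul_relIndex hQM
      rw [hYc] at h3
      exact (Nat.eq_of_mul_eq_mul_left Nat.card_pos h3).symm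
    have h3 : M.index ≡ 1 [MOD p] := by
      have h4 := card_sylow_modEq_one p G
      rw [Sylow.card_eq_index_normalizer Q] at h4
      exact h4
    rw [h2] at h1
    have h4 : Nat.card Y * M.index ≡ Nat.card Y * 1 [MOD p] := Nat.ModEq.mul_left _ h3
    rw [h1, mul_one] at h4
    exact h4.symm.trans hm
  -- `Y` embeds in the automorphisms of a subgroup of order `p`
  obtain ⟨a₀, ha₀Q, ha₀⟩ := h.exists_order Q
  have ha₀1 : a₀ ≠ 1 := by
    rintro rfl
    rw [orderOf_one] at ha₀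
    exact hpp.one_lt.ne ha₀
  have hNH : normalizer (zpowers a₀ : Set G) = normalizer ((Q : Subgroup G) : Set G) :=
    h.normalizer_eq Q (zpowers_le.mpr ha₀Q) (by simpa using ha₀1)
  have hYH : Y ≤ normalizer (zpowers a₀ : Set G) := by rw [hNH]; exact hYM
  have hinj : Function.Injective (phi a₀ Y hYH) := by
    rw [injective_iff_map_eq_one]
    intro y hy
    rw [phi_eq_one_iff] at hy
    have hyo : ¬ p ∣ orderOf (y : G) := fun hd => hYp (hd.trans (Subgroup.orderOf_dvd_natCard Y y.2))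
    have := hK y y.2 (h.centralizes Q (hYM y.2) hyo ha₀Q ha₀1 hy)
    exact Subtype.ext this
  have hle : Nat.card Y ≤ p - 1 := by
    rw [← card_mulAut_zpowers ha₀]
    exact Nat.card_le_card_of_injective _ hinj
  have hne1 : Nat.card Y ≠ 1 := by
    intro h1
    have hYb : Y = ⊥ := Subgroup.card_eq_one.mp h1
    apply h.burnside h.pdvd Q
    intro m hm
    obtain ⟨g, hg, y, hy, rfl⟩ := hYd m hm
    rw [hYb] at hy
    rw [(Subgroup.mem_bot.mp hy), mul_one, Subgroup.mem_centralizer_iff]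
    intro x hx
    exact h.sylow_comm Q hx hg
  have hpos : 0 < Nat.card Y := Nat.card_pos
  have h1 := hY1
  rw [Nat.ModEq, Nat.mod_eq_of_lt (by have := hpp.pos; omega), Nat.mod_eq_of_lt hpp.one_lt] at h1
  exact hne1 h1

/-- The elements of exponent dividing `r` in an abelian subgroup. -/
def omegaS (S : Subgroup G) (r : ℕ) (hc : ∀ x ∈ S, ∀ y ∈ S, x * y = y * x) : Subgroup G where
  carrier := {x | x ∈ S ∧ x ^ r = 1}
  mul_mem' := by
    rintro x y ⟨hx, hx1⟩ ⟨hy, hy1⟩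
    refine ⟨mul_mem hx hy, ?_⟩
    rw [(show Commute x y from hc x hx y hy).mul_pow, hx1, hy1, one_mul]
  one_mem' := ⟨S.one_mem, one_pow _⟩
  inv_mem' := by
    rintro x ⟨hx, hx1⟩
    exact ⟨inv_mem hx, by rw [inv_pow, hx1, inv_one]⟩

theorem arith1 {p r : ℕ} (hr : 2 ≤ r) (h : p * (r - 1) + 1 ≤ r * r) : p ≤ r + 1 := by
  obtain ⟨q, rfl⟩ : ∃ q, r = q + 1 := ⟨r - 1, by omega⟩
  simp only [Nat.add_sub_cancel] at h
  by_contra hlt
  push Not at hlt
  have h1 : (q + 3) * q ≤ p * q := Nat.mul_le_mul_right _ (by omega)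
  nlinarith

theorem conj_cancel {A B v v' : G} (he : A * v * A⁻¹ = (A * B) * v' * (A * B)⁻¹) :
    v = B * v' * B⁻¹ := by
  have h1 : v = A⁻¹ * (A * v * A⁻¹) * A := by group
  rw [h1, he]; group

/-- The final data in the simple case. -/
theorem SH.final_data (h : SH p G) : p = 3 ∧ ∃ (Q : Sylow p G) (κ : G) (S : Sylow 2 G),
    κ * κ = 1 ∧ κ ≠ 1 ∧ (∀ x ∈ (Q : Subgroup G), κ * x = x * κ) ∧
    (∀ x, x * κ = κ * x ↔ x ∈ normalizer ((Q : Subgroup G) : Set G)) ∧
    Nat.card S = 4 ∧ (∀ s ∈ (S : Subgroup G), s ≠ 1 → ∃ g, s = g * κ * g⁻¹) ∧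
    ∃ t₁ t₂ t₃ : G, (t₁ * t₁ = 1 ∧ t₁ ≠ 1 ∧ t₁ ≠ κ ∧ t₁ * κ = κ * t₁) ∧
      (t₂ * t₂ = 1 ∧ t₂ ≠ 1 ∧ t₂ ≠ κ ∧ t₂ * κ = κ * t₂) ∧
      (t₃ * t₃ = 1 ∧ t₃ ≠ 1 ∧ t₃ ≠ κ ∧ t₃ * κ = κ * t₃) ∧ t₁ ≠ t₂ ∧ t₁ ≠ t₃ ∧ t₂ ≠ t₃ := by
  have hpp : p.Prime := hp.out
  obtain ⟨Q⟩ : Nonempty (Sylow p G) := inferInstance
  obtain ⟨Y, hYM, hYp, hYd, hYc⟩ := exists_complement_normalizer Q
  obtain ⟨κ₀, hκ₀Y, hκ₀1, hκ₀Q⟩ := h.exists_kappa Q hYM hYp hYd hYc
  obtain ⟨r, hr, κ, hκY, hκo, hκQ⟩ : ∃ r : ℕ, r.Prime ∧ ∃ κ ∈ Y, orderOf κ = r ∧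
      ∀ x ∈ (Q : Subgroup G), κ * x = x * κ := by
    have h0 : orderOf κ₀ ≠ 1 := by rwa [Ne, orderOf_eq_one_iff]
    refine ⟨(orderOf κ₀).minFac, Nat.minFac_prime h0, κ₀ ^ (orderOf κ₀ / (orderOf κ₀).minFac),
      pow_mem hκ₀Y _, orderOf_pow_orderOf_div (orderOf_pos _).ne' (Nat.minFac_dvd _), ?_⟩
    intro x hx
    exact ((show Commute κ₀ x from hκ₀Q x hx).pow_left _).eq
  haveI hrf : Fact r.Prime := ⟨hr⟩
  have hκ1 : κ ≠ 1 := by
    rintro rfl
    rw [orderOf_one] at hκo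
    exact hr.one_lt.ne hκo
  have hκM := hYM hκY
  have hκd : r ∣ Nat.card Y := hκo ▸ Subgroup.orderOf_dvd_natCard Y hκY
  have hrp : r ≠ p := by
    rintro rfl
    exact hYp hκd
  have hκop : ¬ p ∣ orderOf κ := by
    rw [hκo]
    intro hd
    exact hrp ((Nat.prime_dvd_prime_iff_eq hpp hr).1 hd).symm
  have hrd : r ∣ Nat.card G := hκd.trans (Subgroup.card_subgroup_dvd_card Y)
  have hrpc : r.Coprime p := (Nat.coprime_primes hr hpp).2 hrp
  obtain ⟨S, hκS'⟩ := (isPGroup_zpowers_iff.mpr ⟨1, by rw [hκo, pow_one]⟩ :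
    IsPGroup r (zpowers κ)).exists_le_sylow
  have hκS : κ ∈ (S : Subgroup G) := hκS' (mem_zpowers κ)
  have hScop : (Nat.card S).Coprime p := by
    obtain ⟨n, hn⟩ := S.2.exists_card_eq
    rw [hn]
    exact Nat.Coprime.pow_left _ hrpc
  have hSp : ¬ p ∣ Nat.card S := fun hd => hpp.one_lt.ne' (Nat.Coprime.eq_one_of_dvd hScop.symm hd)
  have hSc : ∀ x ∈ (S : Subgroup G), ∀ y ∈ (S : Subgroup G), x * y = y * x :=
    fun x hx y hy => h.hyp.comm hSp hx hy
  have hκiff := h.commute_iff hκM hκop hκQ hκ1 hYM hYp hYd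
  have hSM : (S : Subgroup G) ≤ normalizer ((Q : Subgroup G) : Set G) :=
    fun s hs => (hκiff s).mp (hSc s hs κ hκS)
  obtain ⟨a, haS, hao, haM⟩ := h.exists_outside hrd hrp S hSM
  obtain ⟨a₀, ha₀Q, ha₀⟩ := h.exists_order Q
  have ha₀1 : a₀ ≠ 1 := by
    rintro rfl
    rw [orderOf_one] at ha₀
    exact hpp.one_lt.ne ha₀
  have hNH : normalizer (zpowers a₀ : Set G) = normalizer ((Q : Subgroup G) : Set G) :=
    h.normalizer_eq Q (zpowers_le.mpr ha₀Q) (by simpa using ha₀1)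
  haveI hXc := isCyclic_mulAut_zpowers ha₀
  have hSo : ∀ v ∈ (S : Subgroup G), ¬ p ∣ orderOf v := fun v hv hd => hSp
    (hd.trans (Subgroup.orderOf_dvd_natCard _ hv))
  have haSm : ∀ w ∈ (S : Subgroup G), a * w * a⁻¹ ∈ (S : Subgroup G) :=
    fun w hw => (Subgroup.mem_normalizer_iff.mp haS w).mp hw
  -- the TI property in `S`
  have hti : ∀ v ∈ (S : Subgroup G), v * a₀ = a₀ * v → (a * v * a⁻¹) * a₀ = a₀ * (a * v * a⁻¹) →
      v = 1 := by
    intro v hv hc1 hc2
    by_contra hv1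
    have hvQ := h.centralizes Q (hSM hv) (hSo v hv) ha₀Q ha₀1 hc1
    have hw := haSm v hv
    have hwQ := h.centralizes Q (hSM hw) (hSo _ hw) ha₀Q ha₀1 hc2
    exact haM (h.ti (hSM hv) (hSo v hv) hvQ hv1 (hSM hw) hwQ hYM hYp hYd)
  have hX : ∀ W : Subgroup G, W ≤ (S : Subgroup G) → (∀ w ∈ W, a * w * a⁻¹ ∈ W) → ∀ n : ℕ, 0 < n →
      (∀ (hWH : W ≤ normalizer (zpowers a₀ : Set G)) (w : W), (phi a₀ W hWH w) ^ n = 1) →
      Nat.card W ≤ n * n := by
    intro W hWS hWa n hn hWn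
    have hWH : W ≤ normalizer (zpowers a₀ : Set G) := by rw [hNH]; exact hWS.trans hSM
    let τ : W →* W := MonoidHom.mk' (fun w => ⟨a * w * a⁻¹, hWa w w.2⟩) (fun x y => by
      apply Subtype.ext
      simp only [Subgroup.coe_mul]
      group)
    refine card_le_sq (phi a₀ W hWH) ((phi a₀ W hWH).comp τ) hn (hWn hWH) (fun w => hWn hWH (τ w)) ?_
    intro v hv1 hv2
    rw [phi_eq_one_iff] at hv1
    rw [MonoidHom.comp_apply, phi_eq_one_iff] at hv2
    exact Subtype.ext (hti v (hWS v.2) hv1 hv2)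
  -- the subgroup `Ω₁(S)`
  set W := omegaS (S : Subgroup G) r hSc with hW
  have hWS : W ≤ (S : Subgroup G) := fun x hx => hx.1
  have hWa : ∀ w ∈ W, a * w * a⁻¹ ∈ W := by
    rintro w ⟨hw, hw1⟩
    refine ⟨haSm w hw, ?_⟩
    rw [conj_pow, hw1]
    simp
  have hWr : ∀ w ∈ W, w ^ r = 1 := fun w hw => hw.2
  have hWc : Nat.card W ≤ r * r := by
    refine hX W hWS hWa r hr.pos ?_
    intro hWH w
    rw [← map_pow]
    have : w ^ r = 1 := Subtype.ext (hWr w w.2)
    rw [this, map_one]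
  have hκW : κ ∈ W := ⟨hκS, by rw [← hκo]; exact pow_orderOf_eq_one κ⟩
  have hWa' : ∀ (i : ℕ), ∀ w ∈ W, a ^ i * w * (a ^ i)⁻¹ ∈ W := by
    intro i
    induction i with
    | zero => intro w hw; simpa using hw
    | succ i ih =>
      intro w hw
      have h1 := hWa _ (ih w hw)
      convert h1 using 1
      rw [pow_succ']
      group
  have hpow : ∀ n, 0 < n → n < p → a ^ n ∉ normalizer ((Q : Subgroup G) : Set G) := by
    intro n h0 hn hmem
    have hc : n.Coprime (orderOf a) := by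
      rw [hao]
      exact Nat.Coprime.symm ((Nat.Prime.coprime_iff_not_dvd hpp).2 (Nat.not_dvd_of_pos_of_lt h0 hn))
    obtain ⟨m, hm⟩ := exists_pow_eq_self_of_coprime hc
    apply haM
    rw [← hm]
    exact pow_mem hmem m
  have hinjc : ∀ i j l m : ℕ, i < j → j < p → l + 1 < r → m + 1 < r →
      a ^ i * κ ^ (l + 1) * (a ^ i)⁻¹ ≠ a ^ j * κ ^ (m + 1) * (a ^ j)⁻¹ := by
    intro i j l m hij hjp hl hm he
    obtain ⟨d, rfl⟩ := Nat.exists_eq_add_of_lt hij
    have e0 : a ^ (i + d + 1) = a ^ i * a ^ (d + 1) := by rw [add_assoc, pow_add]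
    rw [e0] at he
    have e1 := conj_cancel he
    apply hpow (d + 1) (by omega) (by omega)
    refine h.ti (v := κ ^ (m + 1)) (pow_mem hκM _) ?_ ?_ ?_ ?_ ?_ hYM hYp hYd
    · intro hd
      apply hκop
      exact hd.trans (orderOf_pow_dvd _)
    · intro x hx
      exact ((show Commute κ x from hκQ x hx).pow_left _).eq
    · apply pow_ne_one_of_lt_orderOf (by omega)
      rw [hκo]; exact hm
    · rw [← e1]; exact pow_mem hκM _
    · rw [← e1]
      intro x hx
      exact ((show Commute κ x from hκQ x hx).pow_left _).eq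
  -- the count
  have hcount : p * (r - 1) + 1 ≤ r * r := by
    have hmemW : ∀ (i l : ℕ), a ^ i * κ ^ (l + 1) * (a ^ i)⁻¹ ∈ W :=
      fun i l => hWa' i _ (pow_mem hκW _)
    let f : Option (Fin p × Fin (r - 1)) → W := fun o => match o with
      | none => 1
      | some x => ⟨a ^ (x.1 : ℕ) * κ ^ ((x.2 : ℕ) + 1) * (a ^ (x.1 : ℕ))⁻¹, hmemW _ _⟩
    have hne1 : ∀ x : Fin p × Fin (r - 1), a ^ (x.1 : ℕ) * κ ^ ((x.2 : ℕ) + 1) * (a ^ (x.1 : ℕ))⁻¹ ≠ 1 := by
      intro x he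
      have hx2 := x.2.2
      have h1 : κ ^ ((x.2 : ℕ) + 1) = 1 := by
        have h2 : κ ^ ((x.2 : ℕ) + 1) = (a ^ (x.1 : ℕ))⁻¹ * (a ^ (x.1 : ℕ) * κ ^ ((x.2 : ℕ) + 1) * (a ^ (x.1 : ℕ))⁻¹) * a ^ (x.1 : ℕ) := by
          group
        rw [h2, he]
        group
      exact pow_ne_one_of_lt_orderOf (by omega) (by rw [hκo]; omega) h1
    have hfinj : Function.Injective f := by
      intro o₁ o₂ he
      rcases o₁ with _ | x <;> rcases o₂ with _ | y
      · rfl
      · exfalso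
        have := congrArg Subtype.val he
        exact hne1 y this.symm
      · exfalso
        have := congrArg Subtype.val he
        exact hne1 x this
      · have h1 := congrArg Subtype.val he
        change a ^ (x.1 : ℕ) * κ ^ ((x.2 : ℕ) + 1) * (a ^ (x.1 : ℕ))⁻¹ =
          a ^ (y.1 : ℕ) * κ ^ ((y.2 : ℕ) + 1) * (a ^ (y.1 : ℕ))⁻¹ at h1
        have hx2 := x.2.2
        have hy2 := y.2.2
        rcases lt_trichotomy (x.1 : ℕ) (y.1 : ℕ) with hlt | heq | hlt
        · exact absurd h1 (hinjc _ _ _ _ hlt y.1.2 (by omega) (by omega))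
        · rw [← heq] at h1
          have h2 : κ ^ ((x.2 : ℕ) + 1) = κ ^ ((y.2 : ℕ) + 1) :=
            mul_left_cancel (mul_right_cancel h1)
          have h3 := pow_injOn_Iio_orderOf (x := κ)
            (by rw [Set.mem_Iio, hκo]; omega : (x.2 : ℕ) + 1 ∈ Set.Iio (orderOf κ))
            (by rw [Set.mem_Iio, hκo]; omega : (y.2 : ℕ) + 1 ∈ Set.Iio (orderOf κ)) h2
          have h4 : x = y := Prod.ext (Fin.ext heq) (Fin.ext (by omega))
          rw [h4]
        · exact absurd h1.symm (hinjc _ _ _ _ hlt x.1.2 (by omega) (by omega))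
    have h1 := Nat.card_le_card_of_injective f hfinj
    have h2 : Nat.card (Option (Fin p × Fin (r - 1))) = p * (r - 1) + 1 := by
      rw [Nat.card_eq_fintype_card, Fintype.card_option, Fintype.card_prod, Fintype.card_fin,
        Fintype.card_fin]
    rw [h2] at h1
    exact h1.trans hWc
  -- `r` divides `p - 1`
  have hdvd : r ∣ p - 1 := by
    have hWH : W ≤ normalizer (zpowers a₀ : Set G) := by rw [hNH]; exact hWS.trans hSM
    have hm : a * κ * a⁻¹ ∈ W := hWa κ hκW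
    set u := phi a₀ W hWH ⟨a * κ * a⁻¹, hm⟩ with hu
    have hu1 : u ^ r = 1 := by
      rw [hu, ← map_pow]
      have : (⟨a * κ * a⁻¹, hm⟩ : W) ^ r = 1 := Subtype.ext (hWr _ hm)
      rw [this, map_one]
    have hu2 : u ≠ 1 := by
      intro hu2
      rw [hu, phi_eq_one_iff] at hu2
      exact hκ1 (hti κ hκS (hκQ a₀ ha₀Q) hu2)
    have hu3 : orderOf u = r := orderOf_eq_prime hu1 hu2
    rw [← card_mulAut_zpowers ha₀, ← hu3]
    exact orderOf_dvd_natCard u
  have hp1 : r ≤ p - 1 := Nat.le_of_dvd (by have := hpp.two_le; omega) hdvd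
  have hp2 : p ≤ r + 1 := arith1 hr.two_le hcount
  have hpr : p = r + 1 := by have := hpp.two_le; omega
  have hr2 : r = 2 := by
    have h1 := hr.eq_two_or_odd
    have h2 := hpp.eq_two_or_odd
    have h3 := hr.two_le
    omega
  have hp3 : p = 3 := by omega
  refine ⟨hp3, ?_⟩
  subst hr2
  subst hp3
  have hκκ : κ * κ = 1 := by
    rw [← pow_two, ← hκo]; exact pow_orderOf_eq_one κ
  have ha3 : a ^ 3 = 1 := by
    rw [← hao]; exact pow_orderOf_eq_one a
  have hScard : Nat.card S ≤ 2 * 2 := by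
    refine hX S le_rfl haSm 2 (by norm_num) ?_
    intro hWH w
    have h1 := pow_card_eq_one' (x := phi a₀ (S : Subgroup G) hWH w)
    rwa [card_mulAut_zpowers ha₀] at h1
  set κ₁ := a * κ * a⁻¹ with hκ₁
  set κ₂ := a ^ 2 * κ * (a ^ 2)⁻¹ with hκ₂
  have h01 : κ ≠ κ₁ := by
    have := hinjc 0 1 0 0 (by norm_num) (by norm_num) (by norm_num) (by norm_num)
    simpa using this
  have h02 : κ ≠ κ₂ := by
    have := hinjc 0 2 0 0 (by norm_num) (by norm_num) (by norm_num) (by norm_num)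
    simpa using this
  have h12 : κ₁ ≠ κ₂ := by
    have := hinjc 1 2 0 0 (by norm_num) (by norm_num) (by norm_num) (by norm_num)
    simpa using this
  have hκ₁S : κ₁ ∈ (S : Subgroup G) := haSm κ hκS
  have hκ₂S : κ₂ ∈ (S : Subgroup G) := by
    have h1 := haSm κ₁ hκ₁S
    convert h1 using 1
    rw [hκ₂, hκ₁, pow_two]
    group
  have hκ₁1 : κ₁ ≠ 1 := by
    intro he
    apply hκ1
    have : κ = a⁻¹ * κ₁ * a := by rw [hκ₁]; group
    rw [this, he]; group
  have hκ₂1 : κ₂ ≠ 1 := by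
    intro he
    apply hκ1
    have : κ = (a ^ 2)⁻¹ * κ₂ * a ^ 2 := by rw [hκ₂]; group
    rw [this, he]; group
  have hκ₁κ₁ : κ₁ * κ₁ = 1 := by
    rw [hκ₁]
    calc a * κ * a⁻¹ * (a * κ * a⁻¹) = a * (κ * κ) * a⁻¹ := by group
      _ = 1 := by rw [hκκ]; group
  have hκ₂κ₂ : κ₂ * κ₂ = 1 := by
    rw [hκ₂]
    calc a ^ 2 * κ * (a ^ 2)⁻¹ * (a ^ 2 * κ * (a ^ 2)⁻¹) = a ^ 2 * (κ * κ) * (a ^ 2)⁻¹ := by group
      _ = 1 := by rw [hκκ]; group
  classical
  letI : Fintype G := Fintype.ofFinite G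
  have hcover : ∀ s ∈ (S : Subgroup G), s = 1 ∨ s = κ ∨ s = κ₁ ∨ s = κ₂ := by
    set A : Finset G := {1, κ, κ₁, κ₂} with hA
    set B : Finset G := Finset.univ.filter (fun x => x ∈ (S : Subgroup G)) with hB
    have hAc : A.card = 4 := by
      rw [hA, Finset.card_insert_of_notMem, Finset.card_insert_of_notMem, Finset.card_insert_of_notMem,
        Finset.card_singleton]
      · simpa using h12
      · simp [h01, h02]
      · simp [hκ1.symm, hκ₁1.symm, hκ₂1.symm]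
    have hBc : B.card = Nat.card S := by
      rw [hB, Nat.card_eq_fintype_card]
      exact (Fintype.card_subtype _).symm
    have hAB : A ⊆ B := by
      intro x hx
      rw [hB, Finset.mem_filter]
      refine ⟨Finset.mem_univ _, ?_⟩
      rw [hA, Finset.mem_insert, Finset.mem_insert, Finset.mem_insert, Finset.mem_singleton] at hx
      rcases hx with rfl | rfl | rfl | rfl
      · exact one_mem _
      · exact hκS
      · exact hκ₁S
      · exact hκ₂S
    have hEq : A = B := Finset.eq_of_subset_of_card_le hAB (by rw [hBc, hAc]; exact hScard)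
    intro s hs
    have h1 : s ∈ B := by rw [hB, Finset.mem_filter]; exact ⟨Finset.mem_univ _, hs⟩
    rw [← hEq, hA, Finset.mem_insert, Finset.mem_insert, Finset.mem_insert, Finset.mem_singleton] at h1
    exact h1
  have hS4 : Nat.card S = 4 := by
    set A : Finset G := {1, κ, κ₁, κ₂} with hA
    set B : Finset G := Finset.univ.filter (fun x => x ∈ (S : Subgroup G)) with hB
    have hAc : A.card = 4 := by
      rw [hA, Finset.card_insert_of_notMem, Finset.card_insert_of_notMem, Finset.card_insert_of_notMem,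
        Finset.card_singleton]
      · simpa using h12
      · simp [h01, h02]
      · simp [hκ1.symm, hκ₁1.symm, hκ₂1.symm]
    have hBc : B.card = Nat.card S := by
      rw [hB, Nat.card_eq_fintype_card]
      exact (Fintype.card_subtype _).symm
    have hAB : A ⊆ B := by
      intro x hx
      rw [hB, Finset.mem_filter]
      refine ⟨Finset.mem_univ _, ?_⟩
      rw [hA, Finset.mem_insert, Finset.mem_insert, Finset.mem_insert, Finset.mem_singleton] at hx
      rcases hx with rfl | rfl | rfl | rfl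
      · exact one_mem _
      · exact hκS
      · exact hκ₁S
      · exact hκ₂S
    have h1 := Finset.card_le_card hAB
    rw [hAc, hBc] at h1
    omega
  have hconj : ∀ s ∈ (S : Subgroup G), s ≠ 1 → ∃ g, s = g * κ * g⁻¹ := by
    intro s hs hs1
    rcases hcover s hs with rfl | rfl | rfl | rfl
    · exact absurd rfl hs1
    · exact ⟨1, by group⟩
    · exact ⟨a, rfl⟩
    · exact ⟨a ^ 2, rfl⟩
  -- the third neighbour
  have hbκ : Commute a₀ κ := (hκQ a₀ ha₀Q).symm
  set t₃ := a₀ * κ₁ * a₀⁻¹ with ht₃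
  have hκ₁κ : Commute κ₁ κ := hSc κ₁ hκ₁S κ hκS
  have hκ₂κ : Commute κ₂ κ := hSc κ₂ hκ₂S κ hκS
  have ht₃S : t₃ ∉ (S : Subgroup G) := by
    intro ht
    have hc1 : a₀ * κ₁ * a₀⁻¹ * κ₁⁻¹ ∈ (S : Subgroup G) := mul_mem ht (inv_mem hκ₁S)
    have hc2 : a₀ * κ₁ * a₀⁻¹ * κ₁⁻¹ ∈ (Q : Subgroup G) := by
      have h2 : κ₁ * a₀⁻¹ * κ₁⁻¹ ∈ (Q : Subgroup G) :=
        (Subgroup.mem_normalizer_iff.mp (hSM hκ₁S) _).mp (inv_mem ha₀Q)
      have h3 := mul_mem ha₀Q h2
      convert h3 using 1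
      group
    have hc3 : a₀ * κ₁ * a₀⁻¹ * κ₁⁻¹ = 1 := by
      have h2 := Subgroup.orderOf_dvd_natCard _ hc1
      have h3 := Subgroup.orderOf_dvd_natCard _ hc2
      obtain ⟨n, hn⟩ := Q.2.exists_card_eq
      rw [hn] at h3
      have := Nat.Coprime.eq_one_of_dvd
        (Nat.Coprime.coprime_dvd_left h2 (Nat.Coprime.pow_right _ hScop)) h3
      exact orderOf_eq_one_iff.mp this
    have hc4 : a₀ * κ₁ * a₀⁻¹ = κ₁ := by rwa [mul_inv_eq_one] at hc3
    have hc5 : a₀ * κ₁ = κ₁ * a₀ := by rwa [mul_inv_eq_iff_eq_mul] at hc4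
    exact hκ1 (hti κ hκS (hκQ a₀ ha₀Q) hc5.symm)
  refine ⟨Q, κ, S, hκκ, hκ1, hκQ, hκiff, hS4, hconj, κ₁, κ₂, t₃, ⟨hκ₁κ₁, hκ₁1, h01.symm, hκ₁κ⟩,
    ⟨hκ₂κ₂, hκ₂1, h02.symm, hκ₂κ⟩, ⟨?_, ?_, ?_, ?_⟩, h12, ?_, ?_⟩
  · rw [ht₃]
    calc a₀ * κ₁ * a₀⁻¹ * (a₀ * κ₁ * a₀⁻¹) = a₀ * (κ₁ * κ₁) * a₀⁻¹ := by group
      _ = 1 := by rw [hκ₁κ₁]; group
  · intro he
    exact ht₃S (by rw [he]; exact one_mem _)
  · intro he
    exact ht₃S (by rw [he]; exact hκS)
  · exact ((hbκ.mul_left hκ₁κ).mul_left hbκ.inv_left).eq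
  · intro he
    exact ht₃S (by rw [← he]; exact hκ₁S)
  · intro he
    exact ht₃S (by rw [← he]; exact hκ₂S)

end SHsec

end Cfsg.Agent.Lib.PGroups.CycP
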