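import Cfsg.Agent.Lib.PGroups.CycP5

/-!
# Groups with a cyclic Sylow subgroup and abelian `p'`-subgroups: the friendship contradiction and
the main theorem
-/

set_option autoImplicit false

namespace Cfsg.Agent.Lib.PGroups.CycP

open Subgroup Cfsg.Agent.Lib.Transfer
open scoped Pointwise

universe u

section SHsec

variable {G : Type*} [Group G] [Finite G]

/-- Commuting involutions: the third involution of the Klein group is the unique common neighbour,
if Sylow `2`-subgroups have order `4`. -/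
theorem eq_mul_of_commute (S : Sylow 2 G) (hS4 : Nat.card S = 4) {s t z : G} (hs : s * s = 1)
    (hs1 : s ≠ 1) (ht : t * t = 1) (ht1 : t ≠ 1) (hz : z * z = 1) (hz1 : z ≠ 1) (hst : s ≠ t)
    (hc : s * t = t * s) (hzs : z ≠ s) (hzt : z ≠ t) (hcs : s * z = z * s) (hct : z * t = t * z) :
    z = s * t := by
  classical
  by_contra hne
  set W := closure ({s, t, z} : Set G) with hW
  have hWp : IsPGroup 2 W := by
    apply isPGroup_closure_of_commute
    · rintro x (rfl | rfl | rfl) y (rfl | rfl | rfl)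
      · rfl
      · exact hc
      · exact hcs
      · exact hc.symm
      · rfl
      · exact hct.symm
      · exact hcs.symm
      · exact hct
      · rfl
    · rintro x (rfl | rfl | rfl)
      · exact ⟨1, by rw [pow_one, pow_two]; exact hs⟩
      · exact ⟨1, by rw [pow_one, pow_two]; exact ht⟩
      · exact ⟨1, by rw [pow_one, pow_two]; exact hz⟩
  obtain ⟨S₁, hS₁⟩ := hWp.exists_le_sylow
  have hS₁c : Nat.card S₁ = 4 := by
    rw [Sylow.card_eq_multiplicity S₁, ← Sylow.card_eq_multiplicity S]; exact hS4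
  have hsW : s ∈ W := subset_closure (by simp)
  have htW : t ∈ W := subset_closure (by simp)
  have hzW : z ∈ W := subset_closure (by simp)
  have hstW : s * t ∈ W := mul_mem hsW htW
  letI : Fintype G := Fintype.ofFinite G
  set A : Finset G := {1, s, t, s * t, z} with hA
  set B : Finset G := Finset.univ.filter (fun x => x ∈ (S₁ : Subgroup G)) with hB
  have h1 : s * t ≠ 1 := by
    intro he
    apply hst
    have : s = s * (t * t) := by rw [ht, mul_one]
    rw [this, ← mul_assoc, he, one_mul]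
  have h2 : s * t ≠ s := by
    intro he
    exact ht1 (by simpa using he)
  have h3 : s * t ≠ t := by
    intro he
    exact hs1 (by simpa using he)
  have hAc : A.card = 5 := by
    rw [hA, Finset.card_insert_of_notMem, Finset.card_insert_of_notMem, Finset.card_insert_of_notMem,
      Finset.card_insert_of_notMem, Finset.card_singleton]
    · simpa using (fun he : s * t = z => hne he.symm)
    · simp only [Finset.mem_insert, Finset.mem_singleton, not_or]
      exact ⟨h3.symm, hzt.symm⟩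
    · simp only [Finset.mem_insert, Finset.mem_singleton, not_or]
      exact ⟨hst, h2.symm, hzs.symm⟩
    · simp only [Finset.mem_insert, Finset.mem_singleton, not_or]
      exact ⟨hs1.symm, ht1.symm, h1.symm, hz1.symm⟩
  have hBc : B.card = Nat.card S₁ := by
    rw [hB, Nat.card_eq_fintype_card]
    exact (Fintype.card_subtype _).symm
  have hAB : A ⊆ B := by
    intro x hx
    rw [hB, Finset.mem_filter]
    refine ⟨Finset.mem_univ _, hS₁ ?_⟩
    rw [hA, Finset.mem_insert, Finset.mem_insert, Finset.mem_insert, Finset.mem_insert,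
      Finset.mem_singleton] at hx
    rcases hx with rfl | rfl | rfl | rfl | rfl
    · exact one_mem _
    · exact hsW
    · exact htW
    · exact hstW
    · exact hzW
  have := Finset.card_le_card hAB
  rw [hAc, hBc, hS₁c] at this
  omega

/-- Two non-commuting involutions invert a common element of order `3`. -/
theorem exists_order_three (hyp : Hyp 3 G) {s t : G} (hs : s * s = 1) (ht : t * t = 1)
    (hc : s * t ≠ t * s) :
    ∃ b : G, orderOf b = 3 ∧ s * b * s⁻¹ = b⁻¹ ∧ t * b * t⁻¹ = b⁻¹ ∧ b ∈ zpowers (s * t) := by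
  have hsi : s⁻¹ = s := inv_eq_of_mul_eq_one_left hs
  have hti : t⁻¹ = t := inv_eq_of_mul_eq_one_left ht
  set x := s * t with hx
  have hxi : x⁻¹ = t * s := by rw [hx, mul_inv_rev, hsi, hti]
  have hsx : s * x * s⁻¹ = x⁻¹ := by
    rw [hxi, hx, hsi, ← mul_assoc, hs, one_mul]
  have htx : t * x * t⁻¹ = x⁻¹ := by
    rw [hxi, hx, hti, mul_assoc, mul_assoc, ht, mul_one]
  have hsp : ∀ k : ℕ, s * x ^ k * s⁻¹ = (x ^ k)⁻¹ := by
    intro k
    rw [← conj_pow, hsx, inv_pow]
  have htp : ∀ k : ℕ, t * x ^ k * t⁻¹ = (x ^ k)⁻¹ := by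
    intro k
    rw [← conj_pow, htx, inv_pow]
  have hsN : s ∈ normalizer (zpowers x : Set G) := by
    apply mem_normalizer_of_conj_le'
    intro w hw
    obtain ⟨i, rfl⟩ := mem_zpowers_iff.mp hw
    rw [← conj_zpow, hsx, inv_zpow]
    exact inv_mem (zpow_mem (mem_zpowers x) i)
  have hd := card_sup_zpowers_dvd hsN
  have ho3 : 3 ∣ orderOf x := by
    by_contra hnd
    have h1 : ¬ 3 ∣ Nat.card ↥(zpowers x ⊔ zpowers s) := by
      intro h3
      have h4 := h3.trans hd
      rw [Nat.card_zpowers] at h4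
      rcases (Nat.Prime.dvd_mul Nat.prime_three).1 h4 with h5 | h5
      · exact hnd h5
      · have h6 : orderOf s ∣ 2 := orderOf_dvd_of_pow_eq_one (by rw [pow_two]; exact hs)
        have := Nat.le_of_dvd (by norm_num) (h5.trans h6)
        omega
    have h2 : x * s = s * x := hyp.comm h1 (Subgroup.mem_sup_left (mem_zpowers x))
      (Subgroup.mem_sup_right (mem_zpowers s))
    apply hc
    have h3 : s * t * s = s * (s * t) := by rw [hx] at h2; exact h2
    rw [← mul_assoc, hs, one_mul] at h3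
    rw [← h3, mul_assoc, mul_assoc, hs, mul_one]
  refine ⟨x ^ (orderOf x / 3), orderOf_pow_orderOf_div (orderOf_pos x).ne' ho3, hsp _, htp _,
    pow_mem (mem_zpowers x) _⟩

/-- The friendship contradiction. -/
theorem final_contra (h : SH 3 G) (Q : Sylow 3 G) (κ : G) (S : Sylow 2 G) (hκκ : κ * κ = 1)
    (hκ1 : κ ≠ 1) (hκQ : ∀ x ∈ (Q : Subgroup G), κ * x = x * κ)
    (hκC : ∀ x, x * κ = κ * x ↔ x ∈ normalizer ((Q : Subgroup G) : Set G))
    (hS4 : Nat.card S = 4) (hconj : ∀ s ∈ (S : Subgroup G), s ≠ 1 → ∃ g, s = g * κ * g⁻¹)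
    (t₁ t₂ t₃ : G) (h₁ : t₁ * t₁ = 1 ∧ t₁ ≠ 1 ∧ t₁ ≠ κ ∧ t₁ * κ = κ * t₁)
    (h₂ : t₂ * t₂ = 1 ∧ t₂ ≠ 1 ∧ t₂ ≠ κ ∧ t₂ * κ = κ * t₂)
    (h₃ : t₃ * t₃ = 1 ∧ t₃ ≠ 1 ∧ t₃ ≠ κ ∧ t₃ * κ = κ * t₃) (h12 : t₁ ≠ t₂) (h13 : t₁ ≠ t₃)
    (h23 : t₂ ≠ t₃) : False := by
  classical
  -- all involutions are conjugate to `κ`
  have hinv : ∀ t : G, t * t = 1 → t ≠ 1 → ∃ g, t = g * κ * g⁻¹ := by
    intro t ht ht1
    have hto : orderOf t = 2 := orderOf_eq_prime (by rw [pow_two]; exact ht) ht1
    have hp2 : IsPGroup 2 (zpowers t) := isPGroup_zpowers_iff.mpr ⟨1, by rw [hto, pow_one]⟩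
    obtain ⟨S₁, hS₁⟩ := hp2.exists_le_sylow
    obtain ⟨g, hg⟩ := MulAction.exists_smul_eq G S S₁
    have h1 : t ∈ g • S := by rw [hg]; exact hS₁ (mem_zpowers t)
    have h2 : g⁻¹ * t * g ∈ (S : Subgroup G) := mem_smul_sylow.mp h1
    have h3 : g⁻¹ * t * g ≠ 1 := by
      intro he
      apply ht1
      have : t = g * (g⁻¹ * t * g) * g⁻¹ := by group
      rw [this, he]; group
    obtain ⟨g', hg'⟩ := hconj _ h2 h3
    refine ⟨g * g', ?_⟩
    have : t = g * (g⁻¹ * t * g) * g⁻¹ := by group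
    rw [this, hg']; group
  -- the centraliser of a conjugate
  have hcomm : ∀ g x : G, x * (g * κ * g⁻¹) = (g * κ * g⁻¹) * x ↔
      x ∈ normalizer (((g • Q : Sylow 3 G) : Subgroup G) : Set G) := by
    intro g x
    rw [mem_normalizer_smul, ← hκC]
    constructor
    · intro he
      calc g⁻¹ * x * g * κ = g⁻¹ * (x * (g * κ * g⁻¹)) * g := by group
        _ = g⁻¹ * ((g * κ * g⁻¹) * x) * g := by rw [he]
        _ = κ * (g⁻¹ * x * g) := by group
    · intro he
      calc x * (g * κ * g⁻¹) = g * ((g⁻¹ * x * g) * κ) * g⁻¹ := by group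
        _ = g * (κ * (g⁻¹ * x * g)) * g⁻¹ := by rw [he]
        _ = (g * κ * g⁻¹) * x := by group
  have hcommQ : ∀ g x : G, x ∈ ((g • Q : Sylow 3 G) : Subgroup G) →
      (g * κ * g⁻¹) * x = x * (g * κ * g⁻¹) := by
    intro g x hx
    have h1 : g⁻¹ * x * g ∈ (Q : Subgroup G) := mem_smul_sylow.mp hx
    have h2 := hκQ _ h1
    calc (g * κ * g⁻¹) * x = g * (κ * (g⁻¹ * x * g)) * g⁻¹ := by group
      _ = g * ((g⁻¹ * x * g) * κ) * g⁻¹ := by rw [h2]
      _ = x * (g * κ * g⁻¹) := by group
  -- the common neighbour in the non-commuting case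
  have hnc : ∀ s t : G, s * s = 1 → t * t = 1 → s * t ≠ t * s → ∃ z₀ : G, z₀ * z₀ = 1 ∧ z₀ ≠ 1 ∧
      ∀ z : G, z * z = 1 → z ≠ 1 → ((s ≠ z ∧ s * z = z * s) ∧ (z ≠ t ∧ z * t = t * z) ↔ z = z₀) := by
    intro s t hs ht hc
    obtain ⟨b, hbo, hsb, htb, hbz⟩ := exists_order_three h.hyp hs ht hc
    have hb1 : b ≠ 1 := by
      rintro rfl
      rw [orderOf_one] at hbo
      omega
    have hbb : b⁻¹ ≠ b := by
      intro he
      have h1 : b ^ 2 = 1 := by
        rw [pow_two]
        nth_rw 1 [← he]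
        exact inv_mul_cancel b
      have h2 := orderOf_dvd_of_pow_eq_one h1
      rw [hbo] at h2
      omega
    have hbp : IsPGroup 3 (zpowers b) := isPGroup_zpowers_iff.mpr ⟨1, by rw [hbo, pow_one]⟩
    obtain ⟨Q₁, hQ₁⟩ := hbp.exists_le_sylow
    obtain ⟨g, hg⟩ := MulAction.exists_smul_eq G Q Q₁
    have hbQ : b ∈ ((g • Q : Sylow 3 G) : Subgroup G) := by rw [hg]; exact hQ₁ (mem_zpowers b)
    have hNb : normalizer (zpowers b : Set G) = normalizer (((g • Q : Sylow 3 G) : Subgroup G) : Set G) :=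
      h.normalizer_eq (g • Q) (zpowers_le.mpr hbQ) (by simpa using hb1)
    have hinvN : ∀ u : G, u * b * u⁻¹ = b⁻¹ → u ∈ normalizer (zpowers b : Set G) := by
      intro u hu
      apply mem_normalizer_of_conj_le'
      intro w hw
      obtain ⟨i, rfl⟩ := mem_zpowers_iff.mp hw
      rw [← conj_zpow, hu, inv_zpow]
      exact inv_mem (zpow_mem (mem_zpowers b) i)
    have hsN : s ∈ normalizer (((g • Q : Sylow 3 G) : Subgroup G) : Set G) := by
      rw [← hNb]; exact hinvN s hsb
    have htN : t ∈ normalizer (((g • Q : Sylow 3 G) : Subgroup G) : Set G) := by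
      rw [← hNb]; exact hinvN t htb
    have hz₀b := hcommQ g b hbQ
    refine ⟨g * κ * g⁻¹, ?_, ?_, ?_⟩
    · calc g * κ * g⁻¹ * (g * κ * g⁻¹) = g * (κ * κ) * g⁻¹ := by group
        _ = 1 := by rw [hκκ]; group
    · intro he
      apply hκ1
      have : κ = g⁻¹ * (g * κ * g⁻¹) * g := by group
      rw [this, he]; group
    · intro z hz hz1
      constructor
      · rintro ⟨⟨-, hsz⟩, -, hzt⟩
        obtain ⟨g', rfl⟩ := hinv z hz hz1
        have hs' : s ∈ normalizer (((g' • Q : Sylow 3 G) : Subgroup G) : Set G) :=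
          (hcomm g' s).mp hsz
        have ht' : t ∈ normalizer (((g' • Q : Sylow 3 G) : Subgroup G) : Set G) :=
          (hcomm g' t).mp hzt.symm
        -- `b ∈ g' • Q`
        have hx' : s * t ∈ normalizer (((g' • Q : Sylow 3 G) : Subgroup G) : Set G) := mul_mem hs' ht'
        have hb'N : b ∈ normalizer (((g' • Q : Sylow 3 G) : Subgroup G) : Set G) :=
          (zpowers_le.mpr hx') hbz
        have hb'Q : b ∈ ((g' • Q : Sylow 3 G) : Subgroup G) :=
          mem_sylow_of_mem_normalizer _ ⟨1, by rw [hbo, pow_one]⟩ hb'N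
        have hEq : g • Q = g' • Q := h.sylow_eq _ _ hbQ hb'Q hb1
        have h1 : (g⁻¹ * g') • Q = Q := by
          rw [mul_smul, ← hEq, inv_smul_smul]
        have h2 : g⁻¹ * g' ∈ normalizer ((Q : Subgroup G) : Set G) :=
          Sylow.smul_eq_iff_mem_normalizer.mp h1
        have h3 := (hκC _).mpr h2
        calc g' * κ * g'⁻¹ = g * ((g⁻¹ * g') * κ) * g'⁻¹ := by group
          _ = g * (κ * (g⁻¹ * g')) * g'⁻¹ := by rw [h3]
          _ = g * κ * g⁻¹ := by group
      · rintro rfl
        refine ⟨⟨?_, ?_⟩, ?_, ?_⟩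
        · rintro rfl
          have h1 := hsb
          rw [hz₀b, mul_inv_cancel_right] at h1
          exact hbb h1.symm
        · exact (hcomm g s).mpr hsN
        · rintro rfl
          have h1 := htb
          rw [hz₀b, mul_inv_cancel_right] at h1
          exact hbb h1.symm
        · exact ((hcomm g t).mpr htN).symm
  -- the graph
  let I := {t : G // t * t = 1 ∧ t ≠ 1}
  letI : Fintype G := Fintype.ofFinite G
  letI : Fintype I := Fintype.ofFinite I
  let R : I → I → Prop := fun u v => (u : G) ≠ v ∧ (u : G) * v = v * u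
  have hirr : ∀ t, ¬ R t t := fun t ht => ht.1 rfl
  have hsymm : ∀ s t, R s t → R t s := fun s t hst => ⟨hst.1.symm, hst.2.symm⟩
  let κ' : I := ⟨κ, hκκ, hκ1⟩
  haveI hIne : Nonempty I := ⟨κ'⟩
  set d := (Finset.univ.filter (fun z => R κ' z)).card with hd
  have hd3 : 3 ≤ d := by
    let u₁ : I := ⟨t₁, h₁.1, h₁.2.1⟩
    let u₂ : I := ⟨t₂, h₂.1, h₂.2.1⟩
    let u₃ : I := ⟨t₃, h₃.1, h₃.2.1⟩
    have h1 : ({u₁, u₂, u₃} : Finset I).card = 3 := by
      rw [Finset.card_eq_three]
      exact ⟨u₁, u₂, u₃, fun he => h12 (congrArg Subtype.val he),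
        fun he => h13 (congrArg Subtype.val he), fun he => h23 (congrArg Subtype.val he), rfl⟩
    rw [← h1, hd]
    apply Finset.card_le_card
    intro u hu
    rw [Finset.mem_insert, Finset.mem_insert, Finset.mem_singleton] at hu
    rw [Finset.mem_filter]
    refine ⟨Finset.mem_univ _, ?_⟩
    rcases hu with rfl | rfl | rfl
    · exact ⟨h₁.2.2.1.symm, h₁.2.2.2.symm⟩
    · exact ⟨h₂.2.2.1.symm, h₂.2.2.2.symm⟩
    · exact ⟨h₃.2.2.1.symm, h₃.2.2.2.symm⟩
  have hconjI : ∀ (g : G) (u : I), g * (u : G) * g⁻¹ * (g * (u : G) * g⁻¹) = 1 ∧ g * (u : G) * g⁻¹ ≠ 1 := by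
    intro g u
    constructor
    · calc g * (u : G) * g⁻¹ * (g * (u : G) * g⁻¹) = g * ((u : G) * u) * g⁻¹ := by group
        _ = 1 := by rw [u.2.1]; group
    · intro he
      apply u.2.2
      have : (u : G) = g⁻¹ * (g * (u : G) * g⁻¹) * g := by group
      rw [this, he]; group
  have hdeg : ∀ t, (Finset.univ.filter (fun z => R t z)).card = d := by
    intro t
    obtain ⟨g, hg⟩ := hinv t t.2.1 t.2.2
    let e : I ≃ I :=
      { toFun := fun u => ⟨g * u * g⁻¹, hconjI g u⟩
        invFun := fun u => ⟨g⁻¹ * u * g⁻¹⁻¹, hconjI g⁻¹ u⟩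
        left_inv := fun u => by apply Subtype.ext; change g⁻¹ * (g * (u : G) * g⁻¹) * g⁻¹⁻¹ = u; group
        right_inv := fun u => by apply Subtype.ext; change g * (g⁻¹ * (u : G) * g⁻¹⁻¹) * g⁻¹ = u; group }
    rw [hd]
    symm
    apply Finset.card_equiv e
    intro u
    simp only [Finset.mem_filter, Finset.mem_univ, true_and]
    change ((κ : G) ≠ u ∧ (κ : G) * u = u * κ) ↔ ((t : G) ≠ g * u * g⁻¹ ∧ (t : G) * (g * u * g⁻¹) = (g * u * g⁻¹) * t)
    rw [hg]
    constructor
    · rintro ⟨h1, h2⟩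
      refine ⟨fun he => h1 ?_, ?_⟩
      · exact mul_left_cancel (mul_right_cancel he)
      · calc g * κ * g⁻¹ * (g * (u : G) * g⁻¹) = g * (κ * u) * g⁻¹ := by group
          _ = g * (u * κ) * g⁻¹ := by rw [h2]
          _ = g * u * g⁻¹ * (g * κ * g⁻¹) := by group
    · rintro ⟨h1, h2⟩
      refine ⟨fun he => h1 (by rw [he]), ?_⟩
      have h3 : g * (κ * u) * g⁻¹ = g * (u * κ) * g⁻¹ := by
        calc g * (κ * u) * g⁻¹ = g * κ * g⁻¹ * (g * (u : G) * g⁻¹) := by group
          _ = g * u * g⁻¹ * (g * κ * g⁻¹) := h2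
          _ = g * (u * κ) * g⁻¹ := by group
      exact mul_left_cancel (mul_right_cancel h3)
  have hf : ∀ s t, s ≠ t → (Finset.univ.filter (fun z => R s z ∧ R z t)).card = 1 := by
    intro s t hst
    have hst' : (s : G) ≠ t := fun he => hst (Subtype.ext he)
    rw [Finset.card_eq_one]
    by_cases hc : (s : G) * t = t * s
    · -- commuting
      have hz₀ : ((s : G) * t) * ((s : G) * t) = 1 ∧ (s : G) * t ≠ 1 := by
        constructor
        · calc ((s : G) * t) * ((s : G) * t) = (s : G) * (t * s) * t := by group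
            _ = (s : G) * (s * t) * t := by rw [hc]
            _ = ((s : G) * s) * (t * t) := by group
            _ = 1 := by rw [s.2.1, t.2.1, one_mul]
        · intro he
          apply hst'
          have h1 : (s : G) = s * (t * t) := by rw [t.2.1, mul_one]
          rw [h1, ← mul_assoc, he, one_mul]
      refine ⟨⟨(s : G) * t, hz₀⟩, ?_⟩
      ext z
      simp only [Finset.mem_filter, Finset.mem_univ, true_and, Finset.mem_singleton]
      constructor
      · rintro ⟨⟨h1, h2⟩, h3, h4⟩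
        apply Subtype.ext
        exact eq_mul_of_commute S hS4 s.2.1 s.2.2 t.2.1 t.2.2 z.2.1 z.2.2 hst' hc h1.symm h3 h2 h4
      · rintro rfl
        refine ⟨⟨?_, ?_⟩, ?_, ?_⟩
        · intro he
          apply t.2.2
          have : (s : G) * 1 = s * t := by rw [mul_one]; exact he
          exact (mul_left_cancel this).symm
        · change (s : G) * (s * t) = (s * t) * s
          rw [mul_assoc, hc, ← mul_assoc]
        · intro he
          apply s.2.2
          have : (s : G) * t = 1 * t := by rw [one_mul]; exact he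
          exact mul_right_cancel this
        · change ((s : G) * t) * t = t * (s * t)
          rw [← mul_assoc, ← hc]
    · obtain ⟨z₀, hz₀, hz₀1, hz₀u⟩ := hnc s t s.2.1 t.2.1 hc
      refine ⟨⟨z₀, hz₀, hz₀1⟩, ?_⟩
      ext z
      simp only [Finset.mem_filter, Finset.mem_univ, true_and, Finset.mem_singleton]
      have h1 := hz₀u z z.2.1 z.2.2
      constructor
      · intro hz
        exact Subtype.ext (h1.mp hz)
      · intro hz
        exact h1.mpr (congrArg Subtype.val hz)
  exact friendship_false R hirr hsymm hd3 hdeg hf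

end SHsec

section mainsec

/-- **Main theorem** in the form of an induction. -/
theorem main_PS (p : ℕ) [hp : Fact p.Prime] : ∀ (n : ℕ) (G : Type u) [Group G] [Finite G],
    Nat.card G = n → Hyp p G → PS p G := by
  have hpp : p.Prime := hp.out
  intro n
  induction n using Nat.strong_induction_on with
  | _ n ih =>
    intro G _ _ hn hyp
    have hPS : ∀ H : Subgroup G, H ≠ ⊤ → PS p H := by
      intro H hH
      refine ih (Nat.card H) ?_ H rfl (hyp.subgroup H)
      rw [← hn]
      exact lt_of_le_of_ne (Subgroup.card_le_card_group H) (fun he => hH (Subgroup.eq_top_of_card_eq H he))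
    by_cases hN : ∃ N : Subgroup G, N.Normal ∧ N ≠ ⊥ ∧ N ≠ ⊤
    · obtain ⟨N, hNn, hN1, hN2⟩ := hN
      obtain ⟨N₀, hn₀, hb₀, hc₀⟩ := exists_normal_small N hNn hN1 (hPS N hN2)
      haveI := hn₀
      have hq : Nat.card (G ⧸ N₀) < n := by
        have h1 := N₀.card_mul_index
        rw [Subgroup.index_eq_card] at h1
        have h2 : 1 < Nat.card N₀ := by
          have h3 : Nat.card N₀ ≠ 1 := fun he => hb₀ (Subgroup.card_eq_one.mp he)
          have h4 : 0 < Nat.card N₀ := Nat.card_pos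
          omega
        have h5 : 0 < Nat.card (G ⧸ N₀) := Nat.card_pos
        rw [← hn, ← h1]
        nlinarith
      rcases hc₀ with h1 | h1
      · exact caseA hyp N₀ h1 (ih _ hq (G ⧸ N₀) rfl (hyp.quot_A N₀ h1))
      · exact caseB hyp N₀ h1 (ih _ hq (G ⧸ N₀) rfl (hyp.quot_B N₀ h1))
    · have hsimple : ∀ N : Subgroup G, N.Normal → N = ⊥ ∨ N = ⊤ := by
        intro N hNn
        by_contra hcon
        push Not at hcon
        exact hN ⟨N, hNn, hcon.1, hcon.2⟩
      by_cases hab : ∀ x y : G, x * y = y * x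
      · right
        obtain ⟨P⟩ : Nonempty (Sylow p G) := inferInstance
        refine ⟨P, ⟨fun x hx g => ?_⟩⟩
        rw [hab g x, mul_inv_cancel_right]
        exact hx
      by_cases hpd : p ∣ Nat.card G
      · exfalso
        push Not at hab
        obtain ⟨x, y, hxy⟩ := hab
        have h : SH p G := ⟨hyp, hsimple, ⟨x, y, hxy⟩, hpd, hPS⟩
        obtain ⟨hp3, Q, κ, S, hκκ, hκ1, hκQ, hκC, hS4, hconj, t₁, t₂, t₃, h₁, h₂, h₃, h12, h13, h23⟩ :=
          h.final_data
        subst hp3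
        exact final_contra h Q κ S hκκ hκ1 hκQ hκC hS4 hconj t₁ t₂ t₃ h₁ h₂ h₃ h12 h13 h23
      · left
        refine hasNormalPComplement_of_hall (N := ⊤) ?_ (k := 0) (by simp)
        rw [Subgroup.card_top]
        exact ((Nat.Prime.coprime_iff_not_dvd hpp).2 hpd).symm

end mainsec

end Cfsg.Agent.Lib.PGroups.CycP
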