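import Cfsg.Agent.Lib.PGroups.CycSub
import Cfsg.Agent.Lib.PGroups.ConjFixed
import Cfsg.Agent.Lib.TwoGroups.Present

/-!
# More helpers for `p`-by-cyclic groups

* `sylow_conj'`, `isCyclic_of_conj'`: `p`-subgroups conjugate into a fixed Sylow subgroup;
* `commute_of_cyclic_two`: an odd element normalising a cyclic `2`-subgroup centralises it;
* `dihedral_sub`: a non-cyclic subgroup of a dihedral group has a dihedral presentation;
* `nonempty_mulEquiv_alternating_of`: a group of order `12` with a core-free subgroup of order `3` is `A₄`.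
-/

set_option autoImplicit false

namespace Cfsg.Agent.Lib.PGroups

open Subgroup Cfsg Cfsg.Agent.Lib.Basic

theorem sylow_conj' {G : Type*} [Group G] [Finite G] {p : ℕ} [hfp : Fact p.Prime] (P : Sylow p G)
    {A : Subgroup G} (hA : IsPGroup p A) : ∃ g : G, ∀ x ∈ A, g⁻¹ * x * g ∈ (P : Subgroup G) := by
  obtain ⟨Q, hQ⟩ := hA.exists_le_sylow
  obtain ⟨g, hg⟩ := MulAction.exists_smul_eq G P Q
  refine ⟨g, fun x hx => ?_⟩
  have h1 : x ∈ (Q : Subgroup G) := hQ hx
  rw [← hg, Sylow.coe_subgroup_smul, Subgroup.mem_smul_pointwise_iff_exists] at h1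
  obtain ⟨y, hy, hy'⟩ := h1
  simp only [MulAut.smul_def, MulAut.conj_apply] at hy'
  have : g⁻¹ * x * g = y := by
    rw [← hy']
    group
  rwa [this]

/-- Conjugation as an injective homomorphism into a subgroup. -/
def conjIntoHom {G : Type*} [Group G] {P A : Subgroup G} {g : G} (h : ∀ x ∈ A, g⁻¹ * x * g ∈ P) : A →* P :=
  ((MulAut.conj g⁻¹).toMonoidHom.comp A.subtype).codRestrict P (fun x => by
    have := h x x.2
    simpa using this)

theorem conjIntoHom_coe {G : Type*} [Group G] {P A : Subgroup G} {g : G} (h : ∀ x ∈ A, g⁻¹ * x * g ∈ P) (x : A) :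
    ((conjIntoHom h x : P) : G) = g⁻¹ * x * g := by
  simp [conjIntoHom]

theorem conjIntoHom_injective {G : Type*} [Group G] {P A : Subgroup G} {g : G} (h : ∀ x ∈ A, g⁻¹ * x * g ∈ P) :
    Function.Injective (conjIntoHom h) := by
  intro a b hab
  have h1 := congrArg (Subtype.val) hab
  rw [conjIntoHom_coe, conjIntoHom_coe] at h1
  exact Subtype.ext (mul_left_cancel (mul_right_cancel h1))

theorem isCyclic_of_conj' {G : Type*} [Group G] {P A : Subgroup G} (hP : IsCyclic P) {g : G}
    (h : ∀ x ∈ A, g⁻¹ * x * g ∈ P) : IsCyclic A :=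
  isCyclic_of_injective (conjIntoHom h) (conjIntoHom_injective h)

/-- An odd-order element normalising a cyclic `2`-subgroup centralises it. -/
theorem commute_of_cyclic_two {X : Type*} [Group X] [Finite X] (C : Subgroup X) (hC : IsCyclic C)
    (hCp : IsPGroup 2 C) {b : X} (hb : b ∈ normalizer (C : Set X)) (hbo : ¬ 2 ∣ orderOf b) {c : X} (hc : c ∈ C) :
    b * c * b⁻¹ = c := by
  haveI hf2 : Fact (Nat.Prime 2) := ⟨Nat.prime_two⟩
  set α : MulAut C := Subgroup.normalizerMonoidHom C ⟨b, hb⟩ with hα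
  have h1 : α ^ orderOf b = 1 := by
    rw [hα, ← map_pow]
    have : (⟨b, hb⟩ : normalizer (C : Set X)) ^ orderOf b = 1 := by
      apply Subtype.ext
      simp
    rw [this, map_one]
  obtain ⟨k, hk⟩ := IsPGroup.iff_card.mp hCp
  have hcard : Nat.card (MulAut C) ∣ 2 ^ k := by
    rw [IsCyclic.card_mulAut, hk]
    rcases k with _ | k
    · simp
    · rw [Nat.totient_prime_pow_succ Nat.prime_two]
      norm_num
      exact pow_dvd_pow 2 (Nat.le_succ k)
  have h2 : α ^ 2 ^ k = 1 := orderOf_dvd_iff_pow_eq_one.mp ((orderOf_dvd_natCard α).trans hcard)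
  have hcop : (orderOf b).Coprime (2 ^ k) :=
    (((Nat.Prime.coprime_iff_not_dvd Nat.prime_two).mpr hbo).symm).pow_right k
  have h3 : α = 1 := by
    have := (pow_gcd_eq_one (a := α)).mpr ⟨h1, h2⟩
    rw [hcop.gcd_eq_one, pow_one] at this
    exact this
  have h4 : α ⟨c, hc⟩ = ⟨c, hc⟩ := by rw [h3]; rfl
  exact congrArg Subtype.val h4

/-- A non-cyclic subgroup of a dihedral group has a dihedral presentation. -/
theorem dihedral_sub {X : Type*} [Group X] [Finite X] {M : ℕ} [NeZero M] (φ : X →* DihedralGroup M)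
    (hφ : Function.Injective φ) (hX : ¬ IsCyclic X) :
    ∃ ρ σ : X, orderOf ρ * 2 = Nat.card X ∧ σ * σ = 1 ∧ σ * ρ * σ⁻¹ = ρ⁻¹ ∧ σ ∉ zpowers ρ ∧
      ∀ u : X, u ∈ zpowers ρ ∨ u * σ ∈ zpowers ρ := by
  classical
  set Rot : Subgroup (DihedralGroup M) := zpowers (DihedralGroup.r 1) with hRot
  set R₀ : Subgroup X := Rot.comap φ with hR₀
  have hmemRot : ∀ i : ZMod M, DihedralGroup.r i ∈ Rot := by
    intro i
    refine Subgroup.mem_zpowers_iff.mpr ⟨(i.val : ℤ), ?_⟩
    rw [DihedralGroup.r_one_zpow]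
    simp
  have hnotRot : ∀ a : ZMod M, DihedralGroup.sr a ∉ Rot := by
    intro a h
    obtain ⟨k, hk⟩ := Subgroup.mem_zpowers_iff.mp h
    rw [DihedralGroup.r_one_zpow] at hk
    cases hk
  have hRc : IsCyclic R₀ := by
    refine isCyclic_of_injective (φ.subgroupComap Rot) ?_
    intro a b hab
    have := congrArg Subtype.val hab
    exact Subtype.ext (hφ this)
  obtain ⟨ρ₀, hρ₀⟩ := IsCyclic.exists_generator (α := R₀)
  set ρ : X := ρ₀.1 with hρ
  have hzR : zpowers ρ = R₀ := by
    apply le_antisymm ((Subgroup.zpowers_le).mpr ρ₀.2)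
    intro u hu
    obtain ⟨i, hi⟩ := Subgroup.mem_zpowers_iff.mp (hρ₀ ⟨u, hu⟩)
    refine Subgroup.mem_zpowers_iff.mpr ⟨i, ?_⟩
    simpa using congrArg Subtype.val hi
  have hRne : R₀ ≠ ⊤ := by
    intro h
    apply hX
    rw [← hzR] at h
    exact ⟨⟨ρ, fun x => by
      have : x ∈ zpowers ρ := by rw [h]; exact mem_top x
      exact this⟩⟩
  obtain ⟨σ, hσ⟩ : ∃ σ, σ ∉ R₀ := by
    by_contra hcon
    push Not at hcon
    exact hRne (eq_top_iff.mpr fun x _ => hcon x)
  obtain ⟨a, ha⟩ : ∃ a, φ σ = DihedralGroup.sr a := by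
    rcases hes : φ σ with i | a
    · exact absurd (show φ σ ∈ Rot by rw [hes]; exact hmemRot i) hσ
    · exact ⟨a, rfl⟩
  have hcases : ∀ u : X, (∃ i, φ u = DihedralGroup.r i) ∨ (∃ c, φ u = DihedralGroup.sr c) := by
    intro u
    rcases hes : φ u with i | c
    · exact Or.inl ⟨i, rfl⟩
    · exact Or.inr ⟨c, rfl⟩
  have hmemR : ∀ u : X, u ∈ R₀ ↔ ∃ i, φ u = DihedralGroup.r i := by
    intro u
    constructor
    · intro hu
      rcases hcases u with h | ⟨c, hc⟩
      · exact h
      · exact absurd (show φ u ∈ Rot from hu) (by rw [hc]; exact hnotRot c)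
    · rintro ⟨i, hi⟩
      show φ u ∈ Rot
      rw [hi]
      exact hmemRot i
  refine ⟨ρ, σ, ?_, ?_, ?_, ?_, ?_⟩
  · have hidx : R₀.index = 2 := by
      rw [Subgroup.index_eq_two_iff]
      refine ⟨σ, fun b => ?_⟩
      rcases hcases b with ⟨i, hi⟩ | ⟨c, hc⟩
      · right
        refine ⟨(hmemR b).mpr ⟨i, hi⟩, fun h => ?_⟩
        obtain ⟨j, hj⟩ := (hmemR _).mp h
        rw [map_mul, hi, ha, DihedralGroup.r_mul_sr] at hj
        cases hj
      · left
        refine ⟨(hmemR _).mpr ⟨a - c, by rw [map_mul, hc, ha, DihedralGroup.sr_mul_sr]⟩, fun h => ?_⟩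
        obtain ⟨j, hj⟩ := (hmemR _).mp h
        rw [hc] at hj
        cases hj
    have h2 := R₀.index_mul_card
    rw [hidx, ← hzR, Nat.card_zpowers] at h2
    rw [← h2, mul_comm]
  · apply hφ
    rw [map_mul, ha, DihedralGroup.sr_mul_self, map_one]
  · apply hφ
    obtain ⟨i, hi⟩ := (hmemR ρ).mp ρ₀.2
    rw [map_mul, map_mul, map_inv, map_inv, ha, hi, DihedralGroup.inv_sr, DihedralGroup.inv_r,
      DihedralGroup.sr_mul_r, DihedralGroup.sr_mul_sr]
    congr 1
    ring
  · rw [hzR]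
    exact hσ
  · intro u
    rw [hzR]
    rcases hcases u with ⟨i, hi⟩ | ⟨c, hc⟩
    · exact Or.inl ((hmemR u).mpr ⟨i, hi⟩)
    · exact Or.inr ((hmemR _).mpr ⟨a - c, by rw [map_mul, hc, ha, DihedralGroup.sr_mul_sr]⟩)

/-- A group of order `12` with a core-free subgroup of order `3` is isomorphic to `A₄`. -/
theorem nonempty_mulEquiv_alternating_of {X : Type*} [Group X] [Finite X] (hcard : Nat.card X = 12) (b : X)
    (hb : orderOf b = 3) (hcore : ∀ x ∈ zpowers b, (∀ y, y * x * y⁻¹ ∈ zpowers b) → x = 1) :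
    Nonempty (X ≃* alternatingGroup (Fin 4)) := by
  classical
  set B : Subgroup X := zpowers b with hB
  have hidx : B.index = 4 := by
    have h1 := B.index_mul_card
    have hc : Nat.card B = 3 := by rw [hB, Nat.card_zpowers, hb]
    rw [hc, hcard] at h1
    omega
  have hΩ : Nat.card (X ⧸ B) = 4 := hidx
  let f₀ : X →* Equiv.Perm (X ⧸ B) := MulAction.toPermHom X (X ⧸ B)
  have hf₀ : Function.Injective f₀ := by
    rw [injective_iff_map_eq_one]
    intro x hx
    have hact : ∀ y : X, x • ((y : X) : X ⧸ B) = (y : X ⧸ B) := fun y => by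
      have := congrArg (fun e : Equiv.Perm (X ⧸ B) => e (y : X ⧸ B)) hx
      simpa [f₀] using this
    have hmem : ∀ y : X, y⁻¹ * x * y ∈ B := by
      intro y
      have h1 := hact y
      rw [MulAction.Quotient.smul_mk] at h1
      have h2 : ((x • y : X) : X ⧸ B) = (y : X ⧸ B) := h1
      have h3 := QuotientGroup.eq.mp h2.symm
      rw [smul_eq_mul] at h3
      rwa [← mul_assoc] at h3
    have hx1 : x ∈ B := by
      have := hmem 1
      simpa using this
    exact hcore x hx1 (fun y => by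
      have := hmem y⁻¹
      simpa using this)
  let e : (X ⧸ B) ≃ Fin 4 := Finite.equivFinOfCardEq hΩ
  let f : X →* Equiv.Perm (Fin 4) := (Equiv.permCongrHom e).toMonoidHom.comp f₀
  have hf : Function.Injective f := (Equiv.permCongrHom e).injective.comp hf₀
  have hR : f.range.index = 2 := by
    have h1 := f.range.index_mul_card
    have h2 : Nat.card f.range = 12 := by
      rw [← hcard]
      exact Nat.card_congr (MonoidHom.ofInjective hf).toEquiv.symm
    have h3 : Nat.card (Equiv.Perm (Fin 4)) = 24 := by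
      rw [Nat.card_eq_fintype_card, Fintype.card_perm]
      rfl
    rw [h2, h3] at h1
    omega
  have hA := Equiv.Perm.eq_alternatingGroup_of_index_eq_two hR
  exact ⟨(MonoidHom.ofInjective hf).trans (MulEquiv.subgroupCongr hA)⟩

end Cfsg.Agent.Lib.PGroups
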