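import Mathlib
import Cfsg.Prelude.Def_Transfer
import Cfsg.Agent.Lib.Transfer.HallComp
import Cfsg.Agent.Lib.Transfer.Frobenius
import Cfsg.Agent.Lib.Coprime.Sylow
import Cfsg.Agent.Lib.Basic.Nilpotent
import Cfsg.Agent.Lib.Basic.Index
import Cfsg.Agent.Lib.PGroups.Parts

/-! Nilpotent maximal subgroups: the common skeleton of Thompson's and the Deskins-Janko theorem. -/

set_option autoImplicit false
set_option linter.unusedSectionVars false
set_option linter.style.haveILetI false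

namespace Cfsg.Agent.Lib.PGroups

open Subgroup Cfsg
open Cfsg.Agent.Lib.Transfer

universe u

variable {G : Type*} [Group G] [Finite G]

/-- A Sylow subgroup of a core-free nilpotent maximal subgroup is a Sylow subgroup of the group. -/
theorem exists_sylow_of_nilpotent_coatom {M : Subgroup G} (hM : IsCoatom M) (hnil : Group.IsNilpotent M)
    (hcf : ∀ N : Subgroup G, N.Normal → N ≤ M → N = ⊥) (p : ℕ) [hp : Fact p.Prime]
    (hd : p ∣ Nat.card M) :
    ∃ P : Sylow p G, (P : Subgroup G) ≤ M ∧ M ≤ normalizer ((P : Subgroup G) : Set G) := by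
  obtain ⟨S⟩ : Nonempty (Sylow p M) := inferInstance
  set S' : Subgroup G := (S : Subgroup M).map M.subtype with hS'
  have hS'P : IsPGroup p S' := S.isPGroup'.map _
  have hSn : (S : Subgroup M).Normal :=
    Sylow.normal_of_normalizerCondition (Group.normalizerCondition_of_isNilpotent) S
  have hS'M : S' ≤ M := by
    rintro _ ⟨x, -, rfl⟩
    exact x.2
  have hMN : M ≤ normalizer (S' : Set G) := by
    intro m hm
    rw [mem_normalizer_iff]
    intro x
    constructor
    · rintro ⟨y, hy, rfl⟩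
      exact ⟨⟨m, hm⟩ * y * (⟨m, hm⟩ : M)⁻¹, hSn.conj_mem y hy _, rfl⟩
    · rintro ⟨y, hy, hyx⟩
      have hxM : x ∈ M := by
        have h1 : m⁻¹ * (m * x * m⁻¹) * m ∈ M := by
          rw [← hyx]
          exact M.mul_mem (M.mul_mem (M.inv_mem hm) y.2) hm
        simpa [mul_assoc] using h1
      refine ⟨(⟨m, hm⟩ : M)⁻¹ * y * (⟨m, hm⟩ : M), ?_, ?_⟩
      · have := hSn.conj_mem y hy (⟨m, hm⟩ : M)⁻¹
        rwa [inv_inv] at this
      · show m⁻¹ * (y : G) * m = x
        have hyx' : (y : G) = m * x * m⁻¹ := hyx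
        rw [hyx']
        group
  have hne : S' ≠ ⊥ := by
    rw [hS', Ne, map_eq_bot_iff_of_injective _ M.subtype_injective]
    exact Sylow.ne_bot_of_dvd_card S hd
  have hNne : normalizer (S' : Set G) ≠ ⊤ := by
    intro h
    have : S'.Normal := normalizer_eq_top_iff.mp h
    exact hne (hcf S' this hS'M)
  have hNM : normalizer (S' : Set G) ≤ M := by
    by_contra hcon
    exact hNne (hM.2 _ (lt_of_le_of_ne hMN fun h => hcon h.ge))
  obtain ⟨Q, hQ⟩ := hS'P.exists_le_sylow
  have hEq : S' = (Q : Subgroup G) := by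
    by_contra hcon
    obtain ⟨y, hyQ, hyN, hyS⟩ := exists_mem_normalizer_of_ne (Q : Subgroup G) S' Q.2 hQ hcon
    have hyM := hNM hyN
    obtain ⟨k, hk⟩ := Q.2 ⟨y, hyQ⟩
    have hk' : (⟨y, hyM⟩ : M) ^ p ^ k = 1 := by
      apply Subtype.ext
      simpa using congrArg Subtype.val hk
    exact hyS ⟨⟨y, hyM⟩, mem_sylow_of_nilpotent p S hk', rfl⟩
  exact ⟨Q, by rw [← hEq]; exact hS'M, by rw [← hEq]; exact hMN⟩

/-- A core-free nilpotent maximal subgroup is a Hall subgroup. -/
theorem coprime_index_of_nilpotent_coatom {M : Subgroup G} (hM : IsCoatom M) (hnil : Group.IsNilpotent M)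
    (hcf : ∀ N : Subgroup G, N.Normal → N ≤ M → N = ⊥) : (Nat.card M).Coprime M.index := by
  apply Nat.coprime_of_dvd
  intro p hp hd h2
  haveI : Fact p.Prime := ⟨hp⟩
  obtain ⟨P, hPM, -⟩ := exists_sylow_of_nilpotent_coatom hM hnil hcf p hd
  apply P.not_dvd_index
  rw [← Subgroup.relIndex_mul_index hPM]
  exact h2.mul_left _

/-- Normal complement of a Hall subgroup from the normal `p`-complements for its primes. -/
theorem exists_normal_complement_of_forall_prime (H : Subgroup G)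
    (hHall : (Nat.card H).Coprime H.index)
    (hcomp : ∀ q : ℕ, q.Prime → q ∣ Nat.card H → HasNormalPComplement q G) :
    ∃ N : Subgroup G, N.Normal ∧ N.IsComplement' H := by
  classical
  set m := Nat.card H with hm
  have hm0 : m ≠ 0 := Nat.card_pos.ne'
  have key : ∀ q ∈ m.primeFactors, ∃ K : Subgroup G, K.Normal ∧ (Nat.card K).Coprime q ∧
      K.index ≤ q ^ m.factorization q := by
    intro q hq
    have hqp : q.Prime := Nat.prime_of_mem_primeFactors hq
    have hqd : q ∣ m := Nat.dvd_of_mem_primeFactors hq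
    haveI : Fact q.Prime := ⟨hqp⟩
    have h1 : HasNormalPComplement q G := hcomp q hqp hqd
    obtain ⟨K, hKn, hKc, k, hk⟩ := exists_hall_of_hasNormalPComplement h1
    refine ⟨K, hKn, hKc, ?_⟩
    rw [hk]
    apply Nat.pow_le_pow_right hqp.pos
    apply (Nat.Prime.pow_dvd_iff_le_factorization hqp hm0).mp
    have h2 : q ^ k ∣ m * H.index := by
      rw [hm, card_mul_index, ← hk]
      exact index_dvd_card K
    refine Nat.Coprime.dvd_of_dvd_mul_right ?_ h2
    exact Nat.Coprime.pow_left k (Nat.Coprime.coprime_dvd_left hqd hHall)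
  choose! f hfn hfc hfi using key
  let N : Subgroup G := ⨅ q : m.primeFactors, f q
  have hNn : N.Normal := normal_iInf_normal fun q => hfn q q.2
  have hNle : ∀ q ∈ m.primeFactors, N ≤ f q := fun q hq => iInf_le (fun q : m.primeFactors => f q) ⟨q, hq⟩
  have hidx : N.index ≤ m := by
    calc N.index ≤ ∏ q : m.primeFactors, (f q).index := index_iInf_le _
      _ ≤ ∏ q : m.primeFactors, (q : ℕ) ^ m.factorization q :=
        Finset.prod_le_prod' fun q _ => hfi q q.2
      _ = ∏ q ∈ m.primeFactors, q ^ m.factorization q :=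
        Finset.prod_coe_sort m.primeFactors fun q => q ^ m.factorization q
      _ = m := Nat.prod_factorization_pow_eq_self hm0
  have hcop : (Nat.card N).Coprime m := by
    apply Nat.coprime_of_dvd
    intro r hr hr1 hr2
    have hrm : r ∈ m.primeFactors := Nat.mem_primeFactors.mpr ⟨hr, hr2, hm0⟩
    have h3 : Nat.card N ∣ Nat.card (f r) := card_dvd_of_le (hNle r hrm)
    have h4 := hfc r hrm
    exact hr.one_lt.ne' (Nat.eq_one_of_dvd_coprimes h4 (hr1.trans h3) (dvd_refl r))
  have h5 : m ∣ N.index := by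
    have h6 : m ∣ Nat.card N * N.index := by
      rw [card_mul_index, hm]
      exact card_subgroup_dvd_card H
    exact Nat.Coprime.dvd_of_dvd_mul_left hcop.symm h6
  have h7 : N.index = m := le_antisymm hidx (Nat.le_of_dvd (Nat.pos_of_ne_zero (by
    have := (card_mul_index N)
    intro h0
    rw [h0, mul_zero] at this
    exact Nat.card_pos.ne this)) h5)
  refine ⟨N, hNn, isComplement'_of_coprime ?_ hcop⟩
  rw [← hm, ← h7, card_mul_index]

/-- A nilpotent maximal subgroup with a normal complement: the group is solvable. -/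
theorem isSolvable_of_nilpotent_coatom_of_complement {M K : Subgroup G} (hM : IsCoatom M)
    (hnil : Group.IsNilpotent M) (hHall : (Nat.card M).Coprime M.index) (hK : K.Normal)
    (hc : K.IsComplement' M) : Group.IsSolvable G := by
  have hidx : M.index = Nat.card K := hc.index_eq_card
  have hcop : Nat.Coprime (Nat.card M) (Nat.card K) := by rwa [← hidx]
  have hK1 : Nat.card K ≠ 1 := by
    intro h1
    exact hM.1 (Subgroup.index_eq_one.mp (hidx.trans h1))
  obtain ⟨q, hq, hqd⟩ := Nat.exists_prime_and_dvd hK1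
  haveI : Fact q.Prime := ⟨hq⟩
  haveI : Group.IsSolvable M := by
    haveI := hnil
    infer_instance
  have hact : Cfsg.Agent.Lib.Coprime.CoprimeAction M K :=
    ⟨by rw [normalizer_eq_top_iff.mpr hK]; exact le_top, hcop, Or.inl inferInstance⟩
  obtain ⟨Q, hQ, hMQ⟩ := hact.exists_invariant_sylow q
  have hQb : Q ≠ ⊥ := by
    intro h
    apply hQ.not_dvd
    rw [h, Subgroup.relIndex_bot_left]
    exact hqd
  have hQM : ¬ Q ≤ M := by
    intro h
    apply hQb
    have h1 : Q ≤ K ⊓ M := le_inf hQ.le h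
    have h2 : K ⊓ M = ⊥ := hc.disjoint.eq_bot
    rw [h2] at h1
    exact le_bot_iff.mp h1
  have hsup : Q ⊔ M = ⊤ := by
    apply hM.2
    exact lt_of_le_of_ne le_sup_right fun h => hQM (h ▸ le_sup_left)
  have hQn : Q.Normal := by
    rw [← normalizer_eq_top_iff, eq_top_iff, ← hsup]
    exact sup_le le_normalizer hMQ
  haveI : Group.IsSolvable Q := by
    haveI := hQ.isP.isNilpotent
    infer_instance
  have hsurj : Function.Surjective ((QuotientGroup.mk' Q).comp M.subtype) := by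
    intro y
    obtain ⟨x, rfl⟩ := QuotientGroup.mk'_surjective Q y
    have hx : x ∈ Q ⊔ M := by rw [hsup]; trivial
    obtain ⟨a, ha, b, hb, rfl⟩ := (Cfsg.Agent.Lib.Coprime.mem_sup_iff_of_le_normalizer hMQ x).mp hx
    refine ⟨⟨b, hb⟩, ?_⟩
    simp only [MonoidHom.comp_apply, coe_subtype, QuotientGroup.mk'_apply]
    rw [QuotientGroup.eq]
    have := hQn.conj_mem a ha b⁻¹
    simpa [mul_assoc] using this
  haveI : Group.IsSolvable (G ⧸ Q) := Group.isSolvable_of_surjective hsurj
  exact Group.isSolvable_of_ker_le_range Q.subtype (QuotientGroup.mk' Q) (by simp)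

/-- The skeleton. -/
theorem isSolvable_of_nilpotent_coatom_of_core_free {M : Subgroup G} (hM : IsCoatom M)
    (hnil : Group.IsNilpotent M) (hcf : ∀ N : Subgroup G, N.Normal → N ≤ M → N = ⊥)
    (hcomp : ∀ q : ℕ, q.Prime → q ∣ Nat.card M → HasNormalPComplement q G) : Group.IsSolvable G := by
  have hHall := coprime_index_of_nilpotent_coatom hM hnil hcf
  obtain ⟨K, hK, hc⟩ := exists_normal_complement_of_forall_prime M hHall hcomp
  exact isSolvable_of_nilpotent_coatom_of_complement hM hnil hHall hK hc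

/-- The induction: reduce to the core-free case. -/
theorem isSolvable_of_nilpotent_coatom_induction
    (C : (X : Type u) → [Group X] → Subgroup X → Prop)
    (hq : ∀ (X : Type u) [Group X] [Finite X] (M N : Subgroup X) [N.Normal], Group.IsNilpotent M →
      C X M → C (X ⧸ N) (M.map (QuotientGroup.mk' N)))
    (hb : ∀ (X : Type u) [Group X] [Finite X] (M : Subgroup X), IsCoatom M → Group.IsNilpotent M →
      C X M → (∀ N : Subgroup X, N.Normal → N ≤ M → N = ⊥) →
      ∀ q : ℕ, q.Prime → q ∣ Nat.card M → HasNormalPComplement q X) :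
    ∀ (n : ℕ) (X : Type u) [Group X] [Finite X] (M : Subgroup X), Nat.card X = n → IsCoatom M →
      Group.IsNilpotent M → C X M → Group.IsSolvable X := by
  intro n
  induction n using Nat.strong_induction_on with
  | _ n ih =>
    intro X _ _ M hn hM hnil hC
    by_cases hcf : ∀ N : Subgroup X, N.Normal → N ≤ M → N = ⊥
    · exact isSolvable_of_nilpotent_coatom_of_core_free hM hnil hcf (hb X M hM hnil hC hcf)
    · push Not at hcf
      obtain ⟨N, hNn, hNM, hNb⟩ := hcf
      haveI := hNn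
      have hlt : Nat.card (X ⧸ N) < n := by
        have h1 : 1 < Nat.card N := (Subgroup.one_lt_card_iff_ne_bot N).mpr hNb
        have h2 := Subgroup.card_mul_index N
        have h3 : Nat.card (X ⧸ N) = N.index := rfl
        have h4 : 0 < N.index := Nat.pos_of_ne_zero Subgroup.index_ne_zero_of_finite
        rw [h3, ← hn, ← h2]
        nlinarith
      have hM' := Cfsg.Agent.Lib.Basic.isCoatom_map_mk hM hNM
      have hnil' : Group.IsNilpotent (M.map (QuotientGroup.mk' N)) := by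
        haveI := hnil
        exact Group.nilpotent_of_surjective ((QuotientGroup.mk' N).subgroupMap M)
          ((QuotientGroup.mk' N).subgroupMap_surjective M)
      haveI := ih _ hlt (X ⧸ N) (M.map (QuotientGroup.mk' N)) rfl hM' hnil' (hq X M N hnil hC)
      haveI : Group.IsSolvable N := by
        haveI := hnil
        exact Group.isSolvable_of_isSolvable_injective (Subgroup.inclusion_injective hNM)
      exact Group.isSolvable_of_ker_le_range N.subtype (QuotientGroup.mk' N) (by simp)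

/-- Nilpotent groups have normal `p`-complements. -/
theorem hasNormalPComplement_of_isNilpotent (X : Type*) [Group X] [Finite X] [Group.IsNilpotent X]
    (p : ℕ) [hp : Fact p.Prime] : HasNormalPComplement p X := by
  obtain ⟨S⟩ : Nonempty (Sylow p X) := inferInstance
  apply hasNormalPComplement_of_control S
  rintro x hx y hy ⟨g, rfl⟩
  obtain ⟨a, b, rfl, hcm, ⟨k, hk⟩, hb, -, -⟩ := exists_pPart p g
  have ha : a ∈ (S : Subgroup X) := by
    apply mem_sylow_of_nilpotent p S (k := k)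
    rw [← hk, pow_orderOf_eq_one]
  refine ⟨a, ha, ?_⟩
  obtain ⟨j, hj⟩ := S.2 ⟨x, hx⟩
  have hj' : x ^ p ^ j = 1 := by simpa using congrArg Subtype.val hj
  obtain ⟨i, -, hi⟩ := (Nat.dvd_prime_pow hp.out).mp (orderOf_dvd_of_pow_eq_one hj')
  have hcop : (orderOf b).Coprime (orderOf x) := by
    rw [hi]
    exact Nat.Coprime.pow_right i ((Nat.Prime.coprime_iff_not_dvd hp.out).mpr hb).symm
  have hbx : b * x = x * b := Cfsg.Agent.Lib.OddLocal.commute_of_coprime_of_nilpotent b x hcop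
  calc a * x * a⁻¹ = a * x * (b * b⁻¹) * a⁻¹ := by group
    _ = a * (x * b) * b⁻¹ * a⁻¹ := by group
    _ = a * b * x * (a * b)⁻¹ := by rw [← hbx]; group


section ClassTwo

variable {M : Subgroup G}

/-- The centralizer of a nontrivial central element of a core-free maximal subgroup is that subgroup. -/
theorem mem_of_commute_central (hM : IsCoatom M)
    (hcf : ∀ N : Subgroup G, N.Normal → N ≤ M → N = ⊥) {z g : G} (hzM : z ∈ M)
    (hz : ∀ m ∈ M, m * z = z * m) (hz1 : z ≠ 1) (hg : g * z = z * g) : g ∈ M := by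
  by_contra hgM
  have hMC : M ≤ centralizer ({z} : Set G) := by
    intro m hm
    rw [mem_centralizer_singleton_iff]
    exact (hz m hm)
  have hgC : g ∈ centralizer ({z} : Set G) := by
    rw [mem_centralizer_singleton_iff]
    exact hg
  have hC : centralizer ({z} : Set G) = ⊤ :=
    hM.2 _ (lt_of_le_of_ne hMC (fun h => hgM (h ▸ hgC)))
  have hcen : ∀ x : G, x * z = z * x := by
    intro x
    have : x ∈ centralizer ({z} : Set G) := by rw [hC]; trivial
    rwa [mem_centralizer_singleton_iff] at this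
  have hn : (zpowers z).Normal := by
    refine ⟨fun n hn x => ?_⟩
    obtain ⟨k, rfl⟩ := mem_zpowers_iff.mp hn
    have h1 : Commute x (z ^ k) := Commute.zpow_right (hcen x) k
    rw [h1.eq, mul_inv_cancel_right]
    exact hn
  have h2 : zpowers z = ⊥ := hcf _ hn (zpowers_le.mpr hzM)
  exact hz1 (zpowers_eq_bot.mp h2)

/-- The trivial-intersection property of the centre of a core-free maximal subgroup of class `≤ 2`. -/
theorem mem_of_conj_central (hM : IsCoatom M)
    (hcf : ∀ N : Subgroup G, N.Normal → N ≤ M → N = ⊥)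
    (hcl : ∀ a ∈ M, ∀ b ∈ M, ∀ c ∈ M, c * (a * b * a⁻¹ * b⁻¹) = (a * b * a⁻¹ * b⁻¹) * c)
    {z g : G} (hzM : z ∈ M) (hz : ∀ m ∈ M, m * z = z * m) (hz1 : z ≠ 1)
    (hzg : g⁻¹ * z * g ∈ M) : g ∈ M := by
  have hi : ∀ z' ∈ M, (∀ m ∈ M, m * z' = z' * m) → g * z' * g⁻¹ ∈ M := by
    intro z' _ hc
    apply mem_of_commute_central hM hcf hzM hz hz1
    have h := hc _ hzg
    calc g * z' * g⁻¹ * z = g * (z' * (g⁻¹ * z * g)) * g⁻¹ := by group
      _ = g * ((g⁻¹ * z * g) * z') * g⁻¹ := by rw [h]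
      _ = z * (g * z' * g⁻¹) := by group
  have hw := hi z hzM hz
  have hii : ∀ z' ∈ M, (∀ m ∈ M, m * z' = z' * m) → g⁻¹ * z' * g ∈ M := by
    intro z' _ hc
    apply mem_of_commute_central hM hcf hzM hz hz1
    have h := hc _ hw
    calc g⁻¹ * z' * g * z = g⁻¹ * (z' * (g * z * g⁻¹)) * g := by group
      _ = g⁻¹ * ((g * z * g⁻¹) * z') * g := by rw [h]
      _ = z * (g⁻¹ * z' * g) := by group
  let D : Subgroup G := M ⊓ M.comap (MulAut.conj g⁻¹).toMonoidHom
  have hD : ∀ x, x ∈ D ↔ x ∈ M ∧ g⁻¹ * x * g ∈ M := by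
    intro x
    simp [D, Subgroup.mem_inf, Subgroup.mem_comap]
  have hMD : M ≤ normalizer (D : Set G) := by
    intro m hm
    apply mem_normalizer_of_conj_le'
    intro d hd
    obtain ⟨hd1, hd2⟩ := (hD d).mp hd
    refine (hD _).mpr ⟨M.mul_mem (M.mul_mem hm hd1) (M.inv_mem hm), ?_⟩
    have hc := hii (m * d * m⁻¹ * d⁻¹)
      (M.mul_mem (M.mul_mem (M.mul_mem hm hd1) (M.inv_mem hm)) (M.inv_mem hd1))
      (fun c hc => hcl m hm d hd1 c hc)
    have h3 := M.mul_mem hc hd2
    have h4 : g⁻¹ * (m * d * m⁻¹ * d⁻¹) * g * (g⁻¹ * d * g) = g⁻¹ * (m * d * m⁻¹) * g := by group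
    rwa [h4] at h3
  have hnD : ∀ n : G, g⁻¹ * n * g ∈ M → n ∈ normalizer (D : Set G) := by
    intro n hn
    apply mem_normalizer_of_conj_le'
    intro d hd
    obtain ⟨hd1, hd2⟩ := (hD d).mp hd
    set m := g⁻¹ * n * g with hm
    set d₀ := g⁻¹ * d * g with hd₀
    have e1 : g⁻¹ * (n * d * n⁻¹) * g = m * d₀ * m⁻¹ := by rw [hm, hd₀]; group
    refine (hD _).mpr ⟨?_, ?_⟩
    · have hc := hi (m * d₀ * m⁻¹ * d₀⁻¹)
        (M.mul_mem (M.mul_mem (M.mul_mem hn hd2) (M.inv_mem hn)) (M.inv_mem hd2))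
        (fun c hc => hcl m hn d₀ hd2 c hc)
      have h3 := M.mul_mem hc hd1
      have h4 : g * (m * d₀ * m⁻¹ * d₀⁻¹) * g⁻¹ * d = n * d * n⁻¹ := by
        rw [hm, hd₀]; group
      rwa [h4] at h3
    · rw [e1]
      exact M.mul_mem (M.mul_mem hn hd2) (M.inv_mem hn)
  have hzD : z ∈ D := (hD z).mpr ⟨hzM, hzg⟩
  have hNne : normalizer (D : Set G) ≠ ⊤ := by
    intro h
    have hb := hcf D (normalizer_eq_top_iff.mp h) inf_le_left
    rw [hb] at hzD
    exact hz1 ((Subgroup.mem_bot).mp hzD)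
  have hNM : normalizer (D : Set G) ≤ M := by
    by_contra hcon
    exact hNne (hM.2 _ (lt_of_le_of_ne hMD fun h => hcon h.ge))
  by_contra hgM
  have hgN : g ∈ normalizer (M : Set G) := by
    apply mem_normalizer_of_conj_le'
    intro w hw
    apply hNM
    apply hnD
    have : g⁻¹ * (g * w * g⁻¹) * g = w := by group
    rwa [this]
  have hNtop : normalizer (M : Set G) = ⊤ :=
    hM.2 _ (lt_of_le_of_ne le_normalizer (fun h => hgM (h ▸ hgN)))
  have hb := hcf M (normalizer_eq_top_iff.mp hNtop) le_rfl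
  rw [hb] at hzM
  exact hz1 ((Subgroup.mem_bot).mp hzM)

/-- An element of `p`-power order lies in a Sylow subgroup. -/
theorem exists_sylow_mem_of_pow {X : Type*} [Group X] [Finite X] {p : ℕ} [Fact p.Prime] (x : X)
    (k : ℕ) (h : x ^ p ^ k = 1) : ∃ S : Sylow p X, x ∈ S := by
  have hP : IsPGroup p (zpowers x) := by
    rintro ⟨_, y, rfl⟩
    refine ⟨k, ?_⟩
    apply Subtype.ext
    simp only [Subgroup.coe_pow, Subgroup.coe_one]
    rw [← zpow_natCast, ← zpow_mul, mul_comm, zpow_mul, zpow_natCast, h, one_zpow]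
  obtain ⟨R, hR⟩ := hP.exists_le_sylow
  exact ⟨R, hR (mem_zpowers x)⟩

/-- **The normal `p`-complement** for a core-free nilpotent maximal subgroup of class `≤ 2`. -/
theorem hasNormalPComplement_of_class_two (hM : IsCoatom M) (hnil : Group.IsNilpotent M)
    (hcf : ∀ N : Subgroup G, N.Normal → N ≤ M → N = ⊥)
    (hcl : ∀ a ∈ M, ∀ b ∈ M, ∀ c ∈ M, c * (a * b * a⁻¹ * b⁻¹) = (a * b * a⁻¹ * b⁻¹) * c)
    (p : ℕ) [hp : Fact p.Prime] (hd : p ∣ Nat.card M) : HasNormalPComplement p G := by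
  haveI := hnil
  obtain ⟨P, hPM, hMP⟩ := exists_sylow_of_nilpotent_coatom hM hnil hcf p hd
  haveI hNn : ((P : Subgroup G).subgroupOf M).Normal := normal_subgroupOf_of_le_normalizer hMP
  have hNne : (P : Subgroup G).subgroupOf M ≠ ⊥ := by
    have := Sylow.ne_bot_of_dvd_card (P.subtype hPM) hd
    rwa [Sylow.coe_subtype] at this
  have hinf := Cfsg.Agent.Lib.Basic.normal_inf_center_ne_bot _ hNne
  obtain ⟨⟨⟨z, hzM⟩, hzI⟩, hz1⟩ := (Subgroup.ne_bot_iff_exists_ne_one).mp hinf
  have hzP : z ∈ (P : Subgroup G) := (Subgroup.mem_inf.mp hzI).1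
  have hzc : ∀ m ∈ M, m * z = z * m := by
    intro m hm
    have := (Subgroup.mem_center_iff.mp (Subgroup.mem_inf.mp hzI).2) ⟨m, hm⟩
    exact congrArg Subtype.val this
  have hz1' : z ≠ 1 := by
    intro h
    apply hz1
    apply Subtype.ext
    apply Subtype.ext
    exact h
  apply hasNormalPComplement_of_control P
  rintro x hx y hy ⟨g, hg⟩
  have hxM := hPM hx
  have hyM := hPM hy
  let C := centralizer ({y} : Set G)
  have hzC : z ∈ C := by
    rw [mem_centralizer_singleton_iff]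
    exact (hzc y hyM).symm
  have hz₂C : g * z * g⁻¹ ∈ C := by
    rw [mem_centralizer_singleton_iff, ← hg]
    have h := hzc x hxM
    calc g * z * g⁻¹ * (g * x * g⁻¹) = g * (z * x) * g⁻¹ := by group
      _ = g * (x * z) * g⁻¹ := by rw [h]
      _ = g * x * g⁻¹ * (g * z * g⁻¹) := by group
  obtain ⟨k, hk⟩ := P.2 ⟨z, hzP⟩
  have hk' : z ^ p ^ k = 1 := by simpa using congrArg Subtype.val hk
  have hk₁ : (⟨z, hzC⟩ : C) ^ p ^ k = 1 := by
    apply Subtype.ext
    simpa using hk'
  have hk₂ : (⟨g * z * g⁻¹, hz₂C⟩ : C) ^ p ^ k = 1 := by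
    apply Subtype.ext
    simp [conj_pow, hk']
  obtain ⟨T₁, hT₁⟩ := exists_sylow_mem_of_pow _ _ hk₁
  obtain ⟨T₂, hT₂⟩ := exists_sylow_mem_of_pow _ _ hk₂
  obtain ⟨c, hc⟩ := MulAction.exists_smul_eq C T₁ T₂
  rw [← hc, mem_smul_sylow] at hT₂
  have hT : IsPGroup p ((T₁ : Subgroup C).map C.subtype) := T₁.isPGroup'.map _
  obtain ⟨Q, hQ⟩ := hT.exists_le_sylow
  obtain ⟨a, ha⟩ := MulAction.exists_smul_eq G P Q
  have hzQ : z ∈ a • P := by
    rw [ha]
    exact hQ ⟨⟨z, hzC⟩, hT₁, rfl⟩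
  rw [mem_smul_sylow] at hzQ
  have haM : a ∈ M := mem_of_conj_central hM hcf hcl hzM hzc hz1' (hPM hzQ)
  have hQP : Q = P := by
    rw [← ha]
    exact Sylow.smul_eq_iff_mem_normalizer.mpr (hMP haM)
  have h5 : (c : G)⁻¹ * (g * z * g⁻¹) * c ∈ (P : Subgroup G) := by
    rw [← hQP]
    exact hQ ⟨_, hT₂, rfl⟩
  have huM : (c : G)⁻¹ * g ∈ M := by
    have h6 : ((c : G)⁻¹ * g)⁻¹ ∈ M := by
      apply mem_of_conj_central hM hcf hcl hzM hzc hz1'
      have h7 : (((c : G)⁻¹ * g)⁻¹)⁻¹ * z * ((c : G)⁻¹ * g)⁻¹ = (c : G)⁻¹ * (g * z * g⁻¹) * c := by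
        group
      rw [h7]
      exact hPM h5
    have h9 := M.inv_mem h6
    rwa [inv_inv] at h9
  have hcy : (c : G) * y = y * c := by
    have := c.2
    rwa [mem_centralizer_singleton_iff] at this
  have hux : ((c : G)⁻¹ * g) * x * ((c : G)⁻¹ * g)⁻¹ = y := by
    have e : ((c : G)⁻¹ * g) * x * ((c : G)⁻¹ * g)⁻¹ = (c : G)⁻¹ * (g * x * g⁻¹) * c := by group
    rw [e, hg, mul_assoc, ← hcy]
    group
  obtain ⟨a', b', hab, -, ⟨j, hj⟩, hb', -, -⟩ := exists_pPart p (⟨(c : G)⁻¹ * g, huM⟩ : M)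
  have ha' : (a' : G) ∈ (P : Subgroup G) := by
    have := mem_sylow_of_nilpotent p (P.subtype hPM) (a := a') (k := j)
      (by rw [← hj, pow_orderOf_eq_one])
    have h8 : a' ∈ (P : Subgroup G).subgroupOf M := by
      rw [← Sylow.coe_subtype]
      exact this
    exact mem_subgroupOf.mp h8
  refine ⟨a', ha', ?_⟩
  obtain ⟨i, hi⟩ := P.2 ⟨x, hx⟩
  have hi' : x ^ p ^ i = 1 := by simpa using congrArg Subtype.val hi
  obtain ⟨i', -, hi''⟩ := (Nat.dvd_prime_pow hp.out).mp (orderOf_dvd_of_pow_eq_one hi')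
  have hcop : (orderOf b').Coprime (orderOf (⟨x, hxM⟩ : M)) := by
    have h10 : orderOf (⟨x, hxM⟩ : M) = orderOf x := Subgroup.orderOf_mk x hxM
    rw [h10, hi'']
    exact Nat.Coprime.pow_right i' ((Nat.Prime.coprime_iff_not_dvd hp.out).mpr hb').symm
  have hbx : b' * ⟨x, hxM⟩ = ⟨x, hxM⟩ * b' :=
    Cfsg.Agent.Lib.OddLocal.commute_of_coprime_of_nilpotent b' _ hcop
  have hbx' : (b' : G) * x = x * b' := congrArg Subtype.val hbx
  have hab' : (c : G)⁻¹ * g = a' * b' := congrArg Subtype.val hab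
  rw [hab'] at hux
  rw [← hux]
  calc (a' : G) * x * (a' : G)⁻¹ = a' * (x * b') * ((b' : G)⁻¹ * (a' : G)⁻¹) := by group
    _ = a' * (b' * x) * ((b' : G)⁻¹ * (a' : G)⁻¹) := by rw [hbx']
    _ = a' * b' * x * (a' * b' : G)⁻¹ := by group

end ClassTwo

end Cfsg.Agent.Lib.PGroups
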