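import Mathlib
import Cfsg.Prelude.Def_Transfer
import Cfsg.Agent.Lib.PGroups.NilpMax
import Cfsg.Agent.Lib.Struct.Fitting
import Cfsg.Agent.Lib.Basic.GenCent
import Cfsg.Agent.Lib.Components.Basic
import Cfsg.Agent.Lib.OddLocal.UniqueP2
import Cfsg.Agent.Lib.Coprime.PLen

/-! Equal order pairs: `(G, N)` with all cosets `xN`, `x ∉ N`, having elements of one order. -/

set_option autoImplicit false
set_option linter.unusedSectionVars false
set_option linter.style.haveILetI false

namespace Cfsg.Agent.Lib.PGroups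

open Subgroup Cfsg

variable {G : Type*} [Group G] [Finite G]

/-- An element of `N` commuting with `t ∉ N`, of order coprime to that of `t`, is trivial. -/
theorem eq_one_of_commute_of_coprime {N : Subgroup G}
    (heq : ∀ x : G, x ∉ N → ∀ n ∈ N, orderOf (x * n) = orderOf x) {t c : G} (ht : t ∉ N) (hc : c ∈ N)
    (h : t * c = c * t) (hco : (orderOf t).Coprime (orderOf c)) : c = 1 := by
  have h1 : orderOf (t * c) = orderOf t * orderOf c :=
    Commute.orderOf_mul_eq_mul_orderOf_of_coprime h hco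
  have h2 := heq t ht c hc
  rw [h1] at h2
  have h3 : orderOf c = 1 := by
    have hpos : 0 < orderOf t := orderOf_pos t
    exact Nat.eq_of_mul_eq_mul_left hpos (by rw [h2, mul_one])
  exact orderOf_eq_one_iff.mp h3

/-- If a normal `p`-subgroup is not contained in `N`, then `N` is a `p`-group. -/
theorem isPGroup_of_mem_normal_not_mem {N : Subgroup G} [hN : N.Normal]
    (heq : ∀ x : G, x ∉ N → ∀ n ∈ N, orderOf (x * n) = orderOf x) {S : Subgroup G} (hS : S.Normal)
    {p : ℕ} [hp : Fact p.Prime] (hSp : IsPGroup p S) {x : G} (hxS : x ∈ S) (hxN : x ∉ N) :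
    IsPGroup p N := by
  have key : ∀ n ∈ N, ¬ p ∣ orderOf n → n = 1 := by
    intro n hn hpn
    let D : Subgroup G := S ⊓ N
    have hDS : D ≤ S := inf_le_left
    have hDN : D ≤ N := inf_le_right
    have hDn : D.Normal := by
      haveI := hS
      infer_instance
    have hDp : IsPGroup p D := hSp.to_le hDS
    let A : Subgroup G := zpowers n
    have hAN : A ≤ N := zpowers_le.mpr hn
    have hcA : Nat.card A = orderOf n := Nat.card_zpowers n
    have hcop : Nat.Coprime (Nat.card A) (Nat.card D) := by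
      rw [hcA]
      obtain ⟨k, hk⟩ := IsPGroup.iff_card.mp hDp
      rw [hk]
      exact Nat.Coprime.pow_right k ((Nat.Prime.coprime_iff_not_dvd hp.out).mpr hpn).symm
    haveI : Group.IsSolvable D := by
      haveI := hDp.isNilpotent
      infer_instance
    have hact : Cfsg.Agent.Lib.Coprime.CoprimeAction A D :=
      ⟨by rw [normalizer_eq_top_iff.mpr hDn]; exact le_top, hcop, Or.inr inferInstance⟩
    have hcomm : ∀ a ∈ A, x * a * x⁻¹ * a⁻¹ ∈ D := by
      intro a ha
      refine mem_inf.mpr ⟨?_, ?_⟩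
      · have h1 := hS.conj_mem x⁻¹ (S.inv_mem hxS) a
        have h2 : x * a * x⁻¹ * a⁻¹ = x * (a * x⁻¹ * a⁻¹) := by group
        rw [h2]
        exact S.mul_mem hxS h1
      · exact N.mul_mem (hN.conj_mem a (hAN ha) x) (N.inv_mem (hAN ha))
    let S₀ : Subgroup G := A.map (MulAut.conj x).toMonoidHom
    have hS₀ : S₀ ≤ D ⊔ A := by
      rintro _ ⟨a, ha, rfl⟩
      have e : (MulAut.conj x).toMonoidHom a = (x * a * x⁻¹ * a⁻¹) * a := by
        simp [MulAut.conj_apply]
      rw [e]
      exact mul_mem_sup (hcomm a ha) ha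
    have hGS : D ⊔ S₀ = D ⊔ A := by
      apply le_antisymm (sup_le le_sup_left hS₀)
      refine sup_le le_sup_left ?_
      intro a ha
      have e : a = (x * a * x⁻¹ * a⁻¹)⁻¹ * (x * a * x⁻¹) := by group
      rw [e]
      exact mul_mem_sup (D.inv_mem (hcomm a ha)) ⟨a, ha, by simp [MulAut.conj_apply]⟩
    obtain ⟨d, hd, hle⟩ := hact.exists_le_conj hS₀ hGS
    obtain ⟨_, ⟨a', ha', rfl⟩, ha'e⟩ := hle (mem_zpowers n)
    set t := d * x with ht
    have htS : t ∈ S := S.mul_mem (hDS hd) hxS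
    have htN : t ∉ N := by
      intro h
      apply hxN
      have : x = d⁻¹ * t := by rw [ht]; group
      rw [this]
      exact N.mul_mem (N.inv_mem (hDN hd)) h
    have e1 : t * a' * t⁻¹ = n := by
      rw [← ha'e, ht]
      simp [MulAut.conj_apply, mul_assoc]
    have hmem : n⁻¹ * a' ∈ D ⊓ A := by
      refine mem_inf.mpr ⟨mem_inf.mpr ⟨?_, ?_⟩, A.mul_mem (A.inv_mem (mem_zpowers n)) ha'⟩
      · rw [← e1]
        have e2 : (t * a' * t⁻¹)⁻¹ * a' = t * (a'⁻¹ * t⁻¹ * a') := by group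
        rw [e2]
        refine S.mul_mem htS ?_
        have := hS.conj_mem t⁻¹ (S.inv_mem htS) a'⁻¹
        simpa using this
      · exact N.mul_mem (N.inv_mem hn) (hAN ha')
    have hinf : D ⊓ A = ⊥ := (Subgroup.disjoint_of_coprime_natCard hcop.symm).eq_bot
    rw [hinf, mem_bot] at hmem
    have e3 : a' = n := by
      have h9 : n * (n⁻¹ * a') = n * 1 := by rw [hmem]
      simpa using h9
    rw [e3] at e1
    have hcm : t * n = n * t := by
      calc t * n = t * n * t⁻¹ * t := by group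
        _ = n * t := by rw [e1]
    refine eq_one_of_commute_of_coprime heq htN hn hcm ?_
    obtain ⟨k, hk⟩ := hSp ⟨t, htS⟩
    have hk' : t ^ p ^ k = 1 := by simpa using congrArg Subtype.val hk
    obtain ⟨j, -, hj⟩ := (Nat.dvd_prime_pow hp.out).mp (orderOf_dvd_of_pow_eq_one hk')
    rw [hj]
    exact Nat.Coprime.pow_left j ((Nat.Prime.coprime_iff_not_dvd hp.out).mpr hpn)
  rintro ⟨n, hn⟩
  obtain ⟨a, b, hab, -, ⟨k, hk⟩, hb, -, hbz⟩ := exists_pPart p n
  have hbN : b ∈ N := (zpowers_le.mpr hn) hbz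
  have hb1 := key b hbN hb
  refine ⟨k, ?_⟩
  apply Subtype.ext
  simp only [Subgroup.coe_pow, Subgroup.coe_one]
  rw [hab, hb1, mul_one, ← hk, pow_orderOf_eq_one]

/-- A `p`-element of `F(G)` is in `O_p(G)`. -/
theorem mem_pCore_of_mem_fitting {x : G} (hx : x ∈ fittingSubgroup G) {p k : ℕ} [hp : Fact p.Prime]
    (hk : orderOf x = p ^ k) : x ∈ pCore p G := by
  rw [Cfsg.Agent.Lib.Basic.pCore_eq_iInf_sylow]
  refine mem_iInf.mpr fun P => ?_
  have h1 := Cfsg.Agent.Lib.Struct.pow_index_mem_of_mem_fitting hx (P : Subgroup G)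
  have hcop : (orderOf x).Coprime (P : Subgroup G).index := by
    rw [hk]
    exact Nat.Coprime.pow_left _ ((Nat.Prime.coprime_iff_not_dvd hp.out).mpr P.not_dvd_index)
  obtain ⟨m, hm⟩ := exists_pow_eq_self_of_coprime hcop.symm
  rw [← hm]
  exact (P : Subgroup G).pow_mem h1 m

/-- **S4107.** -/
theorem fitting_of_eqOrder {N : Subgroup G} [hN : N.Normal] (hN1 : N ≠ ⊥)
    (heq : ∀ x : G, x ∉ N → ∀ n ∈ N, orderOf (x * n) = orderOf x) :
    (N ≤ fittingSubgroup G ∨ fittingSubgroup G ≤ N) ∧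
    (N < fittingSubgroup G → IsPrimePow (Nat.card (fittingSubgroup G))) := by
  by_cases hF : fittingSubgroup G ≤ N
  · exact ⟨Or.inr hF, fun h => absurd hF (not_le_of_gt h)⟩
  · obtain ⟨x, hxF, hxN⟩ := SetLike.not_le_iff_exists.mp hF
    obtain ⟨y, hy, hyN, p, k, hp, hk⟩ := Cfsg.Agent.Lib.Struct.exists_prime_pow_mem_zpowers_not_mem N x hxN
    haveI : Fact p.Prime := ⟨hp⟩
    have hyF : y ∈ fittingSubgroup G := (zpowers_le.mpr hxF) hy
    have hyS := mem_pCore_of_mem_fitting hyF hk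
    have hNp : IsPGroup p N := isPGroup_of_mem_normal_not_mem heq (Cfsg.Agent.Lib.Basic.pCore_normal p)
      (Cfsg.Agent.Lib.Basic.pCore_isPGroup p) hyS hyN
    have hNS : N ≤ pCore p G := Cfsg.Agent.Lib.Basic.le_pCore hN hNp
    have hNF : N ≤ fittingSubgroup G := hNS.trans (Cfsg.Agent.Lib.Basic.pCore_le_fittingSubgroup p)
    refine ⟨Or.inl hNF, fun _ => ?_⟩
    obtain ⟨n, hn, hn1⟩ := (Subgroup.ne_bot_iff_exists_ne_one.mp hN1 |>.elim fun a ha =>
      (⟨(a : G), a.2, fun h => ha (Subtype.ext h)⟩ : ∃ n ∈ N, n ≠ 1))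
    have hbot : ∀ q : Nat.Primes, (q : ℕ) ≠ p → pCore (q : ℕ) G = ⊥ := by
      intro q hq
      haveI : Fact (q : ℕ).Prime := ⟨q.2⟩
      have hqp : IsPGroup (q : ℕ) (pCore (q : ℕ) G) := Cfsg.Agent.Lib.Basic.pCore_isPGroup _
      by_contra hne
      obtain ⟨⟨c, hc⟩, hc1⟩ := Subgroup.ne_bot_iff_exists_ne_one.mp hne
      have hc1' : c ≠ 1 := fun h => hc1 (Subtype.ext h)
      have hdisj : Disjoint (pCore (q : ℕ) G) N :=
        Subgroup.disjoint_of_coprime_natCard (IsPGroup.coprime_card_of_ne (p₁ := (q : ℕ)) (p₂ := p) (H₁ := pCore (q : ℕ) G) (H₂ := N) hq hqp hNp)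
      have hcN : c ∉ N := fun h => hc1' (Subgroup.disjoint_def.mp hdisj hc h)
      have hcomm : c * n = n * c :=
        Subgroup.commute_of_normal_of_disjoint _ _ (Cfsg.Agent.Lib.Basic.pCore_normal _) hN hdisj c n hc hn
      apply hn1
      refine eq_one_of_commute_of_coprime heq hcN hn hcomm ?_
      obtain ⟨a, ha⟩ := hqp ⟨c, hc⟩
      have ha' : c ^ (q : ℕ) ^ a = 1 := by simpa using congrArg Subtype.val ha
      obtain ⟨b, hb⟩ := hNp ⟨n, hn⟩
      have hb' : n ^ p ^ b = 1 := by simpa using congrArg Subtype.val hb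
      have h1 := orderOf_dvd_of_pow_eq_one ha'
      have h2 := orderOf_dvd_of_pow_eq_one hb'
      refine Nat.Coprime.coprime_dvd_left h1 (Nat.Coprime.coprime_dvd_right h2 ?_)
      exact Nat.Coprime.pow _ _ ((Nat.coprime_primes q.2 hp).mpr hq)
    have hFS : fittingSubgroup G ≤ pCore p G := by
      rw [Cfsg.Agent.Lib.Basic.fittingSubgroup_eq_iSup_pCore]
      refine iSup_le fun q => ?_
      by_cases hq : (q : ℕ) = p
      · rw [hq]
      · rw [hbot q hq]
        exact bot_le
    have hFp : IsPGroup p (fittingSubgroup G) := (Cfsg.Agent.Lib.Basic.pCore_isPGroup p).to_le hFS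
    obtain ⟨e, he⟩ := IsPGroup.iff_card.mp hFp
    rw [he]
    have he0 : e ≠ 0 := by
      rintro rfl
      rw [pow_zero] at he
      have h1 : fittingSubgroup G = ⊥ := (Subgroup.card_eq_one).mp he
      rw [h1] at hNF
      exact hN1 (le_bot_iff.mp hNF)
    exact hp.isPrimePow.pow he0


/-- Elements of `r'`-order of a nilpotent group are in `O_{r'}`. -/
theorem mem_pPrimeCore_of_nilpotent {X : Type*} [Group X] [Finite X] [Group.IsNilpotent X] (r : ℕ)
    [hr : Fact r.Prime] {x : X} (hx : (orderOf x).Coprime r) : x ∈ pPrimeCore r X := by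
  obtain ⟨W, hWn, hWc, k, hk⟩ := Cfsg.Agent.Lib.Transfer.exists_hall_of_hasNormalPComplement
    (hasNormalPComplement_of_isNilpotent X r)
  have hWle : W ≤ pPrimeCore r X := Cfsg.Agent.Lib.Basic.le_pPrimeCore hWn hWc
  apply hWle
  have h1 := Subgroup.pow_index_mem W x
  have hc : (r ^ k).Coprime (orderOf x) := Nat.Coprime.pow_left k hx.symm
  obtain ⟨m, hm⟩ := exists_pow_eq_self_of_coprime hc
  rw [← hm, ← hk]
  exact W.pow_mem h1 m

/-- The key of the Sylow structure of `G / N`. -/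
theorem no_noncyclic_of_eqOrder {N : Subgroup G} [hN : N.Normal]
    (heq : ∀ x : G, x ∉ N → ∀ n ∈ N, orderOf (x * n) = orderOf x) (hnil : Group.IsNilpotent N)
    {q r : ℕ} [hq : Fact q.Prime] [hr : Fact r.Prime] (hqr : q ≠ r) (hrN : r ∣ Nat.card N)
    (E : Subgroup (G ⧸ N)) (hEq : IsPGroup q E) (hEc : IsMulCommutative E) (hEnc : ¬ IsCyclic E) :
    False := by
  haveI := hnil
  -- the `r`-part and the `r'`-part of `N`
  haveI : (pCore r N).Characteristic := Cfsg.Agent.Lib.Basic.pCore_characteristic r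
  haveI : (pPrimeCore r N).Characteristic := Cfsg.Agent.Lib.Basic.pPrimeCore_characteristic r
  let R : Subgroup G := (pCore r N).map N.subtype
  let K : Subgroup G := (pPrimeCore r N).map N.subtype
  haveI hRn : R.Normal := Cfsg.Agent.Lib.Coprime.PLen.normal_map_of_characteristic _
  haveI hKn : K.Normal := Cfsg.Agent.Lib.Coprime.PLen.normal_map_of_characteristic _
  have hRN : R ≤ N := by
    rintro _ ⟨x, -, rfl⟩
    exact x.2
  have hKN : K ≤ N := by
    rintro _ ⟨x, -, rfl⟩
    exact x.2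
  have hRr : IsPGroup r R := (Cfsg.Agent.Lib.Basic.pCore_isPGroup r).map _
  have hKc : (Nat.card K).Coprime r := by
    have : Nat.card K = Nat.card (pPrimeCore r N) :=
      Subgroup.card_map_of_injective N.subtype_injective
    rw [this]
    exact Cfsg.Agent.Lib.Basic.pPrimeCore_coprime r
  have hRK : R ⊓ K = ⊥ := by
    apply (Subgroup.disjoint_of_coprime_natCard ?_).eq_bot
    obtain ⟨e, he⟩ := IsPGroup.iff_card.mp hRr
    rw [he]
    exact Nat.Coprime.pow_left e hKc.symm
  have hRne : R ≠ ⊥ := by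
    obtain ⟨S⟩ : Nonempty (Sylow r N) := inferInstance
    have hSne := Sylow.ne_bot_of_dvd_card S hrN
    have hSn : (S : Subgroup N).Normal :=
      Sylow.normal_of_normalizerCondition (Group.normalizerCondition_of_isNilpotent) S
    have hSle : (S : Subgroup N) ≤ pCore r N := Cfsg.Agent.Lib.Basic.le_pCore hSn S.isPGroup'
    intro h
    apply hSne
    have h1 : (pCore r N) = ⊥ := (map_eq_bot_iff_of_injective _ N.subtype_injective).mp h
    rw [h1] at hSle
    exact le_bot_iff.mp hSle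
  -- the preimage of `E` and a Sylow `q`-subgroup of it
  let L : Subgroup G := E.comap (QuotientGroup.mk' N)
  let f : L →* E := ((QuotientGroup.mk' N).comp L.subtype).codRestrict E (fun x => x.2)
  have hf : Function.Surjective f := by
    rintro ⟨e, he⟩
    obtain ⟨g, rfl⟩ := QuotientGroup.mk'_surjective N e
    exact ⟨⟨g, he⟩, rfl⟩
  obtain ⟨T₀⟩ : Nonempty (Sylow q L) := inferInstance
  have hT₀ : (T₀ : Subgroup L).map f = ⊤ := by
    have h2 := Sylow.coe_mapSurjective hf T₀
    rw [← h2]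
    exact ((T₀.mapSurjective hf).3 (hEq.to_subgroup ⊤) le_top).symm
  let T : Subgroup G := (T₀ : Subgroup L).map L.subtype
  have hTq : IsPGroup q T := T₀.isPGroup'.map _
  -- the passage to `G / K`
  let X := G ⧸ K
  let π : G →* X := QuotientGroup.mk' K
  have hπ : Function.Surjective π := QuotientGroup.mk'_surjective K
  let φ : X →* G ⧸ N := QuotientGroup.map K N (MonoidHom.id G) (fun x hx => hKN hx)
  have hφ : ∀ g : G, φ (π g) = QuotientGroup.mk' N g := fun g => rfl
  let Tb : Subgroup X := T.map π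
  let Rb : Subgroup X := R.map π
  -- an element of `T` inside `N` is in `K`
  have hTNK : ∀ t ∈ T, t ∈ N → t ∈ K := by
    intro t htT htN
    obtain ⟨k, hk⟩ := hTq ⟨t, htT⟩
    have hk' : t ^ q ^ k = 1 := by simpa using congrArg Subtype.val hk
    have h1 := orderOf_dvd_of_pow_eq_one hk'
    have hcop : (orderOf (⟨t, htN⟩ : N)).Coprime r := by
      rw [Subgroup.orderOf_mk]
      refine Nat.Coprime.coprime_dvd_left h1 ?_
      exact Nat.Coprime.pow_left k ((Nat.coprime_primes hq.out hr.out).mpr hqr)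
    exact ⟨⟨t, htN⟩, mem_pPrimeCore_of_nilpotent r hcop, rfl⟩
  have hφinj : ∀ a ∈ Tb, ∀ b ∈ Tb, φ a = φ b → a = b := by
    rintro _ ⟨a, ha, rfl⟩ _ ⟨b, hb, rfl⟩ h
    rw [hφ, hφ] at h
    have h1 : a⁻¹ * b ∈ N := (QuotientGroup.eq).mp h
    have h2 := hTNK _ (T.mul_mem (T.inv_mem ha) hb) h1
    exact QuotientGroup.eq.mpr h2
  have hφE : Tb.map φ = E := by
    apply le_antisymm
    · rintro _ ⟨_, ⟨t, ⟨l, -, rfl⟩, rfl⟩, rfl⟩
      exact l.2
    · intro e he
      have h1 : (⟨e, he⟩ : E) ∈ (T₀ : Subgroup L).map f := by rw [hT₀]; trivial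
      obtain ⟨l, hl, hfl⟩ := h1
      refine ⟨π l, ⟨l, ⟨l, hl, rfl⟩, rfl⟩, ?_⟩
      exact congrArg Subtype.val hfl
  have hTbc : IsMulCommutative Tb := by
    refine ⟨⟨fun a b => ?_⟩⟩
    apply Subtype.ext
    apply hφinj _ (Tb.mul_mem a.2 b.2) _ (Tb.mul_mem b.2 a.2)
    simp only [map_mul]
    have ha : φ a ∈ E := hφE ▸ Subgroup.mem_map_of_mem φ a.2
    have hb : φ b ∈ E := hφE ▸ Subgroup.mem_map_of_mem φ b.2
    have := hEc.is_comm.comm (⟨φ a, ha⟩ : E) ⟨φ b, hb⟩
    exact congrArg Subtype.val this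
  have hTbnc : ¬ IsCyclic Tb := by
    intro hc
    apply hEnc
    have h1 : IsCyclic (Tb.map φ) := isCyclic_of_surjective (φ.subgroupMap Tb) (φ.subgroupMap_surjective Tb)
    rw [hφE] at h1
    exact h1
  haveI hRbn : Rb.Normal := hRn.map π hπ
  have hcop : (Nat.card Tb).Coprime (Nat.card Rb) := by
    have h1 : IsPGroup q Tb := hTq.map _
    have h2 : IsPGroup r Rb := hRr.map _
    exact IsPGroup.coprime_card_of_ne q r hqr _ _ h1 h2
  haveI := hTbc
  have hgen := Cfsg.Agent.Lib.Basic.generation_by_centralizers Tb Rb hTbnc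
    (by rw [normalizer_eq_top_iff.mpr hRbn]; exact le_top) hcop
  have hbot : Rb = ⊥ := by
    rw [← hgen]
    refine iSup₂_eq_bot.mpr ?_
    rintro a ⟨haT, ha1⟩
    rw [eq_bot_iff]
    rintro y ⟨hyR, hyC⟩
    obtain ⟨ρ, hρ, rfl⟩ := hyR
    obtain ⟨t, ht, rfl⟩ := haT
    have hyC' : π ρ ∈ centralizer ({π t} : Set X) := hyC
    rw [mem_centralizer_singleton_iff] at hyC'
    have htN : t ∉ N := fun h => ha1 (by
      have := hTNK t ht h
      exact (QuotientGroup.eq_one_iff t).mpr this)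
    have hw : ρ * t * ρ⁻¹ * t⁻¹ ∈ K := by
      have h1 : π (ρ * t * ρ⁻¹ * t⁻¹) = 1 := by
        rw [map_mul, map_mul, map_mul, map_inv, map_inv, hyC']
        group
      exact (QuotientGroup.eq_one_iff _).mp h1
    have hw' : ρ * t * ρ⁻¹ * t⁻¹ ∈ R := by
      have e : ρ * t * ρ⁻¹ * t⁻¹ = ρ * (t * ρ⁻¹ * t⁻¹) := by group
      rw [e]
      exact R.mul_mem hρ (hRn.conj_mem _ (R.inv_mem hρ) t)
    have hw1 : ρ * t * ρ⁻¹ * t⁻¹ ∈ R ⊓ K := mem_inf.mpr ⟨hw', hw⟩
    rw [hRK, mem_bot] at hw1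
    have hcm : t * ρ = ρ * t := by
      have : ρ * t * ρ⁻¹ = t := by
        calc ρ * t * ρ⁻¹ = ρ * t * ρ⁻¹ * t⁻¹ * t := by group
          _ = t := by rw [hw1, one_mul]
      calc t * ρ = (ρ * t * ρ⁻¹) * ρ := by rw [this]
        _ = ρ * t := by group
    have h3 : ρ = 1 := by
      refine eq_one_of_commute_of_coprime heq htN (hRN hρ) hcm ?_
      obtain ⟨a, ha⟩ := hTq ⟨t, ht⟩
      have ha' : t ^ q ^ a = 1 := by simpa using congrArg Subtype.val ha
      obtain ⟨b, hb⟩ := hRr ⟨ρ, hρ⟩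
      have hb' : ρ ^ r ^ b = 1 := by simpa using congrArg Subtype.val hb
      refine Nat.Coprime.coprime_dvd_left (orderOf_dvd_of_pow_eq_one ha')
        (Nat.Coprime.coprime_dvd_right (orderOf_dvd_of_pow_eq_one hb') ?_)
      exact Nat.Coprime.pow _ _ ((Nat.coprime_primes hq.out hr.out).mpr hqr)
    rw [h3, map_one]
    exact one_mem _
  apply hRne
  rw [eq_bot_iff]
  intro x hx
  have h1 : π x = 1 := by
    have : π x ∈ Rb := ⟨x, hx, rfl⟩
    rwa [hbot, mem_bot] at this
  have h2 : x ∈ K := (QuotientGroup.eq_one_iff x).mp h1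
  have h3 : x ∈ R ⊓ K := mem_inf.mpr ⟨hx, h2⟩
  rwa [hRK] at h3

/-- A `q`-group without noncyclic abelian subgroups has a unique subgroup of order `q`. -/
theorem uniqueP_of_no_noncyclic {Q : Type*} [Group Q] [Finite Q] {q : ℕ} [hq : Fact q.Prime]
    (hQ : IsPGroup q Q) (h : ∀ E : Subgroup Q, IsMulCommutative E → ¬ IsCyclic E → False) :
    Cfsg.Agent.Lib.OddLocal.UniqueP q Q := by
  intro A B hA hB
  by_contra hne
  haveI : Nontrivial Q := by
    by_contra hn
    rw [not_nontrivial_iff_subsingleton] at hn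
    have h1 : Nat.card A = 1 := by
      rw [Nat.card_eq_one_iff_unique]
      exact ⟨inferInstance, ⟨1⟩⟩
    rw [hA] at h1
    exact hq.out.one_lt.ne' h1
  haveI := hQ.center_nontrivial
  have hdvd : q ∣ Nat.card (center Q) := by
    obtain ⟨e, he⟩ := IsPGroup.iff_card.mp (hQ.to_subgroup (center Q))
    rw [he]
    have he0 : e ≠ 0 := by
      rintro rfl
      have h1 : Nat.card (center Q) = 1 := by simpa using he
      exact (Finite.one_lt_card (α := center Q)).ne' h1
    exact dvd_pow_self q he0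
  obtain ⟨z, hz⟩ := exists_prime_orderOf_dvd_card' q hdvd
  have hzcen : (z : Q) ∈ center Q := z.2
  have hoz : orderOf (z : Q) = q := by
    rw [Subgroup.orderOf_coe, hz]
  let C : Subgroup Q := zpowers (z : Q)
  have hC : Nat.card C = q := by
    rw [Nat.card_zpowers, hoz]
  have key : ∀ A' : Subgroup Q, Nat.card A' = q → A' ≠ C → False := by
    intro A' hA' hne'
    haveI : Fact (Nat.Prime (Nat.card A')) := ⟨hA' ▸ hq.out⟩
    have hA'cyc : IsCyclic A' := isCyclic_of_prime_card rfl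
    have hcomm : ∀ a ∈ A', ∀ c ∈ C, a * c = c * a := by
      intro a _ c hc
      obtain ⟨k, rfl⟩ := mem_zpowers_iff.mp hc
      have : (z : Q) ^ k ∈ center Q := (center Q).zpow_mem hzcen k
      exact (mem_center_iff.mp this) a
    let E := A' ⊔ C
    have hEc : IsMulCommutative E := by
      refine ⟨⟨fun x y => ?_⟩⟩
      apply Subtype.ext
      obtain ⟨a, ha, c, hc, hx⟩ := Cfsg.Agent.Lib.Components.exists_mul_of_mem_sup_of_commutes hcomm x.2
      obtain ⟨a', ha', c', hc', hy⟩ := Cfsg.Agent.Lib.Components.exists_mul_of_mem_sup_of_commutes hcomm y.2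
      show (x : Q) * y = y * x
      rw [hx, hy]
      have h1 : a * a' = a' * a := by
        letI := hA'cyc.commGroup
        exact congrArg Subtype.val (mul_comm (⟨a, ha⟩ : A') ⟨a', ha'⟩)
      have h2 : ∀ c₀ ∈ C, ∀ u : Q, c₀ * u = u * c₀ := by
        intro c₀ hc₀ u
        obtain ⟨k, rfl⟩ := mem_zpowers_iff.mp hc₀
        have : (z : Q) ^ k ∈ center Q := (center Q).zpow_mem hzcen k
        exact ((mem_center_iff.mp this) u).symm
      have h3 := h2 c hc
      have h4 := h2 c' hc'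
      calc a * c * (a' * c') = a * (c * a') * c' := by group
        _ = a * (a' * c) * c' := by rw [h3]
        _ = a * a' * (c * c') := by group
        _ = a' * a * (c * c') := by rw [h1]
        _ = a' * (a * c') * c := by
            rw [h2 c hc c']; group
        _ = a' * (c' * a) * c := by rw [h4]
        _ = a' * c' * (a * c) := by group
    apply h E hEc
    intro hcyc
    have hle := Cfsg.Agent.Lib.OddLocal.le_total_of_isCyclic_isPGroup (hQ.to_subgroup E)
      (A'.subgroupOf E) (C.subgroupOf E)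
    have hA'E : A' ≤ E := le_sup_left
    have hCE : C ≤ E := le_sup_right
    apply hne'
    have hcard : Nat.card A' = Nat.card C := by rw [hA', hC]
    rcases hle with hle | hle
    · have h1 : A' ≤ C := by
        intro x hx
        have : (⟨x, hA'E hx⟩ : E) ∈ A'.subgroupOf E := mem_subgroupOf.mpr hx
        exact mem_subgroupOf.mp (hle this)
      exact Subgroup.eq_of_le_of_card_ge h1 hcard.ge
    · have h1 : C ≤ A' := by
        intro x hx
        have : (⟨x, hCE hx⟩ : E) ∈ C.subgroupOf E := mem_subgroupOf.mpr hx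
        exact mem_subgroupOf.mp (hle this)
      exact (Subgroup.eq_of_le_of_card_ge h1 hcard.le).symm
  by_cases hAC : A = C
  · exact key B hB (fun hBC => hne (hAC.trans hBC.symm))
  · exact key A hA hAC

/-- **S4155.** -/
theorem equal_order_nilpotent {N : Subgroup G} [hN : N.Normal] (hN1 : N ≠ ⊥)
    (heq : ∀ x : G, x ∉ N → ∀ n ∈ N, orderOf (x * n) = orderOf x)
    (hnil : Group.IsNilpotent N) (hnpp : ¬ IsPrimePow (Nat.card N)) :
    N = fittingSubgroup G ∧
    ∀ (q : ℕ) [Fact q.Prime] (Q : Sylow q (G ⧸ N)), IsCyclic (Q : Subgroup (G ⧸ N)) ∨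
      ∃ n : ℕ, Nonempty ((Q : Subgroup (G ⧸ N)) ≃* QuaternionGroup (2 ^ n)) := by
  have hNF : N ≤ fittingSubgroup G := Cfsg.Agent.Lib.Basic.le_fittingSubgroup_of_nilpotent hN hnil
  constructor
  · by_contra hne
    have hlt : N < fittingSubgroup G := lt_of_le_of_ne hNF hne
    have hpp := (fitting_of_eqOrder hN1 heq).2 hlt
    obtain ⟨p, k, hp, hk, he⟩ := hpp
    have hp' : p.Prime := hp.nat_prime
    have h1 : Nat.card N ∣ p ^ k := he ▸ Subgroup.card_dvd_of_le hNF
    obtain ⟨j, -, hj⟩ := (Nat.dvd_prime_pow hp').mp h1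
    apply hnpp
    rw [hj]
    have hj0 : j ≠ 0 := by
      rintro rfl
      rw [pow_zero] at hj
      exact hN1 (Subgroup.card_eq_one.mp hj)
    exact hp'.isPrimePow.pow hj0
  · intro q _ Q
    have hexr : ∃ r : ℕ, r.Prime ∧ r ≠ q ∧ r ∣ Nat.card N := by
      by_contra hcon
      push Not at hcon
      have h0 : Nat.card N ≠ 0 := Nat.card_pos.ne'
      have hall : ∀ {d : ℕ}, d.Prime → d ∣ Nat.card N → d = q := by
        intro d hd hdN
        by_contra hdq
        exact hcon d hd hdq hdN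
      have h2 := Nat.eq_prime_pow_of_unique_prime_dvd h0 hall
      apply hnpp
      rw [h2]
      have hl : (Nat.card N).primeFactorsList.length ≠ 0 := by
        intro h3
        rw [h3, pow_zero] at h2
        exact hN1 (Subgroup.card_eq_one.mp h2)
      exact (Fact.out : q.Prime).isPrimePow.pow hl
    obtain ⟨r, hr, hrq, hrN⟩ := hexr
    haveI : Fact r.Prime := ⟨hr⟩
    have hno : ∀ E : Subgroup (Q : Subgroup (G ⧸ N)), IsMulCommutative E → ¬ IsCyclic E → False := by
      intro E hEc hEnc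
      have e1 : (E.map (Q : Subgroup (G ⧸ N)).subtype) ≃* E :=
        (E.equivMapOfInjective _ (Q : Subgroup (G ⧸ N)).subtype_injective).symm
      refine no_noncyclic_of_eqOrder heq hnil hrq.symm hrN (E.map (Q : Subgroup (G ⧸ N)).subtype) ?_ ?_ ?_
      · exact (Q.isPGroup'.to_subgroup E).map _
      · refine ⟨⟨fun a b => ?_⟩⟩
        apply e1.injective
        rw [map_mul, map_mul]
        exact hEc.is_comm.comm _ _
      · intro hc
        exact hEnc (isCyclic_of_surjective e1.toMonoidHom e1.surjective)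
    have hU := uniqueP_of_no_noncyclic Q.isPGroup' hno
    by_cases hq2 : q = 2
    · subst hq2
      exact Cfsg.Agent.Lib.OddLocal.cyclic_or_quaternion Q.isPGroup' hU
    · exact Or.inl (Cfsg.Agent.Lib.OddLocal.isCyclic_of_uniqueP_odd hq2 _ _ rfl Q.isPGroup' hU)

end Cfsg.Agent.Lib.PGroups
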