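import Mathlib
import Cfsg.Agent.Lib.Struct.Basic
import Cfsg.Agent.Lib.PGroups.Parts

/-! Frobenius' theorem: `m ∣ |G|` implies `m ∣ #{x | x ^ m = 1}`. -/

set_option autoImplicit false

namespace Cfsg.Agent.Lib.PGroups

open Subgroup Finset

/-- the number of solutions of `x ^ m = 1`. -/
noncomputable def sol (G : Type*) [Group G] (m : ℕ) : ℕ := Nat.card {x : G // x ^ m = 1}

variable {G : Type*} [Group G]

/-- the number of solutions of `v ^ m = 1` commuting with `u`. -/
noncomputable def cnt (m : ℕ) (u : G) : ℕ := Nat.card {v : G // v ^ m = 1 ∧ Commute u v}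

theorem pow_eq_of_modEq {x : G} {s a b : ℕ} (hx : x ^ s = 1) (h : a ≡ b [MOD s]) : x ^ a = x ^ b :=
  pow_eq_pow_iff_modEq.mpr (h.of_dvd (orderOf_dvd_of_pow_eq_one hx))

theorem cnt_eq_sol (m : ℕ) (u : G) : cnt m u = sol (centralizer ({u} : Set G)) m := by
  unfold cnt sol
  apply Nat.card_congr
  refine ⟨fun v => ⟨⟨v.1, ?_⟩, ?_⟩, fun w => ⟨w.1.1, ?_, ?_⟩, ?_, ?_⟩
  · exact mem_centralizer_singleton_iff.mpr v.2.2.symm.eq
  · apply Subtype.ext
    simpa using v.2.1
  · have := congrArg Subtype.val w.2
    simpa using this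
  · exact (mem_centralizer_singleton_iff.mp w.1.2).symm
  · intro v; rfl
  · intro w; rfl

theorem cnt_conj (m : ℕ) (g u : G) : cnt m (g * u * g⁻¹) = cnt m u := by
  unfold cnt
  apply Nat.card_congr
  refine Equiv.subtypeEquiv (MulAut.conj g⁻¹).toEquiv ?_
  intro v
  have h1 : ((MulAut.conj g⁻¹).toEquiv v) ^ m = (MulAut.conj g⁻¹) (v ^ m) := by
    simp [map_pow]
  rw [h1, map_eq_one_iff _ (MulAut.conj g⁻¹).injective]
  apply and_congr_right
  intro _
  simp only [Commute, SemiconjBy, MulEquiv.toEquiv_eq_coe, EquivLike.coe_coe, MulAut.conj_apply, inv_inv]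
  constructor
  · intro h
    have := congrArg (fun x => g⁻¹ * x * g) h
    simp only [mul_assoc, inv_mul_cancel_left, mul_inv_cancel_left, inv_mul_cancel, mul_inv_cancel, mul_one] at this ⊢
    exact this
  · intro h
    have := congrArg (fun x => g * x * g⁻¹) h
    simp only [mul_assoc, inv_mul_cancel_left, mul_inv_cancel_left, inv_mul_cancel, mul_inv_cancel, mul_one] at this ⊢
    exact this

theorem cnt_of_mem_center (m : ℕ) {u : G} (hu : u ∈ center G) : cnt m u = sol G m := by
  unfold cnt sol
  apply Nat.card_congr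
  refine Equiv.subtypeEquivRight ?_
  intro v
  constructor
  · exact fun h => h.1
  · exact fun h => ⟨h, (mem_center_iff.mp hu v).symm⟩

theorem cnt_eq_of_zpowers (m : ℕ) (u : G) :
    cnt m u = Nat.card {v : G // v ^ m = 1 ∧ v ∈ centralizer ((zpowers u : Subgroup G) : Set G)} := by
  unfold cnt
  apply Nat.card_congr
  refine Equiv.subtypeEquivRight ?_
  intro v
  apply and_congr_right
  intro _
  rw [mem_centralizer_iff]
  constructor
  · rintro h _ ⟨k, rfl⟩
    exact ((h.zpow_left k)).eq
  · intro h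
    exact h u (mem_zpowers u)

open Classical in
theorem sol_mul_eq_sum [Fintype G] {s t : ℕ} (hc : s.Coprime t) :
    sol G (s * t) = ∑ u ∈ univ.filter (fun u : G => u ^ s = 1), cnt t u := by
  obtain ⟨α, hα1, hα2⟩ : ∃ α : ℕ, α ≡ 1 [MOD s] ∧ α ≡ 0 [MOD t] :=
    ⟨Nat.chineseRemainder hc 1 0, (Nat.chineseRemainder hc 1 0).2⟩
  obtain ⟨β, hβ1, hβ2⟩ : ∃ β : ℕ, β ≡ 0 [MOD s] ∧ β ≡ 1 [MOD t] :=
    ⟨Nat.chineseRemainder hc 0 1, (Nat.chineseRemainder hc 0 1).2⟩
  have hsum : α + β ≡ 1 [MOD s * t] :=
    (Nat.modEq_and_modEq_iff_modEq_mul hc).mp ⟨hα1.add hβ1, hα2.add hβ2⟩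
  have hsol : sol G (s * t) = (univ.filter fun x : G => x ^ (s * t) = 1).card :=
    Nat.subtype_card _ (by simp)
  rw [hsol, Finset.card_eq_sum_card_fiberwise (f := fun x : G => x ^ α)
    (t := univ.filter fun u : G => u ^ s = 1)]
  · apply Finset.sum_congr rfl
    intro u hu
    have hus : u ^ s = 1 := (Finset.mem_filter.mp hu).2
    have hcnt : cnt t u = (univ.filter fun v : G => v ^ t = 1 ∧ Commute u v).card :=
      Nat.subtype_card _ (by simp)
    rw [hcnt]
    apply Finset.card_bij' (fun x _ => x ^ β) (fun v _ => u * v)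
    · intro x hx
      simp only [Finset.mem_filter, Finset.mem_univ, true_and] at hx ⊢
      obtain ⟨hx1, hx2⟩ := hx
      constructor
      · rw [← pow_mul]
        have hdvd : s ∣ β := (Nat.modEq_zero_iff_dvd).mp hβ1
        obtain ⟨c, hc'⟩ := hdvd
        rw [hc', show s * c * t = s * t * c by ring, pow_mul, hx1, one_pow]
      · rw [← hx2]
        exact Commute.pow_pow_self x α β
    · intro v hv
      simp only [Finset.mem_filter, Finset.mem_univ, true_and] at hv ⊢
      obtain ⟨hv1, hv2⟩ := hv
      constructor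
      · rw [hv2.mul_pow, pow_mul, hus, one_pow, one_mul, mul_comm, pow_mul, hv1, one_pow]
      · rw [hv2.mul_pow, pow_eq_of_modEq hus hα1, pow_one, pow_eq_of_modEq hv1 hα2, pow_zero, mul_one]
    · intro x hx
      simp only [Finset.mem_filter, Finset.mem_univ, true_and] at hx
      obtain ⟨hx1, hx2⟩ := hx
      rw [← hx2, ← pow_add, pow_eq_of_modEq hx1 hsum, pow_one]
    · intro v hv
      simp only [Finset.mem_filter, Finset.mem_univ, true_and] at hv
      obtain ⟨hv1, hv2⟩ := hv
      rw [hv2.mul_pow, pow_eq_of_modEq hus hβ1, pow_zero, one_mul, pow_eq_of_modEq hv1 hβ2, pow_one]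
  · intro x hx
    have hx1 : x ^ (s * t) = 1 := by simpa using hx
    simp only [Finset.coe_filter, Finset.mem_univ, true_and, Set.mem_ofPred_eq]
    rw [← pow_mul]
    have hdvd : t ∣ α := (Nat.modEq_zero_iff_dvd).mp hα2
    obtain ⟨c, hc'⟩ := hdvd
    rw [hc', show t * c * s = s * t * c by ring, pow_mul, hx1, one_pow]

open Classical in
theorem dvd_sum_of_conj_invariant [Fintype G] (X : Finset G)
    (hX : ∀ g u, u ∈ X → g * u * g⁻¹ ∈ X) (F : G → ℕ) (hF : ∀ g u, F (g * u * g⁻¹) = F u)
    (d : ℕ) (h : ∀ u ∈ X, d ∣ (centralizer ({u} : Set G)).index * F u) :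
    d ∣ ∑ u ∈ X, F u := by
  haveI : Fintype (ConjClasses G) := Fintype.ofFinite _
  rw [← Finset.sum_fiberwise X ConjClasses.mk F]
  apply Finset.dvd_sum
  intro c _
  by_cases hne : (X.filter (fun u => ConjClasses.mk u = c)).Nonempty
  · obtain ⟨u₀, hu₀⟩ := hne
    obtain ⟨hu₀X, rfl⟩ := Finset.mem_filter.mp hu₀
    have hF' : ∀ y ∈ X.filter (fun u => ConjClasses.mk u = ConjClasses.mk u₀), F y = F u₀ := by
      intro y hy
      have hy' := (Finset.mem_filter.mp hy).2
      rw [ConjClasses.mk_eq_mk_iff_isConj, isConj_iff] at hy'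
      obtain ⟨c, hc⟩ := hy'
      rw [← hc, hF]
    rw [Finset.sum_congr rfl hF', Finset.sum_const, smul_eq_mul]
    have hcard : (X.filter (fun u => ConjClasses.mk u = ConjClasses.mk u₀)).card =
        (centralizer ({u₀} : Set G)).index := by
      have h2 : Nat.card {y : G // IsConj u₀ y} = (centralizer ({u₀} : Set G)).index :=
        Cfsg.Agent.Lib.Struct.card_isConj_eq_index u₀
      rw [← h2]
      symm
      apply Nat.subtype_card
      intro y
      rw [Finset.mem_filter, ConjClasses.mk_eq_mk_iff_isConj]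
      constructor
      · rintro ⟨_, hy⟩
        exact hy.symm
      · intro hy
        refine ⟨?_, hy.symm⟩
        obtain ⟨c, hc⟩ := isConj_iff.mp hy
        rw [← hc]
        exact hX c u₀ hu₀X
    rw [hcard]
    exact h u₀ hu₀X
  · rw [Finset.not_nonempty_iff_eq_empty] at hne
    rw [hne]
    simp

open Classical in
theorem dvd_sum_of_generators [Fintype G] {p k : ℕ} (hp : p.Prime) (hk : k ≠ 0)
    (F : Subgroup G → ℕ) :
    p ^ (k - 1) ∣ ∑ u ∈ univ.filter (fun u : G => orderOf u = p ^ k), F (zpowers u) := by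
  rw [Finset.sum_comp F (fun u : G => (zpowers u : Subgroup G))]
  apply Finset.dvd_sum
  intro U hU
  obtain ⟨u₀, hu₀, rfl⟩ := Finset.mem_image.mp hU
  have hu₀' : orderOf u₀ = p ^ k := (Finset.mem_filter.mp hu₀).2
  haveI : Fintype (zpowers u₀) := Fintype.ofFinite _
  have hcardU : Fintype.card (zpowers u₀) = p ^ k := by
    rw [← Nat.card_eq_fintype_card, Nat.card_zpowers, hu₀']
  have htot := IsCyclic.card_orderOf_eq_totient (α := zpowers u₀) (d := p ^ k) (by rw [hcardU])
  have hc : ((Finset.univ.filter (fun u : G => orderOf u = p ^ k)).filter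
      (fun a => (zpowers a : Subgroup G) = zpowers u₀)).card = (p ^ k).totient := by
    rw [← htot]
    symm
    apply Finset.card_bij (fun (a : zpowers u₀) _ => (a : G))
    · intro a ha
      have ha' : orderOf a = p ^ k := (Finset.mem_filter.mp ha).2
      have ha'' : orderOf (a : G) = p ^ k := by rw [← ha']; exact (Subgroup.orderOf_coe a)
      refine Finset.mem_filter.mpr ⟨Finset.mem_filter.mpr ⟨Finset.mem_univ _, ha''⟩, ?_⟩
      apply Subgroup.eq_of_le_of_card_ge
      · rw [Subgroup.zpowers_le]; exact a.2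
      · rw [Nat.card_zpowers, Nat.card_zpowers, ha'', hu₀']
    · intro a _ b _ hab
      exact Subtype.ext hab
    · intro b hb
      obtain ⟨hb1, hb2⟩ := Finset.mem_filter.mp hb
      have hb1' : orderOf b = p ^ k := (Finset.mem_filter.mp hb1).2
      have hbm : b ∈ zpowers u₀ := by rw [← hb2]; exact mem_zpowers b
      refine ⟨⟨b, hbm⟩, Finset.mem_filter.mpr ⟨Finset.mem_univ _, ?_⟩, rfl⟩
      rw [← hb1']
      exact Subgroup.orderOf_mk b hbm
  rw [smul_eq_mul]
  apply Dvd.dvd.mul_right
  rw [hc, Nat.totient_prime_pow hp (Nat.pos_of_ne_zero hk)]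
  exact Dvd.intro _ rfl

/-- `m ∣ a * b → m ∣ a * gcd m b`. -/
theorem dvd_mul_gcd_of_dvd_mul {m a b : ℕ} (h : m ∣ a * b) : m ∣ a * Nat.gcd m b := by
  rw [← Nat.gcd_mul_left]
  exact Nat.dvd_gcd (Dvd.intro_left a rfl) h

theorem sol_eq_sol_gcd (H : Type*) [Group H] [Finite H] (m : ℕ) :
    sol H m = sol H (Nat.gcd m (Nat.card H)) := by
  unfold sol
  apply Nat.card_congr
  refine Equiv.subtypeEquivRight ?_
  intro x
  constructor
  · intro h
    exact pow_gcd_eq_one.mpr ⟨h, pow_card_eq_one'⟩
  · intro h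
    obtain ⟨c, hc⟩ := Nat.gcd_dvd_left m (Nat.card H)
    rw [hc, pow_mul, h, one_pow]

/-- The key step of the proof of Frobenius' theorem. -/
theorem frobenius_step [Finite G]
    (hG : ∀ H : Subgroup G, H ≠ ⊤ → ∀ m : ℕ, Nat.gcd m (Nat.card H) ∣ sol H m)
    {p : ℕ} [hpf : Fact p.Prime] {m : ℕ} (hcop : p.Coprime m) (hm : m ∣ Nat.card G) (e : ℕ)
    (htop : p ^ e * m ∣ sol G (p ^ e * m)) : ∀ k ≤ e, p ^ k * m ∣ sol G (p ^ k * m) := by
  classical
  haveI := Fintype.ofFinite G
  have hp : p.Prime := hpf.out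
  have hcop' : ∀ k, (p ^ k).Coprime m := fun k => Nat.Coprime.pow_left k hcop
  -- non-central elements
  have hnc : ∀ u : G, u ∉ center G → m ∣ (centralizer ({u} : Set G)).index * cnt m u := by
    intro u hu
    have hne : centralizer ({u} : Set G) ≠ ⊤ := by
      intro h
      apply hu
      rw [mem_center_iff]
      intro g
      have : g ∈ centralizer ({u} : Set G) := by rw [h]; trivial
      exact mem_centralizer_singleton_iff.mp this
    have h1 := hG _ hne m
    rw [cnt_eq_sol]
    have h2 : m ∣ (centralizer ({u} : Set G)).index * Nat.card (centralizer ({u} : Set G)) := by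
      rw [Subgroup.index_mul_card]; exact hm
    exact (dvd_mul_gcd_of_dvd_mul h2).trans (Nat.mul_dvd_mul_left _ h1)
  have hconjord : ∀ (s : ℕ) (g u : G), u ^ s = 1 → (g * u * g⁻¹) ^ s = 1 := by
    intro s g u hu
    rw [conj_pow, hu]; simp
  have hconjcenter : ∀ g u : G, g * u * g⁻¹ ∈ center G ↔ u ∈ center G := by
    intro g u
    constructor
    · intro h
      have e : g * u * g⁻¹ = u := by
        have hw := mem_center_iff.mp h g
        have : g * (g * u * g⁻¹) = g * u := by rw [hw]; group
        exact mul_left_cancel this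
      rwa [e] at h
    · intro h
      have e : g * u * g⁻¹ = u := by rw [mem_center_iff.mp h g]; group
      rwa [e]
  -- C1
  have hC1 : m ∣ sol G m := by
    have h1 : m ∣ sol G (p ^ e * m) := (Dvd.intro_left _ rfl).trans htop
    rw [sol_mul_eq_sum (hcop' e), ← Finset.sum_filter_add_sum_filter_not _ (fun u => u ∈ center G)] at h1
    have h2 : m ∣ ∑ u ∈ (univ.filter (fun u : G => u ^ p ^ e = 1)).filter (fun u => ¬ u ∈ center G), cnt m u := by
      apply dvd_sum_of_conj_invariant
      · intro g u hu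
        simp only [Finset.mem_filter, Finset.mem_univ, true_and] at hu ⊢
        exact ⟨hconjord _ g u hu.1, fun h => hu.2 ((hconjcenter g u).mp h)⟩
      · exact cnt_conj m
      · intro u hu
        exact hnc u (Finset.mem_filter.mp hu).2
    have h3 := (Nat.dvd_add_left h2).mp h1
    have h4 : ∑ u ∈ (univ.filter (fun u : G => u ^ p ^ e = 1)).filter (fun u => u ∈ center G), cnt m u =
        ((univ.filter (fun u : G => u ^ p ^ e = 1)).filter (fun u => u ∈ center G)).card * sol G m := by
      rw [Finset.sum_congr rfl (fun u hu => cnt_of_mem_center m (Finset.mem_filter.mp hu).2),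
        Finset.sum_const, smul_eq_mul]
    rw [h4] at h3
    -- the central part is a `p`-group
    let Ω : Subgroup G :=
      { carrier := {z | z ^ p ^ e = 1 ∧ z ∈ center G}
        mul_mem' := by
          rintro a b ⟨ha, ha2⟩ ⟨hb, hb2⟩
          refine ⟨?_, mul_mem ha2 hb2⟩
          have hcm : Commute a b := (mem_center_iff.mp ha2 b).symm
          rw [hcm.mul_pow, ha, hb, one_mul]
        one_mem' := ⟨one_pow _, one_mem _⟩
        inv_mem' := by
          rintro a ⟨ha, ha2⟩
          exact ⟨by rw [inv_pow, ha, inv_one], inv_mem ha2⟩ }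
    have hΩ : IsPGroup p Ω := by
      intro x
      refine ⟨e, ?_⟩
      apply Subtype.ext
      exact x.2.1
    obtain ⟨j, hj⟩ := IsPGroup.iff_card.mp hΩ
    have hcardΩ : ((univ.filter (fun u : G => u ^ p ^ e = 1)).filter (fun u => u ∈ center G)).card = p ^ j := by
      rw [← hj]
      symm
      apply Nat.subtype_card
      intro z
      simp only [Finset.mem_filter, Finset.mem_univ, true_and]
      rfl
    rw [hcardΩ] at h3
    exact (Nat.Coprime.dvd_of_dvd_mul_left (hcop' j).symm h3)
  -- descent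
  have hstep : ∀ k, k ≠ 0 → p ^ k * m ∣ sol G (p ^ k * m) → p ^ (k - 1) * m ∣ sol G (p ^ (k - 1) * m) := by
    intro k hk hdiv
    have hsplit : sol G (p ^ k * m) = sol G (p ^ (k - 1) * m) +
        ∑ u ∈ univ.filter (fun u : G => orderOf u = p ^ k), cnt m u := by
      rw [sol_mul_eq_sum (hcop' k), sol_mul_eq_sum (hcop' (k - 1)), ← Finset.sum_union]
      · apply Finset.sum_congr _ (fun _ _ => rfl)
        ext u
        simp only [Finset.mem_filter, Finset.mem_univ, true_and, Finset.mem_union]
        constructor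
        · intro hu
          obtain ⟨j, hj, hj2⟩ := (Nat.dvd_prime_pow hp).mp (orderOf_dvd_of_pow_eq_one hu)
          by_cases hjk : j = k
          · right; rw [hj2, hjk]
          · left
            have : j ≤ k - 1 := by omega
            rw [← orderOf_dvd_iff_pow_eq_one, hj2]
            exact pow_dvd_pow p this
        · rintro (hu | hu)
          · rw [← orderOf_dvd_iff_pow_eq_one] at hu ⊢
            exact hu.trans (pow_dvd_pow p (by omega))
          · rw [← hu]; exact pow_orderOf_eq_one u
      · rw [Finset.disjoint_left]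
        intro u hu1 hu2
        have h1 := (Finset.mem_filter.mp hu1).2
        have h2 := (Finset.mem_filter.mp hu2).2
        have h3 := orderOf_dvd_of_pow_eq_one h1
        rw [h2] at h3
        have := (Nat.pow_dvd_pow_iff_le_right hp.one_lt).mp h3
        omega
    have hT1 : p ^ (k - 1) ∣ ∑ u ∈ univ.filter (fun u : G => orderOf u = p ^ k), cnt m u := by
      have := dvd_sum_of_generators (G := G) hp hk
        (fun U => Nat.card {v : G // v ^ m = 1 ∧ v ∈ centralizer ((U : Subgroup G) : Set G)})
      simp only [← cnt_eq_of_zpowers] at this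
      exact this
    have hT2 : m ∣ ∑ u ∈ univ.filter (fun u : G => orderOf u = p ^ k), cnt m u := by
      apply dvd_sum_of_conj_invariant
      · intro g u hu
        simp only [Finset.mem_filter, Finset.mem_univ, true_and] at hu ⊢
        rw [orderOf_conj_eq, hu]
      · exact cnt_conj m
      · intro u _
        by_cases hu : u ∈ center G
        · rw [cnt_of_mem_center m hu]
          exact hC1.trans (Dvd.intro_left _ rfl)
        · exact hnc u hu
    have hT : p ^ (k - 1) * m ∣ ∑ u ∈ univ.filter (fun u : G => orderOf u = p ^ k), cnt m u :=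
      Nat.Coprime.mul_dvd_of_dvd_of_dvd (hcop' (k - 1)) hT1 hT2
    have hd : p ^ (k - 1) * m ∣ sol G (p ^ k * m) :=
      (Nat.mul_dvd_mul_right (pow_dvd_pow p (Nat.sub_le k 1)) m).trans hdiv
    rw [hsplit] at hd
    exact (Nat.dvd_add_left hT).mp hd
  intro k hk
  have hdesc : ∀ d, d ≤ e → p ^ (e - d) * m ∣ sol G (p ^ (e - d) * m) := by
    intro d
    induction d with
    | zero => intro _; simpa using htop
    | succ d ih =>
      intro hd
      have h1 := hstep (e - d) (by omega) (ih (by omega))
      have h2 : e - d - 1 = e - (d + 1) := by omega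
      rwa [h2] at h1
  have h := hdesc (e - k) (by omega)
  rwa [show e - (e - k) = k by omega] at h

universe u

/-- Frobenius' theorem, in the form proved by induction. -/
theorem frobenius_aux : ∀ (N : ℕ) (G : Type u) [Group G] [Finite G], Nat.card G = N →
    ∀ n : ℕ, n ∣ N → n ∣ sol G n := by
  intro N
  induction N using Nat.strong_induction_on with
  | _ N IH =>
  intro G _ _ hN
  classical
  have hNpos : 0 < N := by rw [← hN]; exact Nat.card_pos
  have hG : ∀ H : Subgroup G, H ≠ ⊤ → ∀ m : ℕ, Nat.gcd m (Nat.card H) ∣ sol H m := by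
    intro H hH m
    rw [sol_eq_sol_gcd H m]
    have hlt : Nat.card H < N := by
      rw [← hN]
      have hlt2 : H < ⊤ := lt_top_iff_ne_top.mpr hH
      have h1 : Nat.card H < Nat.card (⊤ : Subgroup G) := by
        have := Set.ncard_lt_ncard (SetLike.coe_ssubset_coe.mpr hlt2) (Set.toFinite _)
        rwa [← Nat.card_coe_set_eq, ← Nat.card_coe_set_eq] at this
      rwa [Subgroup.card_top] at h1
    exact IH _ hlt H rfl _ (Nat.gcd_dvd_right _ _)
  -- downward induction
  have hdown : ∀ d n : ℕ, N - n = d → n ∣ N → n ∣ sol G n := by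
    intro d
    induction d using Nat.strong_induction_on with
    | _ d IHd =>
    intro n hd hn
    have hn0 : n ≠ 0 := by
      rintro rfl
      simp at hn
      omega
    by_cases hnN : n = N
    · subst hnN
      have : sol G n = n := by
        unfold sol
        rw [← hN]
        conv_rhs => rw [← Nat.card_congr (Equiv.subtypeUnivEquiv (p := fun x : G => x ^ Nat.card G = 1)
          (fun x => pow_card_eq_one'))]
      rw [this]
    · obtain ⟨c, hc⟩ := hn
      have hc1 : c ≠ 1 := by
        rintro rfl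
        apply hnN
        omega
      obtain ⟨p, hp, hpc⟩ := Nat.exists_prime_and_dvd hc1
      haveI hpf : Fact p.Prime := ⟨hp⟩
      obtain ⟨a, m, hpm, hnm⟩ := Nat.exists_eq_pow_mul_and_not_dvd hn0 p hp.ne_one
      have hcop : p.Coprime m := (Nat.Prime.coprime_iff_not_dvd hp).mpr hpm
      obtain ⟨e, w, hpw, hNw⟩ := Nat.exists_eq_pow_mul_and_not_dvd hNpos.ne' p hp.ne_one
      have hae : a + 1 ≤ e := by
        obtain ⟨c', rfl⟩ := hpc
        have h1 : p ^ (a + 1) ∣ N := by
          rw [hc, hnm, pow_succ]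
          exact ⟨m * c', by ring⟩
        rw [hNw] at h1
        have hcw : (p ^ (a + 1)).Coprime w :=
          Nat.Coprime.pow_left _ ((Nat.Prime.coprime_iff_not_dvd hp).mpr hpw)
        exact (Nat.pow_dvd_pow_iff_le_right hp.one_lt).mp (hcw.dvd_of_dvd_mul_right h1)
      have hmw : m ∣ w := by
        have h1 : m ∣ N := by rw [hc, hnm]; exact ⟨p ^ a * c, by ring⟩
        rw [hNw] at h1
        exact (Nat.Coprime.pow_right e hcop.symm).dvd_of_dvd_mul_left h1
      have hmG : m ∣ Nat.card G := by rw [hN, hNw]; exact hmw.trans (Dvd.intro_left _ rfl)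
      have hdvdN : p ^ e * m ∣ N := by rw [hNw]; exact Nat.mul_dvd_mul_left _ hmw
      have hlt : n < p ^ e * m := by
        rw [hnm]
        apply Nat.mul_lt_mul_of_pos_right
        · exact Nat.pow_lt_pow_right hp.one_lt (by omega)
        · exact Nat.pos_of_ne_zero (by rintro rfl; simp at hnm; exact hn0 hnm)
      have hleN : p ^ e * m ≤ N := Nat.le_of_dvd hNpos hdvdN
      have hnN' : n ≤ N := by omega
      have htop := IHd (N - p ^ e * m) (by omega) (p ^ e * m) rfl hdvdN
      rw [hnm]
      exact frobenius_step hG hcop hmG e htop a (by omega)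
  intro n hn
  exact hdown _ n rfl hn

/-- Frobenius' theorem. -/
theorem frobenius {G : Type u} [Group G] [Finite G] {m : ℕ} (hm : m ∣ Nat.card G) :
    m ∣ Nat.card {g : G // g ^ m = 1} :=
  frobenius_aux _ G rfl m hm

end Cfsg.Agent.Lib.PGroups
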