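import Cfsg.Agent.Lib.PGroups.KulHom
import Cfsg.Agent.Lib.Transfer.MaxClass2
import Cfsg.Agent.Lib.Fusion2.MetaAut
import Cfsg.Agent.S0645
import Cfsg.Agent.S0646

/-!
Counting cyclic maximal subgroups of `p`-groups with a cyclic maximal subgroup.
-/

set_option autoImplicit false
set_option linter.style.haveILetI false

namespace Cfsg.Agent.Lib.PGroups.Kul

open Subgroup Finset
open scoped commutatorElement

universe u

variable {X : Type u} [Group X] [Finite X]

/-- A relation `b a b⁻¹ = a^e`, `e ≡ 3 mod 4`, forces maximal class. -/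
theorem class_of_inverting {k : ℕ} (hk : 3 ≤ k) (hX : Nat.card X = 2 ^ k) (a b : X)
    (ha : orderOf a = 2 ^ (k - 1)) (e : ℤ) (he : e % 4 = 3) (hrel : b * a * b⁻¹ = a ^ e) :
    Group.nilpotencyClass X = k - 1 := by
  haveI : Fact (Nat.Prime 2) := ⟨Nat.prime_two⟩
  have hP : IsPGroup 2 X := IsPGroup.of_card hX
  have hy : a ^ (e - 1) ∈ commutator X := by
    have h1 : a ^ (e - 1) = ⁅b, a⁆ := by
      rw [commutatorElement_def, hrel, zpow_sub, zpow_one]
    rw [h1, _root_.commutator_def]
    exact Subgroup.commutator_mem_commutator (mem_top _) (mem_top _)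
  obtain ⟨t, rfl⟩ : ∃ t : ℤ, e = 4 * t + 3 := ⟨e / 4, by omega⟩
  have hcop : IsCoprime (2 * t + 1) ((2 : ℤ) ^ (k - 2)) := by
    apply IsCoprime.pow_right
    exact ⟨1, -t, by ring⟩
  obtain ⟨u, v, huv⟩ := hcop
  have hone : a ^ ((2 : ℤ) ^ (k - 1)) = 1 := by
    have h2 := pow_orderOf_eq_one a
    rw [ha] at h2
    rw [← h2, ← zpow_natCast]
    push_cast
    rfl
  have h2pow : (2 : ℤ) * 2 ^ (k - 2) = 2 ^ (k - 1) := by
    rw [← pow_succ']
    congr 1
    omega
  have hsq : a ^ (2 : ℤ) = (a ^ (4 * t + 3 - 1)) ^ u := by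
    have h3 : (2 : ℤ) = (4 * t + 3 - 1) * u + 2 ^ (k - 1) * v := by
      rw [← h2pow]
      linear_combination (-2 : ℤ) * huv
    calc a ^ (2 : ℤ) = a ^ ((4 * t + 3 - 1) * u + 2 ^ (k - 1) * v) := by rw [← h3]
      _ = _ := by rw [zpow_add, zpow_mul, zpow_mul a ((2 : ℤ) ^ (k - 1)), hone, one_zpow, mul_one]
  have hsqm : a ^ (2 : ℕ) ∈ commutator X := by
    have : a ^ (2 : ℕ) = a ^ (2 : ℤ) := by rw [← zpow_natCast]; rfl
    rw [this, hsq]
    exact (commutator X).zpow_mem hy u
  have ha2 : a ^ (2 : ℕ) ≠ 1 := by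
    intro h
    have h4 := orderOf_dvd_of_pow_eq_one h
    rw [ha] at h4
    have h5 := Nat.le_of_dvd (by norm_num) h4
    have h6 : (2 : ℕ) ^ 2 ≤ 2 ^ (k - 1) := Nat.pow_le_pow_right (by norm_num) (by omega)
    omega
  have hcl : 2 ≤ Group.nilpotencyClass X := by
    by_contra hlt
    haveI hnil : Group.IsNilpotent X := hP.isNilpotent
    have h3 : Group.nilpotencyClass X ≤ 1 := by omega
    have hc := Group.IsNilpotent.nilpotencyClass_le_one_iff.mp h3
    have hcomm : ∀ x y : X, x * y = y * x := fun x y => hc.is_comm.comm x y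
    apply ha2
    have h4 : a ^ (4 * t + 3 - 1) = 1 := by
      rw [zpow_sub, zpow_one, ← hrel, hcomm b a, mul_inv_cancel_right, mul_inv_cancel]
    have h5 : a ^ (2 : ℕ) = a ^ (2 : ℤ) := by rw [← zpow_natCast]; rfl
    rw [h5, hsq, h4, one_zpow]
  have hncyc := Cfsg.Agent.Lib.Transfer.not_isCyclic_abelianization hP hcl
  have hzp : zpowers (a ^ (2 : ℕ)) ≤ commutator X := by
    rw [Subgroup.zpowers_le]
    exact hsqm
  have hcz : Nat.card (zpowers (a ^ (2 : ℕ))) = 2 ^ (k - 2) := by
    rw [Nat.card_zpowers, orderOf_pow_of_dvd (by norm_num) (by rw [ha]; exact dvd_pow_self 2 (by omega)), ha]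
    obtain ⟨j, hj⟩ : ∃ j, k - 1 = j + 1 := ⟨k - 2, by omega⟩
    have hj2 : k - 2 = j := by omega
    rw [hj, hj2, pow_succ, Nat.mul_div_cancel _ (by norm_num)]
  have hd : (2 : ℕ) ^ (k - 2) ∣ Nat.card (commutator X) := by
    rw [← hcz]
    exact Subgroup.card_dvd_of_le hzp
  obtain ⟨w, hw⟩ := hd
  have hmul := Subgroup.card_mul_index (commutator X)
  rw [hX, hw] at hmul
  have h2k : (2 : ℕ) ^ k = 2 ^ (k - 2) * 4 := by
    have : k = (k - 2) + 2 := by omega
    conv_lhs => rw [this, pow_add]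
    norm_num
  rw [h2k, mul_assoc] at hmul
  have h4 : w * (commutator X).index = 4 := Nat.eq_of_mul_eq_mul_left (by positivity) hmul
  have hdvd : (commutator X).index ∣ 2 ^ 2 := ⟨w, by rw [mul_comm]; omega⟩
  obtain ⟨i, hi, hiC⟩ := (Nat.dvd_prime_pow Nat.prime_two).mp hdvd
  have hi4 : (commutator X).index = 4 := by
    have hcardq : Nat.card (X ⧸ commutator X) = (commutator X).index := rfl
    interval_cases i
    · exfalso
      apply hncyc
      have h5 : Nat.card (X ⧸ commutator X) = 1 := by rw [hcardq, hiC]; rfl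
      haveI := (Nat.card_eq_one_iff_unique.mp h5).1
      exact inferInstance
    · exfalso
      apply hncyc
      have h5 : Nat.card (X ⧸ commutator X) = 2 := by rw [hcardq, hiC]; rfl
      exact isCyclic_of_prime_card h5
    · rw [hiC]; rfl
  exact Cfsg.Agent.Lib.Transfer.class_of_index_commutator k X hk hX hi4

variable {p : ℕ} [hpf : Fact p.Prime]

theorem index_zpowers_eq {n : ℕ} (hn : 1 ≤ n) (hX : Nat.card X = p ^ n) (a : X) (ha : orderOf a = p ^ (n - 1)) :
    (zpowers a).index = p := by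
  have hp : p.Prime := hpf.out
  have h1 := Subgroup.card_mul_index (zpowers a)
  rw [Nat.card_zpowers, ha, hX] at h1
  have h2 : p ^ n = p ^ (n - 1) * p := by
    rw [← pow_succ]
    congr 1
    omega
  rw [h2] at h1
  exact Nat.eq_of_mul_eq_mul_left (pow_pos hp.pos _) h1

theorem closure_eq_top_of_index {a b : X} (hR : IsPGroup p X) (hi : (zpowers a).index = p) (hb : b ∉ zpowers a)
    (K : Subgroup X) (haK : a ∈ K) (hbK : b ∈ K) : K = ⊤ := by
  have hp : p.Prime := hpf.out
  have hco : IsCoatom (zpowers a) := Cfsg.Agent.Lib.Transfer.isCoatom_of_index_prime (by rw [hi]; exact hp)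
  apply hco.2
  refine lt_of_le_of_ne (by rw [Subgroup.zpowers_le]; exact haK) ?_
  intro h
  apply hb
  rw [h]
  exact hbK

/-- The commutators of a modular group. -/
theorem comm_mem_of_modular {n : ℕ} (hn : 3 ≤ n) (hX : Nat.card X = p ^ n) (a b : X)
    (ha : orderOf a = p ^ (n - 1)) (hb : b ∉ zpowers a) (hrel : b * a * b⁻¹ = a ^ (1 + p ^ (n - 2))) :
    (∀ w, a ^ (p ^ (n - 2)) * w = w * a ^ (p ^ (n - 2))) ∧
      ∀ x y : X, x * y * x⁻¹ * y⁻¹ ∈ zpowers (a ^ (p ^ (n - 2))) := by
  have hp : p.Prime := hpf.out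
  have hR : IsPGroup p X := IsPGroup.of_card hX
  have hi := index_zpowers_eq (by omega) hX a ha
  have hgen := fun K haK hbK => closure_eq_top_of_index hR hi hb K haK hbK
  set q := p ^ (n - 2) with hq
  set z := a ^ q with hz
  have hqq : a ^ (q * q) = 1 := by
    apply orderOf_dvd_iff_pow_eq_one.mp
    rw [ha, hq, ← pow_add]
    exact pow_dvd_pow p (by omega)
  have hbz : b * z * b⁻¹ = z := by
    rw [hz, ← conj_pow, hrel, ← pow_mul, add_mul, one_mul, pow_add, hqq, mul_one]
  have hcent : ∀ w, z * w = w * z := by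
    intro w
    have hK : Subgroup.centralizer {z} = ⊤ := by
      apply hgen
      · rw [Subgroup.mem_centralizer_singleton_iff]
        rw [hz]
        exact (Commute.pow_right (Commute.refl a) q)
      · rw [Subgroup.mem_centralizer_singleton_iff]
        have h9 := hbz
        rw [mul_inv_eq_iff_eq_mul] at h9
        exact h9
    have hw : w ∈ Subgroup.centralizer {z} := by rw [hK]; trivial
    rw [Subgroup.mem_centralizer_singleton_iff] at hw
    exact hw.symm
  refine ⟨hcent, ?_⟩
  have hTn : (zpowers z).Normal := by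
    constructor
    intro t ht g
    obtain ⟨j, rfl⟩ := Subgroup.mem_zpowers_iff.mp ht
    have h1 : g * z ^ j * g⁻¹ = z ^ j := by
      have : Commute z g := hcent g
      rw [← (this.zpow_left j).eq, mul_inv_cancel_right]
    rw [h1]
    exact Subgroup.zpow_mem_zpowers z j
  let π := QuotientGroup.mk' (zpowers z)
  have hπz : π z = 1 := (QuotientGroup.eq_one_iff z).mpr (mem_zpowers z)
  have hπsurj : Function.Surjective π := QuotientGroup.mk'_surjective _
  have hba : π b * π a = π a * π b := by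
    have h1 : b * a = a * z * b := by
      have h2 : b * a = (b * a * b⁻¹) * b := by group
      rw [h2, hrel, pow_add, pow_one]
    rw [← map_mul, h1, map_mul, map_mul, hπz, mul_one]
  have hca : ∀ x, π x * π a = π a * π x := by
    intro x
    have hK : (Subgroup.centralizer {π a}).comap π = ⊤ := by
      apply hgen
      · rw [Subgroup.mem_comap, Subgroup.mem_centralizer_singleton_iff]
      · rw [Subgroup.mem_comap, Subgroup.mem_centralizer_singleton_iff]
        exact hba
    have hw : x ∈ (Subgroup.centralizer {π a}).comap π := by rw [hK]; trivial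
    rw [Subgroup.mem_comap, Subgroup.mem_centralizer_singleton_iff] at hw
    exact hw
  have hcb : ∀ x, π x * π b = π b * π x := by
    intro x
    have hK : (Subgroup.centralizer {π b}).comap π = ⊤ := by
      apply hgen
      · rw [Subgroup.mem_comap, Subgroup.mem_centralizer_singleton_iff]
        exact hba.symm
      · rw [Subgroup.mem_comap, Subgroup.mem_centralizer_singleton_iff]
    have hw : x ∈ (Subgroup.centralizer {π b}).comap π := by rw [hK]; trivial
    rw [Subgroup.mem_comap, Subgroup.mem_centralizer_singleton_iff] at hw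
    exact hw
  have hcc : ∀ x y, π x * π y = π y * π x := by
    intro x y
    have hK : (Subgroup.center (X ⧸ zpowers z)).comap π = ⊤ := by
      apply hgen
      · rw [Subgroup.mem_comap, Subgroup.mem_center_iff]
        intro g
        obtain ⟨g, rfl⟩ := hπsurj g
        exact hca g
      · rw [Subgroup.mem_comap, Subgroup.mem_center_iff]
        intro g
        obtain ⟨g, rfl⟩ := hπsurj g
        exact hcb g
    have hw : x ∈ (Subgroup.center (X ⧸ zpowers z)).comap π := by rw [hK]; trivial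
    rw [Subgroup.mem_comap, Subgroup.mem_center_iff] at hw
    exact (hw (π y)).symm
  intro x y
  have h1 : π (x * y * x⁻¹ * y⁻¹) = 1 := by
    simp only [map_mul, map_inv]
    rw [hcc x y, mul_assoc (π y), mul_inv_cancel, mul_one, mul_inv_cancel]
  exact (QuotientGroup.eq_one_iff _).mp h1

theorem dvd_choose_two {n : ℕ} (hn : 3 ≤ n) (hpq : p ≠ 2 ∨ 4 ≤ n) : p ∣ (p ^ (n - 2)).choose 2 := by
  have hp : p.Prime := hpf.out
  set q := p ^ (n - 2) with hq
  have h1 : (q.choose 2) * 2 = q * (q - 1) := by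
    rw [Nat.choose_two_right]
    exact Nat.div_mul_cancel (Nat.even_mul_pred_self q).two_dvd
  rcases hpq with h | h
  · have hcop : Nat.Coprime p 2 := (Nat.coprime_primes hp Nat.prime_two).mpr h
    apply hcop.dvd_of_dvd_mul_right
    rw [h1]
    exact Dvd.dvd.mul_right (dvd_pow_self p (by omega)) _
  · by_cases h2 : p = 2
    · have h3 : p * 2 ∣ q := by
        have : p * 2 ∣ p ^ (n - 2) := by
          rw [h2, ← sq]
          exact pow_dvd_pow 2 (by omega)
        exact this
      obtain ⟨c, hc⟩ := h3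
      have h4 : q * (q - 1) = p * 2 * c * (q - 1) := by rw [← hc]
      have h5 : (q.choose 2) * 2 = (p * (c * (q - 1))) * 2 := by
        rw [h1, h4]
        ring
      exact ⟨_, Nat.eq_of_mul_eq_mul_right (by norm_num) h5⟩
    · have hcop : Nat.Coprime p 2 := (Nat.coprime_primes hp Nat.prime_two).mpr h2
      apply hcop.dvd_of_dvd_mul_right
      rw [h1]
      exact Dvd.dvd.mul_right (dvd_pow_self p (by omega)) _

/-- The power map of a modular group. -/
theorem pow_hom_of_modular {n : ℕ} (hn : 3 ≤ n) (hX : Nat.card X = p ^ n) (a b : X)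
    (ha : orderOf a = p ^ (n - 1)) (hb : b ∉ zpowers a) (hrel : b * a * b⁻¹ = a ^ (1 + p ^ (n - 2)))
    (hpq : p ≠ 2 ∨ 4 ≤ n) (x y : X) : (x * y) ^ (p ^ (n - 2)) = x ^ (p ^ (n - 2)) * y ^ (p ^ (n - 2)) := by
  have hp : p.Prime := hpf.out
  obtain ⟨hcent, hcomm⟩ := comm_mem_of_modular hn hX a b ha hb hrel
  set z := a ^ (p ^ (n - 2)) with hz
  obtain ⟨j, hj⟩ := Subgroup.mem_zpowers_iff.mp (hcomm y x)
  have hc : ∀ w : X, y * x * y⁻¹ * x⁻¹ * w = w * (y * x * y⁻¹ * x⁻¹) := by
    intro w
    rw [← hj]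
    exact ((show Commute z w from hcent w).zpow_left j).eq
  rw [Cfsg.Agent.Lib.Fusion2.SuperSol.mul_pow_class2 x y hc]
  have hzp : z ^ p = 1 := by
    rw [hz, ← pow_mul, ← pow_succ]
    have : n - 2 + 1 = n - 1 := by omega
    rw [this, ← ha, pow_orderOf_eq_one]
  obtain ⟨c, hc'⟩ := dvd_choose_two (p := p) hn hpq
  have h1 : (z ^ j) ^ (p * c) = 1 := by
    rw [← zpow_natCast (z ^ j), ← zpow_mul]
    push_cast
    rw [show j * ((p : ℤ) * c) = (p : ℤ) * (j * c) by ring, zpow_mul, zpow_natCast, hzp, one_zpow]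
  rw [hc', ← hj, h1, mul_one]

/-- Powers in a noncyclic group with a cyclic maximal subgroup. -/
theorem pow_mem_zpowers {n : ℕ} (hn : 3 ≤ n) (hX : Nat.card X = p ^ n) (hnc : ¬ IsCyclic X) (a : X)
    (ha : orderOf a = p ^ (n - 1)) (g : X) : g ^ (p ^ (n - 2)) ∈ zpowers (a ^ (p ^ (n - 2))) := by
  have hp : p.Prime := hpf.out
  have hR : IsPGroup p X := IsPGroup.of_card hX
  have hi := index_zpowers_eq (by omega) hX a ha
  have hco : IsCoatom (zpowers a) := Cfsg.Agent.Lib.Transfer.isCoatom_of_index_prime (by rw [hi]; exact hp)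
  obtain ⟨hnorm, -⟩ := Cfsg.Agent.Lib.Transfer.normal_and_index_of_isCoatom hR hco
  haveI := hnorm
  by_cases hg : g ∈ zpowers a
  · obtain ⟨i, rfl⟩ := Subgroup.mem_zpowers_iff.mp hg
    rw [← zpow_natCast (a ^ i), ← zpow_mul, mul_comm, zpow_mul, zpow_natCast]
    exact Subgroup.zpow_mem_zpowers _ _
  · have h1 : g ^ p ∈ zpowers a := by
      have := Subgroup.pow_index_mem (zpowers a) g
      rwa [hi] at this
    obtain ⟨i, hi'⟩ := Subgroup.mem_zpowers_iff.mp h1
    by_cases hd : (p : ℤ) ∣ i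
    · obtain ⟨i', rfl⟩ := hd
      have h2 : p ^ (n - 2) = p * p ^ (n - 3) := by
        rw [← pow_succ']
        congr 1
        omega
      have h3 : g ^ (p ^ (n - 2)) = (a ^ (p ^ (n - 2))) ^ i' := by
        rw [h2]
        calc g ^ (p * p ^ (n - 3)) = (g ^ p) ^ (p ^ (n - 3)) := pow_mul _ _ _
          _ = (a ^ ((p : ℤ) * i')) ^ (p ^ (n - 3)) := by rw [hi']
          _ = a ^ (((p : ℤ) * i') * ((p ^ (n - 3) : ℕ) : ℤ)) := by rw [zpow_mul a ((p : ℤ) * i') _, zpow_natCast]
          _ = a ^ (((p * p ^ (n - 3) : ℕ) : ℤ) * i') := by congr 1; push_cast; ring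
          _ = _ := by rw [zpow_mul, zpow_natCast]
      rw [h3]
      exact Subgroup.zpow_mem_zpowers _ _
    · exfalso
      have hc1 : IsCoprime (p : ℤ) i := (Nat.prime_iff_prime_int.mp hp).coprime_iff_not_dvd.mpr hd
      have hc2 : IsCoprime ((p : ℤ) ^ (n - 1)) i := hc1.pow_left
      obtain ⟨u, v, huv⟩ := hc2
      have hone : a ^ ((p : ℤ) ^ (n - 1)) = 1 := by
        have h2 := pow_orderOf_eq_one a
        rw [ha] at h2
        rw [← h2, ← zpow_natCast]
        push_cast
        rfl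
      have h5 : a = (g ^ p) ^ v := by
        rw [← hi', ← zpow_mul]
        have h6 : a ^ (u * (p : ℤ) ^ (n - 1) + v * i) = a := by
          rw [huv, zpow_one]
        calc a = a ^ (u * (p : ℤ) ^ (n - 1) + v * i) := h6.symm
          _ = _ := by
            rw [zpow_add, mul_comm u, zpow_mul, hone, one_zpow, one_mul, mul_comm]
      have h7 : a ∈ zpowers g := by
        rw [h5]
        exact Subgroup.zpow_mem _ (Subgroup.pow_mem _ (mem_zpowers g) p) v
      have h8 : zpowers g = ⊤ := by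
        apply hco.2
        refine lt_of_le_of_ne (by rw [Subgroup.zpowers_le]; exact h7) ?_
        intro h9
        apply hg
        rw [h9]
        exact mem_zpowers g
      apply hnc
      refine ⟨g, fun x => ?_⟩
      show x ∈ zpowers g
      rw [h8]
      trivial

/-- If the power map is a homomorphism, then the non-generators form a maximal subgroup. -/
theorem exists_E {n : ℕ} (hn : 3 ≤ n) (hX : Nat.card X = p ^ n) (hnc : ¬ IsCyclic X) (a : X)
    (ha : orderOf a = p ^ (n - 1)) (hhom : ∀ x y : X, (x * y) ^ (p ^ (n - 2)) = x ^ (p ^ (n - 2)) * y ^ (p ^ (n - 2))) :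
    ∃ E : Subgroup X, E.index = p ∧ ∀ M : Subgroup X, M.index = p → (IsCyclic M ↔ M ≠ E) := by
  have hp : p.Prime := hpf.out
  have hR : IsPGroup p X := IsPGroup.of_card hX
  set q := p ^ (n - 2) with hq
  let f : X →* X := MonoidHom.mk' (fun x => x ^ q) hhom
  have hf : ∀ x, f x = x ^ q := fun x => rfl
  have haq : a ^ q ≠ 1 := by
    intro h
    have h1 := orderOf_dvd_of_pow_eq_one h
    rw [ha, hq] at h1
    have := (Nat.pow_dvd_pow_iff_le_right hp.one_lt).mp h1
    omega
  have hzcard : Nat.card (zpowers (a ^ q)) = p := by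
    rw [Nat.card_zpowers]
    apply orderOf_eq_prime _ haq
    rw [← pow_mul, hq, ← pow_succ]
    have : n - 2 + 1 = n - 1 := by omega
    rw [this, ← ha, pow_orderOf_eq_one]
  have hrange : f.range ≤ zpowers (a ^ q) := by
    rintro _ ⟨g, rfl⟩
    rw [hf]
    exact pow_mem_zpowers hn hX hnc a ha g
  have hidx : f.ker.index = p := by
    rw [Subgroup.index_ker]
    have h1 : Nat.card f.range ∣ p := by
      rw [← hzcard]
      exact Subgroup.card_dvd_of_le hrange
    rcases (Nat.dvd_prime hp).mp h1 with h | h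
    · exfalso
      have h2 := Subgroup.card_eq_one.mp h
      have h3 : f a ∈ f.range := ⟨a, rfl⟩
      rw [h2, Subgroup.mem_bot, hf] at h3
      exact haq h3
    · exact h
  refine ⟨f.ker, hidx, ?_⟩
  intro M hM
  have hMc : Nat.card M = p ^ (n - 1) := by
    have h1 := Subgroup.card_mul_index M
    rw [hX, hM] at h1
    have h2 : p ^ n = p ^ (n - 1) * p := by
      rw [← pow_succ]
      congr 1
      omega
    rw [h2] at h1
    exact Nat.eq_of_mul_eq_mul_right hp.pos h1
  constructor
  · intro hcyc hME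
    obtain ⟨g, hg⟩ := hcyc.exists_generator
    have hog : orderOf g = p ^ (n - 1) := by
      rw [← hMc]
      exact orderOf_eq_card_of_forall_mem_zpowers hg
    have hog' : orderOf (g : X) = p ^ (n - 1) := by rw [Subgroup.orderOf_coe, hog]
    have h1 : (g : X) ∈ f.ker := by
      rw [← hME]
      exact g.2
    rw [MonoidHom.mem_ker, hf] at h1
    have h2 := orderOf_dvd_of_pow_eq_one h1
    rw [hog', hq] at h2
    have := (Nat.pow_dvd_pow_iff_le_right hp.one_lt).mp h2
    omega
  · intro hne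
    have hnle : ¬ M ≤ f.ker := by
      intro hle
      apply hne
      apply Subgroup.eq_of_le_of_card_ge hle
      have h1 := Subgroup.card_mul_index f.ker
      have h2 := Subgroup.card_mul_index M
      rw [hidx] at h1
      rw [hM] at h2
      have h3 : Nat.card f.ker * p = Nat.card M * p := h1.trans h2.symm
      exact (Nat.eq_of_mul_eq_mul_right hp.pos h3).le
    obtain ⟨x, hxM, hx⟩ := SetLike.not_le_iff_exists.mp hnle
    rw [MonoidHom.mem_ker, hf] at hx
    let x' : M := ⟨x, hxM⟩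
    have h1 : x' ^ (p ^ (n - 1)) = 1 := by
      rw [← hMc]
      exact pow_card_eq_one'
    obtain ⟨i, hi, hix⟩ := (Nat.dvd_prime_pow hp).mp (orderOf_dvd_of_pow_eq_one h1)
    have h2 : n - 1 ≤ i := by
      by_contra hlt
      apply hx
      have h3 : orderOf x' ∣ q := by
        rw [hix, hq]
        exact pow_dvd_pow p (by omega)
      have h4 := orderOf_dvd_iff_pow_eq_one.mp h3
      have h5 := congrArg (Subtype.val) h4
      simpa [x'] using h5
    have h3 : i = n - 1 := le_antisymm hi h2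
    have h4 : orderOf x' = Nat.card M := by rw [hix, h3, hMc]
    exact isCyclic_of_orderOf_eq_card x' h4

open Classical in
/-- Parity for a good group. -/
theorem dvd_card_cyclic_of_hom {n : ℕ} (hn : 3 ≤ n) (hX : Nat.card X = p ^ n) (hnc : ¬ IsCyclic X) (a : X)
    (ha : orderOf a = p ^ (n - 1)) (hhom : ∀ x y : X, (x * y) ^ (p ^ (n - 2)) = x ^ (p ^ (n - 2)) * y ^ (p ^ (n - 2))) :
    p ∣ ((maxSet p X).filter (fun M : Subgroup X => IsCyclic M)).card := by
  have hp : p.Prime := hpf.out
  have hR : IsPGroup p X := IsPGroup.of_card hX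
  obtain ⟨E, hEi, hE⟩ := exists_E hn hX hnc a ha hhom
  have hEm : E ∈ maxSet p X := mem_maxSet.mpr hEi
  have h1 : (maxSet p X).filter (fun M : Subgroup X => IsCyclic M) = (maxSet p X).erase E := by
    ext M
    simp only [Finset.mem_filter, Finset.mem_erase, mem_maxSet]
    constructor
    · rintro ⟨h1, h2⟩
      exact ⟨(hE M h1).mp h2, h1⟩
    · rintro ⟨h1, h2⟩
      exact ⟨h2, (hE M h2).mpr h1⟩
  rw [h1]
  have h2 := Finset.card_erase_add_one hEm
  have h3 := (maxSet_card_modEq hR hnc).1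
  rw [← h2] at h3
  have h4 : ((maxSet p X).erase E).card + 1 ≡ p + 1 [MOD p ^ 2] := by
    rw [add_comm p 1]
    exact h3
  have h5 := Nat.ModEq.add_right_cancel' 1 h4
  have h6 : ((maxSet p X).erase E).card ≡ p [MOD p] := h5.of_dvd (dvd_pow_self p (by norm_num))
  have h7 : p ≡ 0 [MOD p] := (Nat.modEq_zero_iff_dvd).mpr dvd_rfl
  exact (Nat.modEq_zero_iff_dvd).mp (h6.trans h7)


/-- Two relations giving maximal class for `e = 2^(n-2) - 1`. -/
theorem sd_exponent {n : ℕ} (hn : 4 ≤ n) (a : X) :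
    a ^ (2 ^ (n - 2) - 1) = a ^ ((2 : ℤ) ^ (n - 2) - 1) ∧ ((2 : ℤ) ^ (n - 2) - 1) % 4 = 3 := by
  constructor
  · rw [← zpow_natCast, Nat.cast_sub (Nat.one_le_two_pow)]
    push_cast
    rfl
  · obtain ⟨j, hj⟩ : ∃ j, n - 2 = j + 2 := ⟨n - 4, by omega⟩
    rw [hj, pow_add]
    norm_num

/-- A group which is not of maximal class and has a cyclic maximal subgroup has a homomorphic power map. -/
theorem good_data {n : ℕ} (hn : 3 ≤ n) (hX : Nat.card X = p ^ n) (hg : p = 2 → Group.nilpotencyClass X ≠ n - 1)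
    (C : Subgroup X) (hC : IsCyclic C) (hCi : C.index = p) :
    ∃ a : X, orderOf a = p ^ (n - 1) ∧
      ∀ x y : X, (x * y) ^ (p ^ (n - 2)) = x ^ (p ^ (n - 2)) * y ^ (p ^ (n - 2)) := by
  have hp : p.Prime := hpf.out
  by_cases hcomm : ∀ x y : X, x * y = y * x
  · obtain ⟨g, hg'⟩ := hC.exists_generator
    have hCc : Nat.card C = p ^ (n - 1) := by
      have h1 := Subgroup.card_mul_index C
      rw [hX, hCi] at h1
      have h2 : p ^ n = p ^ (n - 1) * p := by
        rw [← pow_succ]
        congr 1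
        omega
      rw [h2] at h1
      exact Nat.eq_of_mul_eq_mul_right hp.pos h1
    refine ⟨(g : X), ?_, ?_⟩
    · rw [Subgroup.orderOf_coe, ← hCc]
      exact orderOf_eq_card_of_forall_mem_zpowers hg'
    · intro x y
      exact (show Commute x y from hcomm x y).mul_pow _
  · have hna : ∃ x y : X, x * y ≠ y * x := by
      push_neg at hcomm
      exact hcomm
    by_cases h2 : p = 2
    · subst h2
      obtain ⟨a, b, ha, hb, h⟩ := Cfsg.Agent.S0646.result n hn hX C hC hCi hna
      rcases h with ⟨-, h⟩ | ⟨-, h⟩ | ⟨h4, -, h⟩ | ⟨h4, -, h⟩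
      · exfalso
        exact hg rfl (class_of_inverting hn hX a b ha (-1) (by norm_num) (by rw [h, zpow_neg_one]))
      · exfalso
        exact hg rfl (class_of_inverting hn hX a b ha (-1) (by norm_num) (by rw [h, zpow_neg_one]))
      · exact ⟨a, ha, pow_hom_of_modular hn hX a b ha hb h (Or.inr h4)⟩
      · exfalso
        obtain ⟨h5, h6⟩ := sd_exponent h4 a
        exact hg rfl (class_of_inverting hn hX a b ha _ h6 (by rw [h, h5]))
    · obtain ⟨a, b, ha, -, hb, h⟩ := Cfsg.Agent.S0645.result h2 n hn hX C hC hCi hna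
      exact ⟨a, ha, pow_hom_of_modular hn hX a b ha hb h (Or.inl h2)⟩

open Classical in
/-- `p` divides the number of cyclic maximal subgroups. -/
theorem dvd_card_cyclic_good {n : ℕ} (hn : 3 ≤ n) (hX : Nat.card X = p ^ n) (hnc : ¬ IsCyclic X)
    (hg : p = 2 → Group.nilpotencyClass X ≠ n - 1) :
    p ∣ ((maxSet p X).filter (fun M : Subgroup X => IsCyclic M)).card := by
  by_cases hem : ((maxSet p X).filter (fun M : Subgroup X => IsCyclic M)) = ∅
  · rw [hem]
    simp
  · obtain ⟨C, hC⟩ := Finset.nonempty_iff_ne_empty.mpr hem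
    obtain ⟨hC1, hC2⟩ := Finset.mem_filter.mp hC
    obtain ⟨a, ha, hhom⟩ := good_data hn hX hg C hC2 (mem_maxSet.mp hC1)
    exact dvd_card_cyclic_of_hom hn hX hnc a ha hhom

/-- The data of a `2`-group of maximal class. -/
theorem bad_data {n : ℕ} (hn : 3 ≤ n) (hX : Nat.card X = 2 ^ n) (hc : Group.nilpotencyClass X = n - 1) :
    ∃ (a b : X) (e : ℤ), orderOf a = 2 ^ (n - 1) ∧ b ∉ zpowers a ∧ b * a * b⁻¹ = a ^ e ∧ e % 4 = 3 ∧
      (∀ x, x ∉ zpowers a → x ^ 4 = 1) ∧
      (4 ≤ n ∨ (∀ x, x ∉ zpowers a → x ^ 2 = 1) ∨ (n = 3 ∧ ∀ x, x ∉ zpowers a → x ^ 2 ≠ 1)) := by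
  haveI : Fact (Nat.Prime 2) := ⟨Nat.prime_two⟩
  have hP : IsPGroup 2 X := IsPGroup.of_card hX
  obtain ⟨C, hC, hCi⟩ := Cfsg.Agent.Lib.Transfer.exists_cyclic_index_two n X hn hX hc
  have hna : ∃ x y : X, x * y ≠ y * x := by
    by_contra hcon
    push_neg at hcon
    have h1 : IsMulCommutative X := ⟨⟨hcon⟩⟩
    haveI hnil : Group.IsNilpotent X := hP.isNilpotent
    have h2 := Group.IsNilpotent.nilpotencyClass_le_one_iff.mpr h1
    omega
  obtain ⟨a, b, ha, hb, h⟩ := Cfsg.Agent.S0646.result n hn hX C hC hCi hna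
  have hi : (zpowers a).index = 2 := index_zpowers_eq (by omega) hX a ha
  have hform : ∀ x, x ∉ zpowers a → ∃ i : ℤ, x = b * a ^ i := by
    intro x hx
    have h1 : b⁻¹ * x ∈ zpowers a := by
      rw [Subgroup.mul_mem_iff_of_index_two hi]
      simp only [inv_mem_iff]
      exact iff_of_false hb hx
    obtain ⟨i, hi'⟩ := Subgroup.mem_zpowers_iff.mp h1
    exact ⟨i, by rw [hi']; group⟩
  have hsq : ∀ (e i : ℤ), b * a * b⁻¹ = a ^ e → (b * a ^ i) ^ 2 = a ^ (e * i) * b ^ 2 * a ^ i := by
    intro e i hrel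
    have h1 : b * a ^ i * b⁻¹ = a ^ (e * i) := by
      rw [← conj_zpow, hrel, zpow_mul]
    rw [← h1, sq (b * a ^ i), sq b]
    group
  have htop : a ^ (2 : ℤ) ^ (n - 1) = 1 := by
    have h2 := pow_orderOf_eq_one a
    rw [ha] at h2
    rw [← h2, ← zpow_natCast]
    push_cast
    rfl
  have hzz : (a ^ (2 ^ (n - 2))) ^ 2 = 1 := by
    rw [← pow_mul, ← pow_succ]
    have : n - 2 + 1 = n - 1 := by omega
    rw [this, ← ha, pow_orderOf_eq_one]
  have hz1 : a ^ (2 ^ (n - 2)) ≠ 1 := by
    intro h1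
    have h2 := orderOf_dvd_of_pow_eq_one h1
    rw [ha] at h2
    have := (Nat.pow_dvd_pow_iff_le_right (by norm_num : 1 < 2)).mp h2
    omega
  rcases h with ⟨h1, h⟩ | ⟨h1, h⟩ | ⟨h4, -, h⟩ | ⟨h4, h1, h⟩
  · have hrel : b * a * b⁻¹ = a ^ (-1 : ℤ) := by rw [h, zpow_neg_one]
    have hx2 : ∀ x, x ∉ zpowers a → x ^ 2 = 1 := by
      intro x hx
      obtain ⟨i, rfl⟩ := hform x hx
      rw [hsq (-1) i hrel, h1, mul_one, ← zpow_add]
      simp
    refine ⟨a, b, -1, ha, hb, hrel, by norm_num, ?_, Or.inr (Or.inl hx2)⟩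
    intro x hx
    rw [show (4 : ℕ) = 2 * 2 by norm_num, pow_mul, hx2 x hx, one_pow]
  · have hrel : b * a * b⁻¹ = a ^ (-1 : ℤ) := by rw [h, zpow_neg_one]
    have hx2 : ∀ x, x ∉ zpowers a → x ^ 2 = a ^ (2 ^ (n - 2)) := by
      intro x hx
      obtain ⟨i, rfl⟩ := hform x hx
      rw [hsq (-1) i hrel, h1]
      have hc1 : Commute (a ^ (2 ^ (n - 2))) (a ^ i) :=
        (Commute.refl a).pow_left _ |>.zpow_right _
      rw [mul_assoc, hc1.eq, ← mul_assoc, ← zpow_add]
      simp
    refine ⟨a, b, -1, ha, hb, hrel, by norm_num, ?_, ?_⟩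
    · intro x hx
      rw [show (4 : ℕ) = 2 * 2 by norm_num, pow_mul, hx2 x hx, hzz]
    · by_cases h4 : 4 ≤ n
      · exact Or.inl h4
      · refine Or.inr (Or.inr ⟨by omega, ?_⟩)
        intro x hx
        rw [hx2 x hx]
        exact hz1
  · exfalso
    obtain ⟨-, hcomm⟩ := comm_mem_of_modular hn hX a b ha hb h
    have hle : commutator X ≤ zpowers (a ^ (2 ^ (n - 2))) := by
      rw [_root_.commutator_def, Subgroup.commutator_le]
      intro x _ y _
      exact hcomm x y
    have h5 := Cfsg.Agent.Lib.Transfer.pow_le_card_commutator hP (by omega)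
    rw [hc] at h5
    have h6 := Subgroup.card_le_of_le hle
    have h7 : Nat.card (zpowers (a ^ (2 ^ (n - 2)))) ≤ 2 := by
      rw [Nat.card_zpowers]
      exact orderOf_le_of_pow_eq_one (by norm_num) hzz
    have h8 : (2 : ℕ) ^ 2 ≤ 2 ^ (n - 1 - 1) := Nat.pow_le_pow_right (by norm_num) (by omega)
    omega
  · obtain ⟨h5, h6⟩ := sd_exponent h4 a
    have hrel : b * a * b⁻¹ = a ^ ((2 : ℤ) ^ (n - 2) - 1) := by rw [h, h5]
    refine ⟨a, b, _, ha, hb, hrel, h6, ?_, Or.inl h4⟩
    intro x hx
    obtain ⟨i, rfl⟩ := hform x hx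
    rw [show (4 : ℕ) = 2 * 2 by norm_num, pow_mul, hsq _ i hrel, h1, mul_one, ← zpow_add]
    have h7 : ((2 : ℤ) ^ (n - 2) - 1) * i + i = (2 : ℤ) ^ (n - 2) * i := by ring
    rw [h7, ← zpow_natCast, ← zpow_mul]
    have h8 : (2 : ℤ) ^ (n - 2) * i * ((2 : ℕ) : ℤ) = (2 : ℤ) ^ (n - 1) * i := by
      have : (2 : ℤ) ^ (n - 1) = 2 ^ (n - 2) * 2 := by
        rw [← pow_succ]
        congr 1
        omega
      rw [this]
      push_cast
      ring
    rw [h8, zpow_mul, htop, one_zpow]

theorem exists_mem_not_mem_zpowers {n : ℕ} (hn : 1 ≤ n) (hX : Nat.card X = p ^ n) (a : X)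
    (ha : orderOf a = p ^ (n - 1)) (M : Subgroup X) (hM : M.index = p) (hne : M ≠ zpowers a) :
    ∃ x ∈ M, x ∉ zpowers a := by
  have hi := index_zpowers_eq hn hX a ha
  apply SetLike.not_le_iff_exists.mp
  intro hle
  apply hne
  apply Subgroup.eq_of_le_of_card_ge hle
  have h1 := Subgroup.card_mul_index (zpowers a)
  have h2 := Subgroup.card_mul_index M
  rw [hi] at h1
  rw [hM] at h2
  have h3 : Nat.card (zpowers a) * p = Nat.card M * p := h1.trans h2.symm
  exact (Nat.eq_of_mul_eq_mul_right hpf.out.pos h3).le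

theorem card_of_index {n : ℕ} (hn : 1 ≤ n) (hX : Nat.card X = p ^ n) (M : Subgroup X) (hM : M.index = p) :
    Nat.card M = p ^ (n - 1) := by
  have h1 := Subgroup.card_mul_index M
  rw [hX, hM] at h1
  have h2 : p ^ n = p ^ (n - 1) * p := by
    rw [← pow_succ]
    congr 1
    omega
  rw [h2] at h1
  exact Nat.eq_of_mul_eq_mul_right hpf.out.pos h1

open Classical in
/-- A group of maximal class has an odd number of cyclic maximal subgroups. -/
theorem odd_card_cyclic_bad {n : ℕ} (hn : 3 ≤ n) (hX : Nat.card X = 2 ^ n) (hc : Group.nilpotencyClass X = n - 1)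
    [Fact (Nat.Prime 2)] :
    Odd ((maxSet 2 X).filter (fun M : Subgroup X => IsCyclic M)).card := by
  have hP : IsPGroup 2 X := IsPGroup.of_card hX
  have hnc : ¬ IsCyclic X := by
    intro hcyc
    haveI hnil : Group.IsNilpotent X := hP.isNilpotent
    have h1 : IsMulCommutative X := hcyc.commutative
    have h2 := Group.IsNilpotent.nilpotencyClass_le_one_iff.mpr h1
    omega
  obtain ⟨a, b, e, ha, hb, hrel, he, hx4, hcases⟩ := bad_data hn hX hc
  have hi := index_zpowers_eq (by omega) hX a ha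
  have hN := (maxSet_card_modEq (p := 2) hP hnc).1
  have hNodd : Odd (maxSet 2 X).card := by
    have h1 : (maxSet 2 X).card % 4 = 3 := hN
    rw [Nat.odd_iff]
    omega
  have hCc : IsCyclic (zpowers a) := inferInstance
  have hCm : zpowers a ∈ maxSet 2 X := mem_maxSet.mpr hi
  -- generator of a cyclic maximal subgroup `M ≠ ⟨a⟩`
  have hgen : ∀ M : Subgroup X, M.index = 2 → M ≠ zpowers a → IsCyclic M →
      ∃ g : X, g ∉ zpowers a ∧ orderOf g = 2 ^ (n - 1) := by
    intro M hM hne hcyc
    obtain ⟨g, hg⟩ := hcyc.exists_generator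
    refine ⟨(g : X), ?_, ?_⟩
    · intro hgm
      obtain ⟨x, hxM, hx⟩ := exists_mem_not_mem_zpowers (by omega) hX a ha M hM hne
      apply hx
      obtain ⟨j, hj⟩ := hg ⟨x, hxM⟩
      have h1 : x = (g : X) ^ j := by
        have := congrArg Subtype.val hj
        simpa using this.symm
      rw [h1]
      exact (zpowers a).zpow_mem hgm j
    · rw [Subgroup.orderOf_coe, orderOf_eq_card_of_forall_mem_zpowers hg]
      exact card_of_index (by omega) hX M hM
  have hsing : (∀ M : Subgroup X, M.index = 2 → M ≠ zpowers a → ¬ IsCyclic M) →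
      Odd ((maxSet 2 X).filter (fun M : Subgroup X => IsCyclic M)).card := by
    intro hall
    have h1 : (maxSet 2 X).filter (fun M : Subgroup X => IsCyclic M) = {zpowers a} := by
      ext M
      simp only [Finset.mem_filter, Finset.mem_singleton, mem_maxSet]
      constructor
      · rintro ⟨h1, h2⟩
        by_contra hne
        exact hall M h1 hne h2
      · rintro rfl
        exact ⟨hi, hCc⟩
    rw [h1]
    simp
  rcases hcases with h4 | hall | ⟨h3, hall⟩
  · apply hsing
    intro M hM hne hcyc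
    obtain ⟨g, hg, hog⟩ := hgen M hM hne hcyc
    have h1 := orderOf_dvd_of_pow_eq_one (hx4 g hg)
    rw [hog, show (4 : ℕ) = 2 ^ 2 by norm_num] at h1
    have := (Nat.pow_dvd_pow_iff_le_right (by norm_num : 1 < 2)).mp h1
    omega
  · apply hsing
    intro M hM hne hcyc
    obtain ⟨g, hg, hog⟩ := hgen M hM hne hcyc
    have h1 := orderOf_dvd_of_pow_eq_one (hall g hg)
    rw [hog] at h1
    have := (Nat.pow_dvd_pow_iff_le_right (by norm_num : 1 < 2)).mp (by simpa using h1 : 2 ^ (n - 1) ∣ 2 ^ 1)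
    omega
  · have h1 : (maxSet 2 X).filter (fun M : Subgroup X => IsCyclic M) = maxSet 2 X := by
      apply Finset.filter_true_of_mem
      intro M hM'
      have hM := mem_maxSet.mp hM'
      by_cases hne : M = zpowers a
      · rw [hne]
        exact hCc
      · obtain ⟨x, hxM, hx⟩ := exists_mem_not_mem_zpowers (by omega) hX a ha M hM hne
        let x' : M := ⟨x, hxM⟩
        have hcardM := card_of_index (by omega) hX M hM
        have h40 : x' ^ (2 ^ 2) = 1 := by
          apply Subtype.ext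
          have := hx4 x hx
          simpa [x'] using this
        have h41 : ¬ x' ^ (2 ^ 1) = 1 := by
          intro h
          have := congrArg Subtype.val h
          apply hall x hx
          simpa [x'] using this
        have hox : orderOf x' = 2 ^ 2 := orderOf_eq_prime_pow h41 h40
        apply isCyclic_of_orderOf_eq_card x'
        rw [hox, hcardM, h3]
    rw [h1]
    exact hNodd

open Classical in
/-- A group of maximal class, order at least `16`: all maximal subgroups are cyclic or of maximal class. -/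
theorem cyclic_or_bad_of_bad {n : ℕ} (hn : 4 ≤ n) (hX : Nat.card X = 2 ^ n) (hc : Group.nilpotencyClass X = n - 1)
    [Fact (Nat.Prime 2)] (M : Subgroup X) (hM : M.index = 2) :
    IsCyclic M ∨ Group.nilpotencyClass M = n - 2 := by
  have hP : IsPGroup 2 X := IsPGroup.of_card hX
  obtain ⟨a, b, e, ha, hb, hrel, he, -, -⟩ := bad_data (by omega) hX hc
  have hi := index_zpowers_eq (by omega) hX a ha
  by_cases hne : M = zpowers a
  · left
    rw [hne]
    infer_instance
  · right
    obtain ⟨x, hxM, hx⟩ := exists_mem_not_mem_zpowers (by omega) hX a ha M hM hne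
    have hcardM := card_of_index (by omega) hX M hM
    have hx' : x * a * x⁻¹ = a ^ e := by
      have h1 : b⁻¹ * x ∈ zpowers a := by
        rw [Subgroup.mul_mem_iff_of_index_two hi]
        simp only [inv_mem_iff]
        exact iff_of_false hb hx
      obtain ⟨i, hi'⟩ := Subgroup.mem_zpowers_iff.mp h1
      have h2 : x = b * a ^ i := by rw [hi']; group
      rw [h2, mul_inv_rev]
      have h3 : b * a ^ i * a * ((a ^ i)⁻¹ * b⁻¹) = b * a * b⁻¹ := by
        have : a ^ i * a * (a ^ i)⁻¹ = a := by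
          have hcm : Commute (a ^ i) a := (Commute.refl a).zpow_left i
          rw [hcm.eq, mul_inv_cancel_right]
        calc b * a ^ i * a * ((a ^ i)⁻¹ * b⁻¹) = b * (a ^ i * a * (a ^ i)⁻¹) * b⁻¹ := by group
          _ = _ := by rw [this]
      rw [h3, hrel]
    have ha2M : a ^ 2 ∈ M := by
      have h1 : a * a ∈ M := by
        rw [Subgroup.mul_mem_iff_of_index_two hM]
      rwa [sq]
    let a' : M := ⟨a ^ 2, ha2M⟩
    let x' : M := ⟨x, hxM⟩
    have hoa : orderOf a' = 2 ^ (n - 1 - 1) := by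
      rw [Subgroup.orderOf_mk, orderOf_pow_of_dvd (by norm_num) (by rw [ha]; exact dvd_pow_self 2 (by omega)), ha]
      obtain ⟨j, hj⟩ : ∃ j, n - 1 = j + 1 := ⟨n - 2, by omega⟩
      rw [hj, pow_succ, Nat.mul_div_cancel _ (by norm_num)]
      simp
    have hrel' : x' * a' * x'⁻¹ = a' ^ e := by
      apply Subtype.ext
      show x * a ^ 2 * x⁻¹ = ((a' ^ e : M) : X)
      rw [Subgroup.coe_zpow]
      show x * a ^ 2 * x⁻¹ = (a ^ 2) ^ e
      rw [← conj_pow, hx', ← zpow_natCast, ← zpow_natCast a, ← zpow_mul, ← zpow_mul, mul_comm]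
    have := class_of_inverting (k := n - 1) (by omega) (by rw [hcardM]) a' x' hoa e he hrel'
    rw [this]
    omega

end Cfsg.Agent.Lib.PGroups.Kul
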