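import Cfsg.Agent.Lib.PGroups.KulCyc

/-!
Maximal subgroups of maximal class in a `2`-group not of maximal class.
-/

set_option autoImplicit false
set_option linter.style.haveILetI false

namespace Cfsg.Agent.Lib.PGroups.Kul

open Subgroup Finset
open scoped commutatorElement

universe u

theorem exists_comm_both {Y : Type*} [Group Y] (c : Y) (hcc : ∀ g : Y, g * c = c * g) (hc2 : c * c = 1)
    (hall : ∀ x y : Y, x * y = y * x ∨ x * y = c * (y * x)) (D B T : Y) (hDB : D * B = c * (B * D)) :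
    ∃ h : Y, (h = 1 ∨ h = D ∨ h = B ∨ h = D * B) ∧ (T * h) * D = D * (T * h) ∧ (T * h) * B = B * (T * h) := by
  have hBD : B * D = c * (D * B) := by rw [hDB, ← mul_assoc, hc2, one_mul]
  have CC : ∀ x y w : Y, x * w = w * x → y * w = w * y → (x * y) * w = w * (x * y) := by
    intro x y w h1 h2
    rw [mul_assoc, h2, ← mul_assoc, h1, mul_assoc]
  have NC : ∀ x y w : Y, x * w = c * (w * x) → y * w = w * y → (x * y) * w = c * (w * (x * y)) := by
    intro x y w h1 h2
    rw [mul_assoc, h2, ← mul_assoc, h1]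
    simp only [mul_assoc]
  have CN : ∀ x y w : Y, x * w = w * x → y * w = c * (w * y) → (x * y) * w = c * (w * (x * y)) := by
    intro x y w h1 h2
    calc (x * y) * w = x * (y * w) := mul_assoc _ _ _
      _ = x * (c * (w * y)) := by rw [h2]
      _ = (x * c) * (w * y) := by simp only [mul_assoc]
      _ = (c * x) * (w * y) := by rw [hcc]
      _ = c * ((x * w) * y) := by simp only [mul_assoc]
      _ = c * ((w * x) * y) := by rw [h1]
      _ = _ := by simp only [mul_assoc]
  have NN : ∀ x y w : Y, x * w = c * (w * x) → y * w = c * (w * y) → (x * y) * w = w * (x * y) := by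
    intro x y w h1 h2
    calc (x * y) * w = x * (y * w) := mul_assoc _ _ _
      _ = x * (c * (w * y)) := by rw [h2]
      _ = (x * c) * (w * y) := by simp only [mul_assoc]
      _ = (c * x) * (w * y) := by rw [hcc]
      _ = c * ((x * w) * y) := by simp only [mul_assoc]
      _ = c * ((c * (w * x)) * y) := by rw [h1]
      _ = (c * c) * ((w * x) * y) := by simp only [mul_assoc]
      _ = _ := by rw [hc2, one_mul, mul_assoc]
  rcases hall T D with h1 | h1 <;> rcases hall T B with h2 | h2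
  · exact ⟨1, Or.inl rfl, by simpa using h1, by simpa using h2⟩
  · exact ⟨D, Or.inr (Or.inl rfl), CC T D D h1 rfl, NN T D B h2 hDB⟩
  · exact ⟨B, Or.inr (Or.inr (Or.inl rfl)), NN T B D h1 hBD, CC T B B h2 rfl⟩
  · exact ⟨D * B, Or.inr (Or.inr (Or.inr rfl)), NN T (D * B) D h1 (CN D B D rfl hBD),
      NN T (D * B) B h2 (NC D B B hDB rfl)⟩

variable {X : Type u} [Group X] [Finite X]

theorem exists_zpow_of_odd {z : X} {k : ℕ} (hz : orderOf z = 2 ^ k) (w : ℤ) (hw : Odd w) :
    ∃ u : ℤ, (z ^ w) ^ u = z := by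
  have hc : IsCoprime w ((2 : ℤ) ^ k) := by
    apply IsCoprime.pow_right
    obtain ⟨s, rfl⟩ := hw
    exact ⟨1, -s, by ring⟩
  obtain ⟨u, v, huv⟩ := hc
  refine ⟨u, ?_⟩
  have hone : z ^ ((2 : ℤ) ^ k) = 1 := by
    have h2 := pow_orderOf_eq_one z
    rw [hz] at h2
    rw [← h2, ← zpow_natCast]
    push_cast
    rfl
  calc (z ^ w) ^ u = z ^ (u * w + v * 2 ^ k) := by
        rw [zpow_add, mul_comm u, zpow_mul, mul_comm v, zpow_mul, hone, one_zpow, mul_one]
    _ = z := by rw [huv, zpow_one]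

theorem index_commutator_ne (hP : IsPGroup 2 X) (hna : ∃ x y : X, x * y ≠ y * x) [Fact (Nat.Prime 2)] :
    (commutator X).index ≠ 1 ∧ (commutator X).index ≠ 2 := by
  have hcl : 2 ≤ Group.nilpotencyClass X := by
    by_contra hlt
    haveI hnil : Group.IsNilpotent X := hP.isNilpotent
    have h3 : Group.nilpotencyClass X ≤ 1 := by omega
    have hc := Group.IsNilpotent.nilpotencyClass_le_one_iff.mp h3
    obtain ⟨x, y, hxy⟩ := hna
    exact hxy (hc.is_comm.comm x y)
  have hncyc := Cfsg.Agent.Lib.Transfer.not_isCyclic_abelianization hP hcl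
  have hcardq : Nat.card (X ⧸ commutator X) = (commutator X).index := rfl
  constructor
  · intro h
    apply hncyc
    have h5 : Nat.card (X ⧸ commutator X) = 1 := by rw [hcardq, h]
    haveI := (Nat.card_eq_one_iff_unique.mp h5).1
    exact inferInstance
  · intro h
    apply hncyc
    have h5 : Nat.card (X ⧸ commutator X) = 2 := by rw [hcardq, h]
    exact isCyclic_of_prime_card h5

theorem class_of_large_commutator {k : ℕ} (hk : 3 ≤ k) (hX : Nat.card X = 2 ^ k) [Fact (Nat.Prime 2)]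
    (hna : ∃ x y : X, x * y ≠ y * x) (hd : (2 : ℕ) ^ (k - 2) ∣ Nat.card (commutator X)) :
    Group.nilpotencyClass X = k - 1 := by
  have hP : IsPGroup 2 X := IsPGroup.of_card hX
  obtain ⟨h1, h2⟩ := index_commutator_ne hP hna
  obtain ⟨w, hw⟩ := hd
  have hmul := Subgroup.card_mul_index (commutator X)
  rw [hX, hw] at hmul
  have h2k : (2 : ℕ) ^ k = 2 ^ (k - 2) * 4 := by
    have : k = (k - 2) + 2 := by omega
    conv_lhs => rw [this, pow_add]
    norm_num
  rw [h2k, mul_assoc] at hmul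
  have h4 : w * (commutator X).index = 4 := Nat.eq_of_mul_eq_mul_left (by positivity) hmul
  have hdvd : (commutator X).index ∣ 2 ^ 2 := ⟨w, by rw [mul_comm]; omega⟩
  obtain ⟨i, hi, hiC⟩ := (Nat.dvd_prime_pow Nat.prime_two).mp hdvd
  have hi4 : (commutator X).index = 4 := by
    interval_cases i
    · exact absurd hiC h1
    · exact absurd hiC h2
    · rw [hiC]; rfl
  exact Cfsg.Agent.Lib.Transfer.class_of_index_commutator k X hk hX hi4

/-- The radical of the commutator form. -/
theorem exists_radical {n : ℕ} (hn : 4 ≤ n) (hX : Nat.card X = 2 ^ n) (hg : Group.nilpotencyClass X ≠ n - 1)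
    [Fact (Nat.Prime 2)] (H : Subgroup X) (hHi : H.index = 2) (hH2 : Group.nilpotencyClass H = n - 2) :
    ∃ R : Subgroup X, R ≠ ⊤ ∧ ∀ M : Subgroup X, M.index = 2 → (Group.nilpotencyClass M = n - 2 ↔ ¬ R ≤ M) := by
  have hP : IsPGroup 2 X := IsPGroup.of_card hX
  have hcardH := card_of_index (p := 2) (n := n) (by omega) hX H hHi
  have hco : IsCoatom H := Cfsg.Agent.Lib.Transfer.isCoatom_of_index_prime (by rw [hHi]; exact Nat.prime_two)
  obtain ⟨d', b', e, hd', hb', hrel', he, -, -⟩ :=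
    bad_data (X := H) (n := n - 1) (by omega) hcardH (by rw [hH2]; omega)
  obtain ⟨d, hddef⟩ : ∃ d : X, d = (d' : X) := ⟨_, rfl⟩
  obtain ⟨b, hbdef⟩ : ∃ b : X, b = (b' : X) := ⟨_, rfl⟩
  have hdH : d ∈ H := hddef ▸ d'.2
  have hbH : b ∈ H := hbdef ▸ b'.2
  have hd : orderOf d = 2 ^ (n - 2) := by
    rw [hddef, Subgroup.orderOf_coe, hd']
    congr 1
  have hrel : b * d * b⁻¹ = d ^ e := by
    have := congrArg Subtype.val hrel'
    simpa [hddef, hbdef] using this
  obtain ⟨t, rfl⟩ : ∃ t : ℤ, e = 4 * t + 3 := ⟨e / 4, by omega⟩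
  obtain ⟨z, hzdef⟩ : ∃ z : X, z = d ^ 2 := ⟨_, rfl⟩
  have hzH : z ∈ H := by rw [hzdef]; exact H.pow_mem hdH 2
  have hoz : orderOf z = 2 ^ (n - 3) := by
    rw [hzdef, orderOf_pow_of_dvd (by norm_num) (by rw [hd]; exact dvd_pow_self 2 (by omega)), hd]
    obtain ⟨j, hj⟩ : ∃ j, n - 2 = j + 1 := ⟨n - 3, by omega⟩
    have hj2 : n - 3 = j := by omega
    rw [hj, hj2, pow_succ, Nat.mul_div_cancel _ (by norm_num)]
  have hz1 : z ≠ 1 := by
    intro h
    rw [h, orderOf_one] at hoz
    have : (2 : ℕ) ^ 1 ≤ 2 ^ (n - 3) := Nat.pow_le_pow_right (by norm_num) (by omega)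
    omega
  have hbdc : b * d * b⁻¹ * d⁻¹ = z ^ (2 * t + 1) := by
    rw [hrel, ← zpow_sub_one, hzdef, ← zpow_natCast d 2, ← zpow_mul]
    congr 1
    push_cast
    ring
  have hzX : z ∈ commutator X := by
    have h1 : z ^ (2 * t + 1) ∈ commutator X := by
      rw [← hbdc, _root_.commutator_def]
      have := Subgroup.commutator_mem_commutator (mem_top b) (mem_top d)
      rwa [commutatorElement_def] at this
    obtain ⟨u, hu⟩ := exists_zpow_of_odd hoz (2 * t + 1) ⟨t, rfl⟩
    rw [← hu]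
    exact (commutator X).zpow_mem h1 u
  have hna : ∃ x y : X, x * y ≠ y * x := by
    refine ⟨b, d, ?_⟩
    intro h
    have h1 : z ^ (2 * t + 1) = 1 := by
      rw [← hbdc, h]
      group
    obtain ⟨u, hu⟩ := exists_zpow_of_odd hoz (2 * t + 1) ⟨t, rfl⟩
    rw [h1, one_zpow] at hu
    exact hz1 hu.symm
  have hQcard : Nat.card (zpowers z) = 2 ^ (n - 3) := by rw [Nat.card_zpowers, hoz]
  have hQle : zpowers z ≤ commutator X := by
    rw [Subgroup.zpowers_le]
    exact hzX
  -- the commutator subgroup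
  have hQeq : commutator X = zpowers z := by
    obtain ⟨h1, h2⟩ := index_commutator_ne hP hna
    obtain ⟨w, hw⟩ : (2 : ℕ) ^ (n - 3) ∣ Nat.card (commutator X) := by
      rw [← hQcard]
      exact Subgroup.card_dvd_of_le hQle
    have hmul := Subgroup.card_mul_index (commutator X)
    rw [hX, hw] at hmul
    have h2k : (2 : ℕ) ^ n = 2 ^ (n - 3) * 8 := by
      have : n = (n - 3) + 3 := by omega
      conv_lhs => rw [this, pow_add]
      norm_num
    rw [h2k, mul_assoc] at hmul
    have h4 : w * (commutator X).index = 8 := Nat.eq_of_mul_eq_mul_left (by positivity) hmul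
    have hdvd : (commutator X).index ∣ 2 ^ 3 := ⟨w, by rw [mul_comm]; omega⟩
    obtain ⟨i, hi, hiC⟩ := (Nat.dvd_prime_pow Nat.prime_two).mp hdvd
    interval_cases i
    · exact absurd hiC h1
    · exact absurd hiC h2
    · exfalso
      exact hg (Cfsg.Agent.Lib.Transfer.class_of_index_commutator n X (by omega) hX hiC)
    · symm
      apply Subgroup.eq_of_le_of_card_ge hQle
      rw [hQcard, hw]
      rw [hiC] at h4
      have : w = 1 := by omega
      rw [this, mul_one]
  have hcm : ∀ x y : X, x * y * x⁻¹ * y⁻¹ ∈ zpowers z := by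
    intro x y
    rw [← hQeq, _root_.commutator_def]
    have := Subgroup.commutator_mem_commutator (mem_top x) (mem_top y)
    rwa [commutatorElement_def] at this
  have hconj : ∀ g : X, ∃ j : ℤ, z ^ j = g * z * g⁻¹ := by
    intro g
    have h1 : g * z * g⁻¹ ∈ commutator X := (inferInstance : (commutator X).Normal).conj_mem z hzX g
    rw [hQeq] at h1
    exact Subgroup.mem_zpowers_iff.mp h1
  have hQ₂n : (zpowers (z ^ 2)).Normal := by
    constructor
    intro s hs g
    obtain ⟨i, rfl⟩ := Subgroup.mem_zpowers_iff.mp hs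
    obtain ⟨j, hj⟩ := hconj g
    have h1 : g * (z ^ 2) ^ i * g⁻¹ = (z ^ 2) ^ (j * i) := by
      calc g * (z ^ 2) ^ i * g⁻¹ = (g * z ^ 2 * g⁻¹) ^ i := (conj_zpow).symm
        _ = ((g * z * g⁻¹) ^ 2) ^ i := by rw [conj_pow]
        _ = ((z ^ j) ^ 2) ^ i := by rw [hj]
        _ = _ := by
          rw [← zpow_natCast (z ^ j), ← zpow_mul, ← zpow_natCast z 2, ← zpow_mul, ← zpow_mul]
          congr 1
          ring
    rw [h1]
    exact Subgroup.zpow_mem_zpowers _ _
  haveI := hQ₂n
  let π := QuotientGroup.mk' (zpowers (z ^ 2))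
  have hπsurj : Function.Surjective π := QuotientGroup.mk'_surjective _
  have hπ1 : ∀ x : X, π x = 1 ↔ x ∈ zpowers (z ^ 2) := fun x => QuotientGroup.eq_one_iff x
  obtain ⟨c, hcdef⟩ : ∃ c, c = π z := ⟨_, rfl⟩
  have hc2 : c * c = 1 := by
    rw [hcdef, ← map_mul, hπ1, ← sq]
    exact mem_zpowers _
  have hc2' : c ^ (2 : ℤ) = 1 := by
    rw [zpow_two, hc2]
  have hc1 : c ≠ 1 := by
    rw [hcdef]
    intro h
    obtain ⟨i, hi⟩ := Subgroup.mem_zpowers_iff.mp ((hπ1 z).mp h)
    have h1 : z ^ (2 * i - 1) = 1 := by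
      rw [zpow_sub_one, mul_inv_eq_one]
      conv_rhs => rw [← hi]
      rw [← zpow_natCast z 2, ← zpow_mul]
      rfl
    have h2 := orderOf_dvd_iff_zpow_eq_one.mpr h1
    rw [hoz] at h2
    have h3 : (2 : ℤ) ∣ ((2 ^ (n - 3) : ℕ) : ℤ) := by
      push_cast
      exact dvd_pow_self 2 (by omega)
    have h4 := h3.trans h2
    omega
  have hcpow : ∀ j : ℤ, c ^ j = 1 ∨ c ^ j = c := by
    intro j
    rcases Int.even_or_odd' j with ⟨k, rfl | rfl⟩
    · left
      rw [zpow_mul, hc2', one_zpow]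
    · right
      rw [zpow_add, zpow_mul, hc2', one_zpow, one_mul, zpow_one]
  have hπc : ∀ j : ℤ, π (z ^ j) = c ^ j := by
    intro j
    rw [map_zpow, hcdef]
  have hY : ∀ x y : X ⧸ zpowers (z ^ 2), x * y = y * x ∨ x * y = c * (y * x) := by
    intro x y
    obtain ⟨x', rfl⟩ := hπsurj x
    obtain ⟨y', rfl⟩ := hπsurj y
    obtain ⟨j, hj⟩ := Subgroup.mem_zpowers_iff.mp (hcm x' y')
    have h1 : π x' * π y' = π (x' * y' * x'⁻¹ * y'⁻¹) * (π y' * π x') := by
      simp only [map_mul, map_inv]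
      group
    rw [← hj, hπc] at h1
    rcases hcpow j with h2 | h2
    · left
      rw [h1, h2, one_mul]
    · right
      rw [h1, h2]
  have hcc : ∀ g : X ⧸ zpowers (z ^ 2), g * c = c * g := by
    intro g
    obtain ⟨g', rfl⟩ := hπsurj g
    obtain ⟨j, hj⟩ := hconj g'
    have h1 : π g' * c * (π g')⁻¹ = c ^ j := by
      rw [← hπc, hj, hcdef]
      simp only [map_mul, map_inv]
    rcases hcpow j with h2 | h2
    · exfalso
      rw [h2, conj_eq_one_iff] at h1
      exact hc1 h1
    · rw [h2, mul_inv_eq_iff_eq_mul] at h1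
      exact h1
  obtain ⟨D, hDdef⟩ : ∃ D, D = π d := ⟨_, rfl⟩
  obtain ⟨B, hBdef⟩ : ∃ B, B = π b := ⟨_, rfl⟩
  have hBD : B * D = c * (D * B) := by
    have h1 : π (b * d * b⁻¹ * d⁻¹) = c := by
      rw [hbdc, hπc]
      rw [zpow_add, zpow_mul, hc2', one_zpow, one_mul, zpow_one]
    have h2 : B * D = π (b * d * b⁻¹ * d⁻¹) * (D * B) := by
      rw [hDdef, hBdef]
      simp only [map_mul, map_inv]
      group
    rw [h2, h1]
  have hDB : D * B = c * (B * D) := by rw [hBD, ← mul_assoc, hc2, one_mul]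
  have hnotcomm : B * D ≠ D * B := by
    intro h
    rw [h] at hBD
    have := mul_eq_right.mp hBD.symm
    exact hc1 this
  -- the central element
  obtain ⟨t₀, -, ht₀⟩ : ∃ t₀, t₀ ∈ (⊤ : Subgroup X) ∧ t₀ ∉ H := SetLike.exists_of_lt hco.lt_top
  obtain ⟨h₀, hh₀H, hh₀D, hh₀B⟩ : ∃ h₀ ∈ H, π (t₀ * h₀) * D = D * π (t₀ * h₀) ∧ π (t₀ * h₀) * B = B * π (t₀ * h₀) := by
    obtain ⟨hbar, hh, h1, h2⟩ := exists_comm_both c hcc hc2 hY D B (π t₀) hDB
    rcases hh with rfl | rfl | rfl | rfl
    · exact ⟨1, H.one_mem, by simpa using h1, by simpa using h2⟩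
    · refine ⟨d, hdH, ?_, ?_⟩
      · rw [map_mul, ← hDdef]; exact h1
      · rw [map_mul, ← hDdef]; exact h2
    · refine ⟨b, hbH, ?_, ?_⟩
      · rw [map_mul, ← hBdef]; exact h1
      · rw [map_mul, ← hBdef]; exact h2
    · refine ⟨d * b, H.mul_mem hdH hbH, ?_, ?_⟩
      · rw [map_mul, map_mul, ← hDdef, ← hBdef]; exact h1
      · rw [map_mul, map_mul, ← hDdef, ← hBdef]; exact h2
  obtain ⟨r, hrdef⟩ : ∃ r, r = t₀ * h₀ := ⟨_, rfl⟩
  rw [← hrdef] at hh₀D hh₀B
  have hrH : r ∉ H := by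
    rw [hrdef]
    exact fun h => ht₀ ((H.mul_mem_cancel_right hh₀H).mp h)
  have hKtop : (Subgroup.centralizer {π r}).comap π = ⊤ := by
    have hHK : H ≤ (Subgroup.centralizer {π r}).comap π := by
      rw [← Subgroup.subgroupOf_eq_top]
      apply closure_eq_top_of_index (p := 2) (X := H) (a := d') (b := b')
        (IsPGroup.of_card hcardH) (index_zpowers_eq (by omega) hcardH d' hd') hb'
      · rw [Subgroup.mem_subgroupOf, Subgroup.mem_comap, Subgroup.mem_centralizer_singleton_iff, ← hddef, ← hDdef]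
        exact hh₀D.symm
      · rw [Subgroup.mem_subgroupOf, Subgroup.mem_comap, Subgroup.mem_centralizer_singleton_iff, ← hbdef, ← hBdef]
        exact hh₀B.symm
    have hrK : r ∈ (Subgroup.centralizer {π r}).comap π := by
      rw [Subgroup.mem_comap, Subgroup.mem_centralizer_singleton_iff]
    apply hco.2
    refine lt_of_le_of_ne hHK ?_
    intro h
    apply hrH
    rw [h]
    exact hrK
  let R : Subgroup X := (Subgroup.center (X ⧸ zpowers (z ^ 2))).comap π
  have hRmem : ∀ x, x ∈ R ↔ ∀ g, g * π x = π x * g := by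
    intro x
    rw [Subgroup.mem_comap, Subgroup.mem_center_iff]
  have hrR : r ∈ R := by
    rw [hRmem]
    intro g
    obtain ⟨g', rfl⟩ := hπsurj g
    have h1 : g' ∈ (Subgroup.centralizer {π r}).comap π := by rw [hKtop]; trivial
    rw [Subgroup.mem_comap, Subgroup.mem_centralizer_singleton_iff] at h1
    exact h1
  have hzR : z ∈ R := by
    rw [hRmem, ← hcdef]
    exact hcc
  have hQR : zpowers z ≤ R := by
    rw [Subgroup.zpowers_le]
    exact hzR
  haveI hRn : R.Normal := (inferInstance : (Subgroup.center (X ⧸ zpowers (z ^ 2))).Normal).comap π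
  have hRtop : R ≠ ⊤ := by
    intro h
    have h1 : d ∈ R := by rw [h]; trivial
    rw [hRmem] at h1
    apply hnotcomm
    rw [hDdef]
    exact h1 B
  have hsup : H ⊔ R = ⊤ := by
    apply hco.2
    refine lt_of_le_of_ne le_sup_left ?_
    intro h
    apply hrH
    rw [h]
    exact (le_sup_right : R ≤ H ⊔ R) hrR
  have hQidx : (zpowers z).index = 8 := by
    have h1 := Subgroup.card_mul_index (zpowers z)
    rw [hQcard, hX] at h1
    have h2k : (2 : ℕ) ^ n = 2 ^ (n - 3) * 8 := by
      have : n = (n - 3) + 3 := by omega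
      conv_lhs => rw [this, pow_add]
      norm_num
    rw [h2k] at h1
    exact Nat.eq_of_mul_eq_mul_left (by positivity) h1
  have hQH : zpowers z ≤ H := by
    rw [Subgroup.zpowers_le]
    exact hzH
  have hRdvd : R.index ∣ 4 := by
    have h1 : R.relIndex (H ⊔ R) = R.relIndex H := Subgroup.relIndex_sup_right H R
    rw [hsup, Subgroup.relIndex_top_right] at h1
    have h2 := Subgroup.relIndex_mul_index hQH
    rw [hHi, hQidx] at h2
    have h3 : (zpowers z).relIndex H = 4 := by omega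
    rw [h1, ← h3]
    exact Subgroup.relIndex_dvd_of_le_left H hQR
  have hR4 : R.index = 4 := by
    have hdvd : R.index ∣ 2 ^ 2 := hRdvd
    obtain ⟨i, hi, hiC⟩ := (Nat.dvd_prime_pow Nat.prime_two).mp hdvd
    interval_cases i
    · exfalso
      apply hRtop
      exact Subgroup.index_eq_one.mp hiC
    · exfalso
      have h1 : (Subgroup.center (X ⧸ zpowers (z ^ 2))).index = 2 := by
        have h2 : R.index = (Subgroup.center (X ⧸ zpowers (z ^ 2))).index :=
          Subgroup.index_comap_of_surjective _ hπsurj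
        rw [← h2, hiC]
        rfl
      have h3 : Nat.card ((X ⧸ zpowers (z ^ 2)) ⧸ Subgroup.center (X ⧸ zpowers (z ^ 2))) = 2 := h1
      haveI : IsCyclic ((X ⧸ zpowers (z ^ 2)) ⧸ Subgroup.center (X ⧸ zpowers (z ^ 2))) :=
        isCyclic_of_prime_card h3
      apply hnotcomm
      apply commutative_of_cyclic_center_quotient (QuotientGroup.mk' (Subgroup.center (X ⧸ zpowers (z ^ 2))))
      rw [QuotientGroup.ker_mk']
    · rw [hiC]; rfl
  refine ⟨R, hRtop, ?_⟩
  intro M hM
  have hcardM := card_of_index (p := 2) (n := n) (by omega) hX M hM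
  have hcoM : IsCoatom M := Cfsg.Agent.Lib.Transfer.isCoatom_of_index_prime (by rw [hM]; exact Nat.prime_two)
  constructor
  · -- maximal class forces `R ≰ M`
    intro hcl hle
    have hrel2 : (R.subgroupOf M).index = 2 := by
      have h1 := Subgroup.relIndex_mul_index hle
      rw [hM, hR4] at h1
      have h2 : R.relIndex M = 2 := by omega
      exact h2
    have hcommM : ∀ m₁ ∈ M, ∀ m₂ ∈ M, π m₁ * π m₂ = π m₂ * π m₁ := by
      intro m₁ hm₁ m₂ hm₂
      by_cases h1 : m₁ ∈ R
      · exact ((hRmem m₁).mp h1 (π m₂)).symm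
      by_cases h2 : m₂ ∈ R
      · exact (hRmem m₂).mp h2 (π m₁)
      have h3 : m₁ * m₂ ∈ R := by
        have h4 : (⟨m₁, hm₁⟩ : M) * ⟨m₂, hm₂⟩ ∈ R.subgroupOf M := by
          rw [Subgroup.mul_mem_iff_of_index_two hrel2, Subgroup.mem_subgroupOf, Subgroup.mem_subgroupOf]
          exact iff_of_false h1 h2
        rw [Subgroup.mem_subgroupOf] at h4
        exact h4
      have h8 := (hRmem _).mp h3 (π m₁)
      rw [map_mul] at h8
      exact mul_left_cancel (a := π m₁) (by rw [h8, mul_assoc])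
    have hmap : (commutator M).map M.subtype ≤ zpowers (z ^ 2) := by
      rw [Subgroup.map_le_iff_le_comap, _root_.commutator_def, Subgroup.commutator_le]
      intro x _ y _
      rw [Subgroup.mem_comap, commutatorElement_def]
      rw [← hπ1]
      have h1 := hcommM x x.2 y y.2
      simp only [Subgroup.subtype_apply, Subgroup.coe_mul, Subgroup.coe_inv, map_mul, map_inv]
      rw [h1]
      group
    have hc1 : Nat.card (commutator M) ≤ 2 ^ (n - 4) := by
      have h1 := Subgroup.card_le_of_le hmap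
      rw [Subgroup.card_map_of_injective M.subtype_injective] at h1
      have h2 : Nat.card (zpowers (z ^ 2)) = 2 ^ (n - 4) := by
        rw [Nat.card_zpowers, orderOf_pow_of_dvd (by norm_num) (by rw [hoz]; exact dvd_pow_self 2 (by omega)), hoz]
        obtain ⟨j, hj⟩ : ∃ j, n - 3 = j + 1 := ⟨n - 4, by omega⟩
        have hj2 : n - 4 = j := by omega
        rw [hj, hj2, pow_succ, Nat.mul_div_cancel _ (by norm_num)]
      rwa [h2] at h1
    have hPM : IsPGroup 2 M := IsPGroup.of_card hcardM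
    have h2 := Cfsg.Agent.Lib.Transfer.pow_le_card_commutator hPM (by rw [hcl]; omega)
    rw [hcl] at h2
    have h3 : (2 : ℕ) ^ (n - 4) < 2 ^ (n - 2 - 1) := Nat.pow_lt_pow_right (by norm_num) (by omega)
    omega
  · -- conversely
    intro hnle
    have hsupM : M ⊔ R = ⊤ := by
      apply hcoM.2
      refine lt_of_le_of_ne le_sup_left ?_
      intro h
      apply hnle
      rw [h]
      exact le_sup_right
    have hdec : ∀ x : X, ∃ m ∈ M, ∃ ρ ∈ R, m * ρ = x := by
      intro x
      have h1 : x ∈ ((M ⊔ R : Subgroup X) : Set X) := by rw [hsupM]; trivial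
      rw [Subgroup.mul_normal] at h1
      obtain ⟨m, hm, ρ, hρ, h⟩ := Set.mem_mul.mp h1
      exact ⟨m, hm, ρ, hρ, h⟩
    obtain ⟨m₁, hm₁, ρ₁, hρ₁, h1⟩ := hdec d
    obtain ⟨m₂, hm₂, ρ₂, hρ₂, h2⟩ := hdec b
    have hρ₁' := (hRmem _).mp hρ₁
    have hρ₂' := (hRmem _).mp hρ₂
    have hD' : D = π m₁ * π ρ₁ := by rw [hDdef, ← h1, map_mul]
    have hB' : B = π m₂ * π ρ₂ := by rw [hBdef, ← h2, map_mul]
    have hmm : π m₂ * π m₁ = c * (π m₁ * π m₂) := by
      have h3 : B * D = π m₂ * π m₁ * (π ρ₂ * π ρ₁) := by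
        rw [hB', hD']
        calc π m₂ * π ρ₂ * (π m₁ * π ρ₁) = π m₂ * (π ρ₂ * π m₁) * π ρ₁ := by simp only [mul_assoc]
          _ = π m₂ * (π m₁ * π ρ₂) * π ρ₁ := by rw [hρ₂' (π m₁)]
          _ = _ := by simp only [mul_assoc]
      have h4 : D * B = π m₁ * π m₂ * (π ρ₂ * π ρ₁) := by
        rw [hB', hD']
        calc π m₁ * π ρ₁ * (π m₂ * π ρ₂) = π m₁ * (π ρ₁ * π m₂) * π ρ₂ := by simp only [mul_assoc]
          _ = π m₁ * (π m₂ * π ρ₁) * π ρ₂ := by rw [hρ₁' (π m₂)]
          _ = π m₁ * π m₂ * (π ρ₁ * π ρ₂) := by simp only [mul_assoc]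
          _ = π m₁ * π m₂ * (π ρ₂ * π ρ₁) := by
              rw [hρ₁' (π ρ₂)]
      rw [h3, h4, ← mul_assoc c] at hBD
      exact mul_right_cancel hBD
    obtain ⟨j, hj⟩ := Subgroup.mem_zpowers_iff.mp (hcm m₂ m₁)
    have hπw : π (m₂ * m₁ * m₂⁻¹ * m₁⁻¹) = c := by
      have h3 : π (m₂ * m₁ * m₂⁻¹ * m₁⁻¹) = (π m₂ * π m₁) * (π m₁ * π m₂)⁻¹ := by
        simp only [map_mul, map_inv]
        group
      rw [h3, hmm, mul_inv_cancel_right]
    have hjodd : Odd j := by
      rcases Int.even_or_odd j with hev | hod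
      · exfalso
        obtain ⟨k, rfl⟩ := hev
        apply hc1
        rw [← hπw, ← hj, hπc, ← two_mul, zpow_mul, hc2', one_zpow]
      · exact hod
    obtain ⟨u, hu⟩ := exists_zpow_of_odd hoz j hjodd
    rw [hj] at hu
    have hzM : z ∈ M := by
      have h3 : d * d ∈ M := by
        rw [Subgroup.mul_mem_iff_of_index_two hM]
      rw [hzdef, sq]
      exact h3
    let m₁' : M := ⟨m₁, hm₁⟩
    let m₂' : M := ⟨m₂, hm₂⟩
    let z' : M := ⟨z, hzM⟩
    have hz'X : z' ∈ commutator M := by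
      have h3 : ⁅m₂', m₁'⁆ ∈ commutator M := by
        rw [_root_.commutator_def]
        exact Subgroup.commutator_mem_commutator (mem_top _) (mem_top _)
      have h4 : z' = ⁅m₂', m₁'⁆ ^ u := by
        apply Subtype.ext
        rw [Subgroup.coe_zpow]
        show z = (m₂ * m₁ * m₂⁻¹ * m₁⁻¹) ^ u
        exact hu.symm
      rw [h4]
      exact (commutator M).zpow_mem h3 u
    have hoz' : orderOf z' = 2 ^ (n - 1 - 2) := by
      rw [Subgroup.orderOf_mk, hoz]
      rfl
    have hd2 : (2 : ℕ) ^ (n - 1 - 2) ∣ Nat.card (commutator M) := by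
      rw [← hoz', ← Nat.card_zpowers]
      apply Subgroup.card_dvd_of_le
      rw [Subgroup.zpowers_le]
      exact hz'X
    have hnaM : ∃ x y : M, x * y ≠ y * x := by
      refine ⟨m₂', m₁', ?_⟩
      intro h
      have h3 : m₂ * m₁ = m₁ * m₂ := congrArg Subtype.val h
      rw [← map_mul, ← map_mul, h3] at hmm
      exact hc1 (mul_eq_right.mp hmm.symm)
    have := class_of_large_commutator (k := n - 1) (by omega) hcardM hnaM hd2
    rw [this]
    omega

open Classical in
/-- The number of maximal subgroups of maximal class is even if the group is not of maximal class. -/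
theorem even_card_bad_good {n : ℕ} (hn : 4 ≤ n) (hX : Nat.card X = 2 ^ n) (hg : Group.nilpotencyClass X ≠ n - 1)
    [Fact (Nat.Prime 2)] :
    Even ((maxSet 2 X).filter (fun M : Subgroup X => Group.nilpotencyClass M = n - 2)).card := by
  have hP : IsPGroup 2 X := IsPGroup.of_card hX
  by_cases hem : (maxSet 2 X).filter (fun M : Subgroup X => Group.nilpotencyClass M = n - 2) = ∅
  · rw [hem]
    simp
  obtain ⟨H, hH⟩ := Finset.nonempty_iff_ne_empty.mpr hem
  obtain ⟨hH1, hH2⟩ := Finset.mem_filter.mp hH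
  obtain ⟨R, hRt, hR⟩ := exists_radical hn hX hg H (mem_maxSet.mp hH1) hH2
  have h1 : (maxSet 2 X).filter (fun M : Subgroup X => Group.nilpotencyClass M = n - 2) =
      (maxSet 2 X).filter (fun M : Subgroup X => ¬ R ≤ M) :=
    Finset.filter_congr (fun M hM => hR M (mem_maxSet.mp hM))
  rw [h1]
  have h2 := Finset.card_filter_add_card_filter_not (s := maxSet 2 X) (fun M : Subgroup X => R ≤ M)
  rw [← maxCount_eq_card (p := 2) R] at h2
  have hodd : ∀ V : Subgroup X, V ≠ ⊤ → maxCount 2 V % 2 = 1 := by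
    intro V hV
    rcases maxCount_cases hP V hV with ⟨h3, -⟩ | ⟨h3, -⟩
    · rw [h3]
    · have h4 : maxCount 2 V % 4 = 3 := h3
      omega
  have hntriv : (⊥ : Subgroup X) ≠ ⊤ := by
    intro h
    have h3 := Subgroup.card_top (G := X)
    rw [← h, Subgroup.card_bot, hX] at h3
    have : (2 : ℕ) ^ 1 ≤ 2 ^ n := Nat.pow_le_pow_right (by norm_num) (by omega)
    omega
  have h3 := hodd R hRt
  have h4 := hodd ⊥ hntriv
  rw [← maxSet_card_eq] at h4
  rw [Nat.even_iff]
  omega

end Cfsg.Agent.Lib.PGroups.Kul
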