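import Cfsg.Agent.Lib.PGroups.Frobenius2
import Cfsg.Agent.Lib.Transfer.IndexP

/-! Miller's theorem: in a non-cyclic `p`-group, `p` odd, `p ^ s` divides the number of elements of order
`p ^ s`, for `s ≥ 2`.  Also the counting of maximal subgroups over a given subgroup of a `p`-group. -/

set_option autoImplicit false

namespace Cfsg.Agent.Lib.PGroups

open Subgroup Finset

universe u

variable {p : ℕ} [hpf : Fact p.Prime]

section Hom

variable {R : Type*} [Group R] [Finite R]

private theorem card_A : Nat.card (Multiplicative (ZMod p)) = p := by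
  rw [Nat.card_congr Multiplicative.toAdd, Nat.card_zmod]

private theorem pow_A (a : Multiplicative (ZMod p)) : a ^ p = 1 := by
  have := pow_card_eq_one' (x := a)
  rwa [card_A] at this

private instance : Finite (R →* Multiplicative (ZMod p)) :=
  Finite.of_injective (fun f => (f : R → Multiplicative (ZMod p))) DFunLike.coe_injective

private theorem isPGroup_hom : IsPGroup p (R →* Multiplicative (ZMod p)) := by
  intro φ
  refine ⟨1, ?_⟩
  rw [pow_one]
  apply MonoidHom.ext
  intro x
  show (φ x) ^ p = 1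
  rw [pow_A]

/-- homs trivial on `V`. -/
private def homT (p : ℕ) [Fact p.Prime] (V : Subgroup R) : Subgroup (R →* Multiplicative (ZMod p)) where
  carrier := {φ | V ≤ φ.ker}
  mul_mem' := by
    intro a b ha hb x hx
    have h1 : a x = 1 := ha hx
    have h2 : b x = 1 := hb hx
    rw [MonoidHom.mem_ker, MonoidHom.mul_apply, h1, h2, one_mul]
  one_mem' := by
    intro x _
    rw [MonoidHom.mem_ker, MonoidHom.one_apply]
  inv_mem' := by
    intro a ha x hx
    have h1 : a x = 1 := ha hx
    rw [MonoidHom.mem_ker, MonoidHom.inv_apply, h1, inv_one]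

private theorem dvd_card_succ (V : Subgroup R)
    (hne : ∃ φ : R →* Multiplicative (ZMod p), V ≤ φ.ker ∧ φ ≠ 1) :
    p ∣ Nat.card {φ : R →* Multiplicative (ZMod p) // V ≤ φ.ker ∧ φ ≠ 1} + 1 := by
  classical
  haveI := Fintype.ofFinite (R →* Multiplicative (ZMod p))
  have h1 : Nat.card (homT p V) =
      Nat.card {φ : R →* Multiplicative (ZMod p) // V ≤ φ.ker ∧ φ ≠ 1} + 1 := by
    have hx : Nat.card {φ : R →* Multiplicative (ZMod p) // V ≤ φ.ker ∧ φ ≠ 1} =
        (univ.filter (fun φ : R →* Multiplicative (ZMod p) => V ≤ φ.ker ∧ φ ≠ 1)).card :=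
      Nat.subtype_card _ (by simp)
    rw [hx]
    have h2 : Nat.card (homT p V) =
        (insert (1 : R →* Multiplicative (ZMod p))
          (univ.filter (fun φ : R →* Multiplicative (ZMod p) => V ≤ φ.ker ∧ φ ≠ 1))).card := by
      apply Nat.subtype_card
      intro φ
      simp only [Finset.mem_insert, Finset.mem_filter, Finset.mem_univ, true_and]
      constructor
      · rintro (rfl | h)
        · exact (homT p V).one_mem
        · exact h.1
      · intro h
        by_cases hφ : φ = 1
        · exact Or.inl hφ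
        · exact Or.inr ⟨h, hφ⟩
    rw [h2, Finset.card_insert_of_notMem]
    simp
  rw [← h1]
  have hP : IsPGroup p (homT p V) := isPGroup_hom.to_subgroup _
  obtain ⟨r, hr⟩ := IsPGroup.iff_card.mp hP
  rw [hr]
  obtain ⟨φ, hφ1, hφ2⟩ := hne
  apply dvd_pow_self
  rintro rfl
  rw [pow_zero] at hr
  have hbot := Subgroup.card_eq_one.mp hr
  have : φ ∈ homT p V := hφ1
  rw [hbot] at this
  exact hφ2 (Subgroup.mem_bot.mp this)

private theorem exists_hom_ker_eq (hR : IsPGroup p R) {M : Subgroup R} (hM : M.index = p) :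
    ∃ φ : R →* Multiplicative (ZMod p), φ.ker = M := by
  have hp : p.Prime := hpf.out
  have hco : IsCoatom M := Cfsg.Agent.Lib.Transfer.isCoatom_of_index_prime (by rw [hM]; exact hp)
  obtain ⟨hn, -⟩ := Cfsg.Agent.Lib.Transfer.normal_and_index_of_isCoatom hR hco
  haveI := hn
  have hcard : Nat.card (R ⧸ M) = p := by rw [← Subgroup.index_eq_card, hM]
  let e : (R ⧸ M) ≃* Multiplicative (ZMod p) := mulEquivOfPrimeCardEq hcard card_A
  refine ⟨(e.toMonoidHom).comp (QuotientGroup.mk' M), ?_⟩
  ext x
  rw [MonoidHom.mem_ker, MonoidHom.comp_apply]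
  simp only [MulEquiv.toMonoidHom_eq_coe, MonoidHom.coe_coe, map_eq_one_iff _ e.injective,
    QuotientGroup.mk'_apply, QuotientGroup.eq_one_iff]

private theorem index_ker_eq {φ : R →* Multiplicative (ZMod p)} (hφ : φ ≠ 1) : φ.ker.index = p := by
  have hp : p.Prime := hpf.out
  rw [Subgroup.index_ker]
  have hd : Nat.card φ.range ∣ p := by
    have := Subgroup.card_subgroup_dvd_card φ.range
    rwa [card_A] at this
  rcases (Nat.dvd_prime hp).mp hd with h | h
  · exfalso
    have := Subgroup.card_eq_one.mp h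
    apply hφ
    rw [MonoidHom.range_eq_bot_iff] at this
    exact this
  · exact h

/-- In a finite `p`-group, the number of subgroups of index `p` containing a given proper subgroup
is `≡ 1 mod p`. -/
theorem card_index_prime_modEq (hR : IsPGroup p R) (U : Subgroup R) (hU : U ≠ ⊤) :
    Nat.card {M : Subgroup R // M.index = p ∧ U ≤ M} ≡ 1 [MOD p] := by
  classical
  haveI := Fintype.ofFinite (R →* Multiplicative (ZMod p))
  haveI := Fintype.ofFinite (Subgroup R)
  have hp : p.Prime := hpf.out
  haveI : NeZero p := ⟨hp.ne_zero⟩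
  rw [Nat.subtype_card (univ.filter (fun M : Subgroup R => M.index = p ∧ U ≤ M)) (by simp)]
  set 𝓗 := univ.filter (fun M : Subgroup R => M.index = p ∧ U ≤ M) with h𝓗
  let S : Subgroup R → Finset (R →* Multiplicative (ZMod p)) :=
    fun V => univ.filter (fun φ : R →* Multiplicative (ZMod p) => V ≤ φ.ker ∧ φ ≠ 1)
  have hSc : ∀ V, Nat.card {φ : R →* Multiplicative (ZMod p) // V ≤ φ.ker ∧ φ ≠ 1} = (S V).card :=
    fun V => Nat.subtype_card _ (by simp [S])
  have hne : ∀ M ∈ 𝓗, ∃ φ : R →* Multiplicative (ZMod p), M ≤ φ.ker ∧ φ ≠ 1 := by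
    intro M hM
    have hMi : M.index = p := (Finset.mem_filter.mp hM).2.1
    obtain ⟨φ, hφ⟩ := exists_hom_ker_eq hR hMi
    refine ⟨φ, hφ.ge, ?_⟩
    rintro rfl
    have : M = ⊤ := by
      rw [← hφ]
      ext x; simp
    rw [this, Subgroup.index_top] at hMi
    exact hp.one_lt.ne hMi
  -- `U` lies in a maximal subgroup
  obtain ⟨M₀, hM₀⟩ : ∃ M₀, M₀ ∈ 𝓗 := by
    rcases eq_top_or_exists_le_coatom U with h | ⟨M, hM, hUM⟩
    · exact absurd h hU
    · obtain ⟨-, hi⟩ := Cfsg.Agent.Lib.Transfer.normal_and_index_of_isCoatom hR hM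
      exact ⟨M, Finset.mem_filter.mpr ⟨Finset.mem_univ _, hi, hUM⟩⟩
  have hSU : p ∣ (S U).card + 1 := by
    rw [← hSc]
    apply dvd_card_succ
    obtain ⟨φ, h1, h2⟩ := hne M₀ hM₀
    exact ⟨φ, le_trans (Finset.mem_filter.mp hM₀).2.2 h1, h2⟩
  have hpart : (S U).card = ∑ M ∈ 𝓗, (S M).card := by
    rw [Finset.card_eq_sum_card_fiberwise (f := fun φ => φ.ker) (t := 𝓗)]
    · apply Finset.sum_congr rfl
      intro M hM
      have hMi : M.index = p := (Finset.mem_filter.mp hM).2.1
      have hUM : U ≤ M := (Finset.mem_filter.mp hM).2.2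
      congr 1
      ext φ
      simp only [S, Finset.mem_filter, Finset.mem_univ, true_and]
      constructor
      · rintro ⟨⟨-, h2⟩, h3⟩
        exact ⟨h3.ge, h2⟩
      · rintro ⟨h1, h2⟩
        refine ⟨⟨le_trans hUM h1, h2⟩, ?_⟩
        have hco : IsCoatom M := Cfsg.Agent.Lib.Transfer.isCoatom_of_index_prime (by rw [hMi]; exact hp)
        rcases (hco.le_iff.mp h1) with h | h
        · exfalso
          apply h2
          apply MonoidHom.ext
          intro x
          have : x ∈ φ.ker := by rw [h]; trivial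
          simpa using this
        · exact h
    · intro φ hφ
      have hφ' := (Finset.mem_filter.mp hφ).2
      exact Finset.mem_filter.mpr ⟨Finset.mem_univ _, index_ker_eq hφ'.2, hφ'.1⟩
  have hz : ∀ V, p ∣ (S V).card + 1 → (((S V).card : ℕ) : ZMod p) = -1 := by
    intro V hV
    have : (((S V).card + 1 : ℕ) : ZMod p) = 0 := (ZMod.natCast_eq_zero_iff _ _).mpr hV
    push_cast at this
    exact eq_neg_of_add_eq_zero_left this
  have h1 := hz U hSU
  rw [hpart, Nat.cast_sum, Finset.sum_congr rfl (fun M hM => hz M (by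
    rw [← hSc]; exact dvd_card_succ M (hne M hM)))] at h1
  rw [Finset.sum_const, nsmul_eq_mul, mul_neg, mul_one, neg_inj] at h1
  have := (ZMod.natCast_eq_natCast_iff 𝓗.card 1 p).mp (by simpa using h1)
  exact this

end Hom

section Lemmas

variable {R : Type*} [Group R]

open Classical in
/-- The number of generators of a cyclic group of order `p ^ k`. -/
theorem card_generators [Fintype R] {k : ℕ} {u₀ : R} (hu₀ : orderOf u₀ = p ^ k) :
    ((univ.filter (fun u : R => orderOf u = p ^ k)).filter
      (fun a => (zpowers a : Subgroup R) = zpowers u₀)).card = (p ^ k).totient := by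
  haveI : Fintype (zpowers u₀) := Fintype.ofFinite _
  have hcardU : Fintype.card (zpowers u₀) = p ^ k := by
    rw [← Nat.card_eq_fintype_card, Nat.card_zpowers, hu₀]
  have htot := IsCyclic.card_orderOf_eq_totient (α := zpowers u₀) (d := p ^ k) (by rw [hcardU])
  rw [← htot]
  symm
  apply Finset.card_bij (fun (a : zpowers u₀) _ => (a : R))
  · intro a ha
    have ha' : orderOf a = p ^ k := (Finset.mem_filter.mp ha).2
    have ha'' : orderOf (a : R) = p ^ k := by rw [← ha']; exact (Subgroup.orderOf_coe a)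
    refine Finset.mem_filter.mpr ⟨Finset.mem_filter.mpr ⟨Finset.mem_univ _, ha''⟩, ?_⟩
    apply Subgroup.eq_of_le_of_card_ge
    · rw [Subgroup.zpowers_le]; exact a.2
    · rw [Nat.card_zpowers, Nat.card_zpowers, ha'', hu₀]
  · intro a _ b _ hab
    exact Subtype.ext hab
  · intro b hb
    obtain ⟨hb1, hb2⟩ := Finset.mem_filter.mp hb
    have hb1' : orderOf b = p ^ k := (Finset.mem_filter.mp hb1).2
    have hbm : b ∈ zpowers u₀ := by rw [← hb2]; exact mem_zpowers b
    refine ⟨⟨b, hbm⟩, Finset.mem_filter.mpr ⟨Finset.mem_univ _, ?_⟩, rfl⟩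
    rw [← hb1']
    exact Subgroup.orderOf_mk b hbm

/-- `p ^ (s - 1)` always divides the number of elements of order `p ^ s`. -/
theorem dvd_card_orderOf_eq [Finite R] {s : ℕ} (hs : s ≠ 0) :
    p ^ (s - 1) ∣ Nat.card {x : R // orderOf x = p ^ s} := by
  classical
  haveI := Fintype.ofFinite R
  have h := dvd_sum_of_generators (G := R) hpf.out hs (fun _ => 1)
  simp only [Finset.sum_const, smul_eq_mul, mul_one] at h
  have h2 : Nat.card {x : R // orderOf x = p ^ s} = (univ.filter fun u : R => orderOf u = p ^ s).card :=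
    Nat.subtype_card _ (by simp)
  rw [h2]
  convert h

/-- If the `p`-power map of a finite `p`-group is a homomorphism with kernel of order `p ^ 2`, then
`p ^ s` divides the number of elements of order `p ^ s`, `s ≥ 2`. -/
theorem dvd_of_pow_hom [Finite R] {s : ℕ} (hs : 2 ≤ s) (hhom : ∀ x y : R, (x * y) ^ p = x ^ p * y ^ p)
    (hker : Nat.card {x : R // x ^ p = 1} = p ^ 2) :
    p ^ s ∣ Nat.card {x : R // orderOf x = p ^ s} := by
  classical
  haveI := Fintype.ofFinite R
  have hp : p.Prime := hpf.out
  let π : R →* R := MonoidHom.mk' (fun x => x ^ p) hhom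
  have hπ : ∀ x, π x = x ^ p := fun x => rfl
  have hiff : ∀ x : R, orderOf x = p ^ s ↔ orderOf (x ^ p) = p ^ (s - 1) := by
    intro x
    obtain ⟨j, rfl⟩ : ∃ j, s = j + 2 := ⟨s - 2, by omega⟩
    constructor
    · intro h
      rw [orderOf_pow_of_dvd hp.ne_zero (by rw [h]; exact dvd_pow_self p (by omega)), h]
      rw [show j + 2 - 1 = j + 1 by omega, pow_succ p (j + 1)]
      exact Nat.mul_div_cancel _ hp.pos
    · intro h
      rw [show j + 2 - 1 = j + 1 by omega] at h
      have h1 : x ^ p ^ (j + 2) = 1 := by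
        rw [pow_succ' p (j + 1), pow_mul, ← h]
        exact pow_orderOf_eq_one _
      obtain ⟨i, hi, hi2⟩ := (Nat.dvd_prime_pow hp).mp (orderOf_dvd_of_pow_eq_one h1)
      by_cases hij : i = j + 2
      · rw [hi2, hij]
      · exfalso
        have hle : i ≤ j + 1 := by omega
        have h2 : x ^ p ^ (j + 1) = 1 := by
          rw [← orderOf_dvd_iff_pow_eq_one, hi2]
          exact pow_dvd_pow p hle
        have h3 : (x ^ p) ^ p ^ j = 1 := by
          rw [← pow_mul, ← pow_succ']
          exact h2
        have h4 := orderOf_dvd_of_pow_eq_one h3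
        rw [h] at h4
        have := (Nat.pow_dvd_pow_iff_le_right hp.one_lt).mp h4
        omega
  have hcount : Nat.card {x : R // orderOf x = p ^ s} = (univ.filter fun u : R => orderOf u = p ^ s).card :=
    Nat.subtype_card _ (by simp)
  rw [hcount, Finset.card_eq_sum_card_fiberwise (f := fun x : R => x ^ p)
    (t := (univ.filter fun y : R => orderOf y = p ^ (s - 1)).filter (fun y => y ∈ π.range))]
  · have hfib : ∀ y ∈ (univ.filter fun y : R => orderOf y = p ^ (s - 1)).filter (fun y => y ∈ π.range),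
        ((univ.filter fun u : R => orderOf u = p ^ s).filter (fun x => x ^ p = y)).card = p ^ 2 := by
      intro y hy
      obtain ⟨hy1, x₀, hx₀⟩ := Finset.mem_filter.mp hy
      have hy1' : orderOf y = p ^ (s - 1) := (Finset.mem_filter.mp hy1).2
      rw [← hker, Nat.subtype_card (univ.filter fun x : R => x ^ p = 1) (by simp)]
      apply Finset.card_bij' (fun x _ => x₀⁻¹ * x) (fun z _ => x₀ * z)
      · intro x hx
        simp only [Finset.mem_filter, Finset.mem_univ, true_and] at hx ⊢
        have h1 : (x₀⁻¹ * x) ^ p = (x₀ ^ p)⁻¹ * x ^ p := by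
          rw [hhom, inv_pow]
        rw [h1, hx.2, ← hπ, hx₀, inv_mul_cancel]
      · intro z hz
        simp only [Finset.mem_filter, Finset.mem_univ, true_and] at hz ⊢
        have h1 : (x₀ * z) ^ p = y := by
          rw [hhom, hz, mul_one, ← hπ, hx₀]
        exact ⟨(hiff _).mpr (by rw [h1]; exact hy1'), h1⟩
      · intro x _; simp
      · intro z _; simp
    rw [Finset.sum_congr rfl hfib, Finset.sum_const, smul_eq_mul]
    have hd : p ^ (s - 2) ∣ ((univ.filter fun y : R => orderOf y = p ^ (s - 1)).filter (fun y => y ∈ π.range)).card := by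
      have h := dvd_sum_of_generators (G := R) hp (k := s - 1) (by omega)
        (fun U => if U ≤ π.range then 1 else 0)
      rw [show s - 1 - 1 = s - 2 by omega] at h
      rw [Finset.card_filter]
      convert h using 3 with y hy
      simp only [Subgroup.zpowers_le]
    have : p ^ s = p ^ (s - 2) * p ^ 2 := by rw [← pow_add]; congr 1; omega
    rw [this]
    exact Nat.mul_dvd_mul hd dvd_rfl
  · intro x hx
    have hx' : orderOf x = p ^ s := by simpa using hx
    simp only [Finset.coe_filter, Finset.mem_filter, Finset.mem_univ, true_and, Set.mem_ofPred_eq]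
    exact ⟨(hiff x).mp hx', ⟨x, rfl⟩⟩

end Lemmas

section Miller

theorem miller_aux (hp2 : p ≠ 2) {s : ℕ} (hs : 2 ≤ s) : ∀ (n : ℕ) (R : Type u) [Group R] [Finite R],
    Nat.card R = n → IsPGroup p R → ¬ IsCyclic R → p ^ s ∣ Nat.card {x : R // orderOf x = p ^ s} := by
  intro n
  induction n using Nat.strong_induction_on with
  | _ n IH =>
  intro R _ _ hn hR hnc
  classical
  haveI := Fintype.ofFinite R
  haveI := Fintype.ofFinite (Subgroup R)
  have hp : p.Prime := hpf.out
  by_cases hC : ∃ C : Subgroup R, IsCyclic C ∧ C.index = p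
  · obtain ⟨C, hC1, hC2⟩ := hC
    obtain ⟨h1, h2, h3⟩ := Cfsg.Agent.Lib.Transfer.pow_hom_of_cyclic_index_prime hp2 hR hnc C hC1 hC2
    apply dvd_of_pow_hom hs h1
    rw [← h2]
    apply Nat.card_congr
    refine Equiv.subtypeEquivRight (fun x => ⟨fun hx => subset_closure hx, fun hx => h3 x hx⟩)
  · -- no cyclic maximal subgroup
    push Not at hC
    set 𝓜 := univ.filter (fun M : Subgroup R => M.index = p) with h𝓜
    set S := univ.filter (fun x : R => orderOf x = p ^ s) with hSdef
    have hS : Nat.card {x : R // orderOf x = p ^ s} = S.card := Nat.subtype_card _ (by simp [S])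
    rw [hS]
    have hE : ∀ M ∈ 𝓜, p ^ s ∣ (S.filter (fun x => x ∈ M)).card := by
      intro M hM
      have hMi : M.index = p := (Finset.mem_filter.mp hM).2
      have hnc' : ¬ IsCyclic M := fun h => hC M h hMi
      have hlt : Nat.card M < n := by
        have h1 := Subgroup.card_mul_index M
        rw [hMi, hn] at h1
        have h2 : 0 < Nat.card M := Nat.card_pos
        have h3 := hp.two_le
        nlinarith
      have h4 := IH _ hlt M rfl (hR.to_subgroup M) hnc'
      have h5 : Nat.card {x : M // orderOf x = p ^ s} = (S.filter (fun x => x ∈ M)).card := by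
        rw [← Nat.subtype_card (S.filter (fun x => x ∈ M)) (p := fun x => orderOf x = p ^ s ∧ x ∈ M)
          (by simp [S])]
        apply Nat.card_congr
        refine ⟨fun x => ⟨x.1.1, ?_, x.1.2⟩, fun x => ⟨⟨x.1, x.2.2⟩, ?_⟩, ?_, ?_⟩
        · exact (Subgroup.orderOf_coe x.1).trans x.2
        · exact (Subgroup.orderOf_mk x.1 x.2.2).trans x.2.1
        · intro x; rfl
        · intro x; rfl
      rwa [h5] at h4
    have hsum : ∑ M ∈ 𝓜, (S.filter (fun x => x ∈ M)).card = ∑ x ∈ S, (𝓜.filter (fun M => x ∈ M)).card :=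
      Finset.sum_card_bipartiteAbove_eq_sum_card_bipartiteBelow _
    let H : Subgroup R → ℕ := fun U => (𝓜.filter (fun M => U ≤ M)).card
    have hH : ∀ x ∈ S, (𝓜.filter (fun M => x ∈ M)).card = 1 + p * (H (zpowers x) / p) := by
      intro x _
      have hne : (zpowers x : Subgroup R) ≠ ⊤ := by
        intro h
        exact hnc (isCyclic_iff_exists_zpowers_eq_top.mpr ⟨x, h⟩)
      have h1 := card_index_prime_modEq hR (zpowers x) hne
      have h2 : Nat.card {M : Subgroup R // M.index = p ∧ (zpowers x : Subgroup R) ≤ M} = H (zpowers x) :=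
        Nat.subtype_card _ (by simp [H, 𝓜])
      rw [h2] at h1
      have h3 : (𝓜.filter (fun M => x ∈ M)) = 𝓜.filter (fun M => (zpowers x : Subgroup R) ≤ M) := by
        ext M
        simp [Subgroup.zpowers_le]
      rw [h3]
      have h4 : H (zpowers x) % p = 1 := by
        have := h1
        unfold Nat.ModEq at this
        rw [this]
        exact Nat.mod_eq_of_lt hp.one_lt
      have h5 := Nat.div_add_mod (H (zpowers x)) p
      show H (zpowers x) = _
      rw [h4] at h5
      omega
    rw [Finset.sum_congr rfl hH, Finset.sum_add_distrib, Finset.sum_const, smul_eq_mul, mul_one,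
      ← Finset.mul_sum] at hsum
    have h1 : p ^ s ∣ S.card + p * ∑ x ∈ S, H (zpowers x) / p := by
      rw [← hsum]
      exact Finset.dvd_sum hE
    have h2 : p ^ s ∣ p * ∑ x ∈ S, H (zpowers x) / p := by
      have h3 := dvd_sum_of_generators (G := R) hp (k := s) (by omega) (fun U => H U / p)
      have h4 : p ^ s = p * p ^ (s - 1) := by
        rw [← pow_succ']; congr 1; omega
      rw [h4]
      exact Nat.mul_dvd_mul_left _ h3
    exact (Nat.dvd_add_left h2).mp h1

/-- Miller's theorem: in a non-cyclic `p`-group with `p` odd, `p ^ s` divides the number of elements of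
order `p ^ s`, when `s ≥ 2`. -/
theorem miller (hp2 : p ≠ 2) {R : Type u} [Group R] [Finite R] (hR : IsPGroup p R) (hnc : ¬ IsCyclic R)
    {s : ℕ} (hs : 2 ≤ s) : p ^ s ∣ Nat.card {x : R // orderOf x = p ^ s} :=
  miller_aux hp2 hs _ R rfl hR hnc

end Miller

section General

variable {H : Type u} [Group H] [Finite H]

/-- the conjugate of a subgroup. -/
private def conjSub (q : H) (U : Subgroup H) : Subgroup H := U.map (MulAut.conj q).toMonoidHom

private theorem mem_conjSub {q x : H} {U : Subgroup H} : x ∈ conjSub q U ↔ q⁻¹ * x * q ∈ U := by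
  constructor
  · rintro ⟨w, hw, rfl⟩
    simpa [mul_assoc] using hw
  · intro h
    refine ⟨_, h, ?_⟩
    simp [mul_assoc]

private theorem conjSub_zpowers (q x : H) : conjSub q (zpowers x) = zpowers (q * x * q⁻¹) := by
  unfold conjSub
  rw [MonoidHom.map_zpowers]
  rfl

/-- The cyclic subgroups of order `p^s` not in `Q`, as a `Q`-set. -/
private def Cyc (p s : ℕ) (Q : Subgroup H) : Type u :=
  {U : Subgroup H // ∃ x : H, orderOf x = p ^ s ∧ x ∉ Q ∧ U = zpowers x}

private instance (s : ℕ) (Q : Subgroup H) : Finite (Cyc p s Q) := by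
  unfold Cyc
  infer_instance

private instance (s : ℕ) (Q : Subgroup H) : MulAction Q (Cyc p s Q) where
  smul q U := ⟨conjSub (q : H) U.1, by
    obtain ⟨x, h1, h2, h3⟩ := U.2
    refine ⟨(q : H) * x * (q : H)⁻¹, ?_, ?_, ?_⟩
    · rw [orderOf_conj_eq, h1]
    · intro h
      apply h2
      have : x = (q : H)⁻¹ * ((q : H) * x * (q : H)⁻¹) * (q : H) := by group
      rw [this]
      exact mul_mem (mul_mem (inv_mem q.2) h) q.2
    · rw [h3, conjSub_zpowers]⟩
  one_smul U := by
    apply Subtype.ext
    ext x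
    show x ∈ conjSub ((1 : Q) : H) U.1 ↔ _
    rw [mem_conjSub]
    simp
  mul_smul q r U := by
    apply Subtype.ext
    ext x
    show x ∈ conjSub ((q * r : Q) : H) U.1 ↔ x ∈ conjSub (q : H) (conjSub (r : H) U.1)
    rw [mem_conjSub, mem_conjSub, mem_conjSub]
    have : ((q * r : Q) : H)⁻¹ * x * ((q * r : Q) : H) = (r : H)⁻¹ * ((q : H)⁻¹ * x * (q : H)) * (r : H) := by
      simp only [Subgroup.coe_mul]
      group
    rw [this]

private theorem dvd_card_Cyc (s : ℕ) (Q : Sylow p H) : p ∣ Nat.card (Cyc p s (Q : Subgroup H)) := by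
  haveI : Fintype H := Fintype.ofFinite H
  have h1 := (Q.isPGroup').card_modEq_card_fixedPoints (Cyc p s (Q : Subgroup H))
  have h2 : Nat.card (MulAction.fixedPoints (Q : Subgroup H) (Cyc p s (Q : Subgroup H))) = 0 := by
    rw [Nat.card_eq_zero]
    left
    constructor
    rintro ⟨U, hU⟩
    rw [MulAction.mem_fixedPoints] at hU
    obtain ⟨x, hx1, hx2, hx3⟩ := U.2
    have hnorm : (Q : Subgroup H) ≤ normalizer ((U.1 : Subgroup H) : Set H) := by
      intro q hq
      apply mem_normalizer_of_conj_le'
      intro w hw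
      have h3 := hU ⟨q, hq⟩
      have h4 : conjSub q U.1 = U.1 := congrArg Subtype.val h3
      rw [← h4]
      rw [mem_conjSub]
      have : q⁻¹ * (q * w * q⁻¹) * q = w := by group
      rw [this]
      exact hw
    have hUp : IsPGroup p (U.1 : Subgroup H) := by
      rw [hx3, isPGroup_zpowers_iff]
      exact ⟨s, hx1⟩
    have hsup := Q.isPGroup'.to_sup_of_normal_right' hUp hnorm
    have hmax := Q.is_maximal' hsup le_sup_left
    apply hx2
    have hxU : x ∈ U.1 := by rw [hx3]; exact mem_zpowers x
    have : x ∈ (Q : Subgroup H) ⊔ U.1 := Subgroup.mem_sup_right hxU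
    rwa [hmax] at this
  rw [h2] at h1
  exact (Nat.modEq_zero_iff_dvd).mp h1

/-- If a Sylow `p`-subgroup of `H` is not cyclic (`p` odd), then `p ^ s` divides the number of elements
of order `p ^ s` in `H`, for `s ≥ 2`. -/
theorem dvd_card_orderOf_of_sylow (hp2 : p ≠ 2) (Q : Sylow p H) (hQ : ¬ IsCyclic (Q : Subgroup H))
    {s : ℕ} (hs : 2 ≤ s) : p ^ s ∣ Nat.card {x : H // orderOf x = p ^ s} := by
  classical
  haveI := Fintype.ofFinite H
  haveI := Fintype.ofFinite (Subgroup H)
  have hp : p.Prime := hpf.out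
  set S := univ.filter (fun x : H => orderOf x = p ^ s) with hSdef
  have hS : Nat.card {x : H // orderOf x = p ^ s} = S.card := Nat.subtype_card _ (by simp [S])
  rw [hS, ← Finset.card_filter_add_card_filter_not (s := S) (fun x => x ∈ (Q : Subgroup H))]
  apply dvd_add
  · have h1 := miller hp2 Q.isPGroup' hQ hs
    have h5 : Nat.card {x : (Q : Subgroup H) // orderOf x = p ^ s} =
        (S.filter (fun x => x ∈ (Q : Subgroup H))).card := by
      rw [← Nat.subtype_card (S.filter (fun x => x ∈ (Q : Subgroup H)))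
        (p := fun x => orderOf x = p ^ s ∧ x ∈ (Q : Subgroup H)) (by simp [S])]
      apply Nat.card_congr
      refine ⟨fun x => ⟨x.1.1, ?_, x.1.2⟩, fun x => ⟨⟨x.1, x.2.2⟩, ?_⟩, ?_, ?_⟩
      · exact (Subgroup.orderOf_coe x.1).trans x.2
      · exact (Subgroup.orderOf_mk x.1 x.2.2).trans x.2.1
      · intro x; rfl
      · intro x; rfl
    rwa [h5] at h1
  · set S' := S.filter (fun x => ¬ x ∈ (Q : Subgroup H)) with hS'
    rw [Finset.card_eq_sum_card_image (fun x : H => (zpowers x : Subgroup H)) S']
    have hfib : ∀ U ∈ S'.image (fun x : H => (zpowers x : Subgroup H)),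
        (S'.filter (fun x => (zpowers x : Subgroup H) = U)).card = (p ^ s).totient := by
      intro U hU
      obtain ⟨x₀, hx₀, rfl⟩ := Finset.mem_image.mp hU
      have hx₀1 : orderOf x₀ = p ^ s := (Finset.mem_filter.mp (Finset.mem_filter.mp hx₀).1).2
      have hx₀2 : x₀ ∉ (Q : Subgroup H) := (Finset.mem_filter.mp hx₀).2
      rw [← card_generators hx₀1]
      congr 1
      ext a
      simp only [S', S, Finset.mem_filter, Finset.mem_univ, true_and]
      constructor
      · rintro ⟨⟨h1, -⟩, h3⟩
        exact ⟨h1, h3⟩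
      · rintro ⟨h1, h3⟩
        refine ⟨⟨h1, ?_⟩, h3⟩
        intro ha
        apply hx₀2
        have : x₀ ∈ zpowers a := by rw [h3]; exact mem_zpowers x₀
        exact (zpowers_le.mpr ha) this
    rw [Finset.sum_congr rfl hfib, Finset.sum_const, smul_eq_mul]
    have hcyc : p ∣ (S'.image (fun x : H => (zpowers x : Subgroup H))).card := by
      have h1 := dvd_card_Cyc (p := p) s Q
      have h2 : Nat.card (Cyc p s (Q : Subgroup H)) =
          (S'.image (fun x : H => (zpowers x : Subgroup H))).card := by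
        apply Nat.subtype_card
        intro U
        simp only [S', S, Finset.mem_image, Finset.mem_filter, Finset.mem_univ, true_and]
        constructor
        · rintro ⟨x, ⟨h1, h2⟩, rfl⟩
          exact ⟨x, h1, h2, rfl⟩
        · rintro ⟨x, h1, h2, rfl⟩
          exact ⟨x, ⟨h1, h2⟩, rfl⟩
      rwa [h2] at h1
    rw [Nat.totient_prime_pow hp (by omega)]
    have h4 : p ^ s = p * p ^ (s - 1) := by
      rw [← pow_succ']; congr 1; omega
    obtain ⟨k, hk⟩ := hcyc
    rw [hk, h4]
    exact ⟨k * (p - 1), by ring⟩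

end General

end Cfsg.Agent.Lib.PGroups
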