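import Cfsg.Agent.Lib.Invol.Basic
import Cfsg.Agent.Lib.Invol.BaerSuzuki
import Cfsg.Agent.Lib.Basic.SchurZassenhaus
import Cfsg.Agent.Lib.Basic.Conj
import Cfsg.Agent.Lib.Basic.Core
import Cfsg.Agent.Lib.PGroups.Parts

/-!
# If no element induces an involutory automorphism on a cyclic subgroup of odd order then the
Sylow `2`-subgroups are normal.
-/

set_option autoImplicit false

universe u

namespace Cfsg.Agent.Lib.PGroups

open Subgroup
open scoped Pointwise

/-- No element induces an automorphism of order two on a cyclic subgroup of odd order. -/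
def NoInvert (G : Type*) [Group G] : Prop :=
  ∀ x : G, Odd (orderOf x) → ∀ g ∈ normalizer (zpowers x : Set G), g ^ 2 ∈ centralizer {x} →
    g ∈ centralizer {x}

variable {G : Type*} [Group G] [Finite G]

theorem NoInvert.mul_isTwo (h : NoInvert G) {a b : G} (ha : a * a = 1) (hb : b * b = 1) :
    ∃ k : ℕ, (a * b) ^ (2 ^ k) = 1 := by
  haveI : Fact (Nat.Prime 2) := ⟨Nat.prime_two⟩
  obtain ⟨u, v, e, hc, ⟨k, hk⟩, hv, -, hvz⟩ := exists_pPart 2 (a * b)
  refine ⟨k, ?_⟩
  have hvodd : Odd (orderOf v) := Nat.not_even_iff_odd.mp (fun h2 => hv h2.two_dvd)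
  have hainv : a⁻¹ = a := inv_eq_of_mul_eq_one_left ha
  have hconj : a * v * a⁻¹ = v⁻¹ := by
    obtain ⟨m, rfl⟩ := hvz
    have h1 := Lib.Invol.conj_zpow_eq ha hb m
    simp only [hainv, ← zpow_neg]
    simpa using h1
  have hN : a ∈ normalizer (zpowers v : Set G) := by
    apply mem_normalizer_of_conj_le'
    intro w hw
    obtain ⟨m, rfl⟩ := hw
    show a * v ^ m * a⁻¹ ∈ zpowers v
    rw [← conj_zpow, hconj]
    exact zpow_mem (inv_mem (mem_zpowers v)) m
  have h2 : a ^ 2 ∈ centralizer {v} := by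
    rw [pow_two, ha]; exact one_mem _
  have h3 := h v hvodd a hN h2
  rw [mem_centralizer_singleton_iff] at h3
  have h4 : v = v⁻¹ := by
    rw [← hconj, h3]; group
  have h5 : v * v = 1 := by
    nth_rw 1 [h4]; simp
  have h6 : v = 1 := by
    by_contra hne
    exact hv (by rw [Lib.Invol.orderOf_eq_two_of_mul_self h5 hne])
  rw [e, h6, mul_one, ← hk, pow_orderOf_eq_one]

theorem NoInvert.isPGroup_pair (h : NoInvert G) {a b : G} (ha : a * a = 1) (hb : b * b = 1) :
    IsPGroup 2 (closure ({a, b} : Set G)) := by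
  rintro ⟨g, hg⟩
  obtain ⟨k, hk⟩ := h.mul_isTwo ha hb
  rcases Lib.Invol.mem_closure_pair ha hb hg with ⟨m, rfl⟩ | ⟨m, rfl⟩
  · refine ⟨k, Subtype.ext ?_⟩
    show ((a * b) ^ m) ^ (2 ^ k) = 1
    rw [← zpow_natCast, ← zpow_mul, mul_comm, zpow_mul, zpow_natCast, hk, one_zpow]
  · refine ⟨1, Subtype.ext ?_⟩
    show (a * (a * b) ^ m) ^ (2 ^ 1) = 1
    rw [pow_one, pow_two]
    exact Lib.Invol.x_zpow_sq ha hb m

/-- The subgroup generated by the involutions. -/
def invCl (G : Type*) [Group G] : Subgroup G := closure {t : G | t * t = 1}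

omit [Finite G] in
instance invCl_normal : (invCl G).Normal := by
  constructor
  intro n hn g
  unfold invCl at hn ⊢
  induction hn using Subgroup.closure_induction with
  | mem x hx =>
    apply Subgroup.subset_closure
    show (g * x * g⁻¹) * (g * x * g⁻¹) = 1
    have hx' : x * x = 1 := hx
    calc (g * x * g⁻¹) * (g * x * g⁻¹) = g * (x * x) * g⁻¹ := by group
      _ = 1 := by rw [hx']; group
  | one => simp
  | mul x y _ _ hx hy =>
    have : g * (x * y) * g⁻¹ = (g * x * g⁻¹) * (g * y * g⁻¹) := by group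
    rw [this]; exact mul_mem hx hy
  | inv x _ hx =>
    have : g * x⁻¹ * g⁻¹ = (g * x * g⁻¹)⁻¹ := by group
    rw [this]; exact inv_mem hx

theorem NoInvert.isPGroup_invCl (h : NoInvert G) : IsPGroup 2 (invCl G) := by
  haveI : Fact (Nat.Prime 2) := ⟨Nat.prime_two⟩
  apply Lib.Invol.isPGroup_closure_of_pairs 2 _ rfl
  · intro a ha g
    show (g * a * g⁻¹) * (g * a * g⁻¹) = 1
    have hx' : a * a = 1 := ha
    calc (g * a * g⁻¹) * (g * a * g⁻¹) = g * (a * a) * g⁻¹ := by group
      _ = 1 := by rw [hx']; group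
  · intro a ha b hb
    exact h.isPGroup_pair ha hb

theorem NoInvert.quotient (h : NoInvert G) (Q : Subgroup G) [hQn : Q.Normal] (hQ : IsPGroup 2 Q) :
    NoInvert (G ⧸ Q) := by
  haveI : Fact (Nat.Prime 2) := ⟨Nat.prime_two⟩
  intro xb hxb gb hgb hgb2
  let π₀ := QuotientGroup.mk' Q
  have hπ₀ : Function.Surjective π₀ := QuotientGroup.mk'_surjective Q
  have hker : π₀.ker = Q := QuotientGroup.ker_mk' Q
  obtain ⟨x₁, rfl⟩ := hπ₀ xb
  obtain ⟨g₁, rfl⟩ := hπ₀ gb
  obtain ⟨u, v, e, hc, ⟨k, hk⟩, hv, huz, -⟩ := exists_pPart 2 x₁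
  have hu1 : π₀ u = 1 := by
    have h1 : orderOf (π₀ u) ∣ 2 ^ k := by
      rw [← hk]; exact orderOf_map_dvd π₀ u
    have h2 : orderOf (π₀ u) ∣ orderOf (π₀ x₁) := by
      apply orderOf_dvd_of_mem_zpowers
      have := Subgroup.mem_map_of_mem π₀ huz
      rwa [MonoidHom.map_zpowers] at this
    have h3 : Nat.Coprime (2 ^ k) (orderOf (π₀ x₁)) :=
      Nat.Coprime.pow_left k (Nat.coprime_two_left.mpr hxb)
    have h4 := Nat.eq_one_of_dvd_coprimes h3 h1 h2
    exact orderOf_eq_one_iff.mp h4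
  have hxv : π₀ x₁ = π₀ v := by
    rw [e, map_mul, hu1, one_mul]
  rw [hxv] at hgb hgb2 ⊢
  have hvodd : Odd (orderOf v) := Nat.not_even_iff_odd.mp (fun h2 => hv h2.two_dvd)
  set K := zpowers v with hK
  set H := MulAut.conj g₁ • K with hH
  have hcardK : Nat.card K = orderOf v := Nat.card_zpowers v
  have hcardH : Nat.card H = orderOf v := by
    rw [hH, Lib.Basic.card_conj_smul, hcardK]
  obtain ⟨j, hj⟩ := IsPGroup.iff_card.mp hQ
  have hcop1 : (Nat.card Q).Coprime (Nat.card H) := by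
    rw [hj, hcardH]
    exact Nat.Coprime.pow_left j (Nat.coprime_two_left.mpr hvodd)
  have hcop2 : (Nat.card Q).Coprime (Nat.card K) := by
    rw [hj, hcardK]
    exact Nat.Coprime.pow_left j (Nat.coprime_two_left.mpr hvodd)
  have hQtop : normalizer (Q : Set G) = ⊤ := normalizer_eq_top_iff.mpr hQn
  have hsup : H ⊔ Q = K ⊔ Q := by
    rw [← hker, ← comap_map_eq, ← comap_map_eq]
    congr 1
    have h1 : H.map π₀ = zpowers (π₀ g₁ * π₀ v * (π₀ g₁)⁻¹) := by
      rw [hH, Lib.Basic.conj_smul_eq_map, Subgroup.map_map, hK, MonoidHom.map_zpowers]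
      simp [π₀]
    have h2 : K.map π₀ = zpowers (π₀ v) := by
      rw [hK, MonoidHom.map_zpowers]
    rw [h1, h2]
    apply le_antisymm
    · rw [zpowers_le]
      exact (mem_normalizer_iff.mp hgb _).mp (mem_zpowers _)
    · rw [zpowers_le]
      have hmem := (mem_normalizer_iff.mp (inv_mem hgb) (π₀ v)).mp (mem_zpowers _)
      have h3 : (π₀ g₁)⁻¹ * π₀ v * ((π₀ g₁)⁻¹)⁻¹ ∈ zpowers (π₀ v) := hmem
      obtain ⟨z, hz⟩ := h3
      refine ⟨z, ?_⟩
      have h5 : (π₀ v) ^ z = (π₀ g₁)⁻¹ * π₀ v * ((π₀ g₁)⁻¹)⁻¹ := hz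
      show (π₀ g₁ * π₀ v * (π₀ g₁)⁻¹) ^ z = π₀ v
      rw [conj_zpow, h5]
      group
  obtain ⟨a, ha, hac⟩ := Lib.Basic.schurZassenhaus_conj_rel Q H K (by rw [hQtop]; exact le_top)
    (by rw [hQtop]; exact le_top) hcop1 hcop2 hsup (Or.inl (haveI := hQ.isNilpotent; inferInstance))
  set g := a * g₁ with hg
  have hg1 : π₀ g = π₀ g₁ := by
    have : π₀ a = 1 := by
      rw [← MonoidHom.mem_ker, hker]; exact ha
    rw [hg, map_mul, this, one_mul]
  have hgN : g ∈ normalizer (K : Set G) := by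
    apply mem_normalizer_of_conj_le'
    intro w hw
    have h1 : MulAut.conj g • K = K := by
      rw [hg, Lib.Basic.conj_smul_mul, ← hH, hac]
    rw [← h1]
    exact Lib.Basic.conj_mem_conj_smul.mpr hw
  have hg2 : g ^ 2 ∈ centralizer {v} := by
    rw [mem_centralizer_singleton_iff]
    have hN2 : g ^ 2 ∈ normalizer (K : Set G) := pow_mem hgN 2
    have h1 : g ^ 2 * v * (g ^ 2)⁻¹ * v⁻¹ ∈ K :=
      mul_mem ((mem_normalizer_iff.mp hN2 v).mp (mem_zpowers v)) (inv_mem (mem_zpowers v))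
    have h2 : g ^ 2 * v * (g ^ 2)⁻¹ * v⁻¹ ∈ Q := by
      rw [← hker, MonoidHom.mem_ker]
      have h3 := mem_centralizer_singleton_iff.mp hgb2
      have h4 : π₀ (g ^ 2) = π₀ g₁ ^ 2 := by rw [map_pow, hg1]
      simp only [map_mul, map_inv, h4]
      rw [h3]; group
    have h5 : Disjoint Q K := Subgroup.disjoint_of_coprime_natCard hcop2
    have h6 := Subgroup.disjoint_def.mp h5 h2 h1
    have h7 : g ^ 2 * v * (g ^ 2)⁻¹ = v := by
      rwa [mul_inv_eq_one] at h6
    rw [mul_inv_eq_iff_eq_mul] at h7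
    exact h7
  have hfin := h v hvodd g hgN hg2
  rw [mem_centralizer_singleton_iff] at hfin ⊢
  rw [← hg1, ← map_mul, hfin, map_mul]

theorem sylow_normal_of_noInvert : ∀ (n : ℕ) (G : Type u) [Group G] [Finite G], Nat.card G = n →
    NoInvert G → ∀ P : Sylow 2 G, (P : Subgroup G).Normal := by
  intro n
  induction n using Nat.strong_induction_on with
  | _ n ih =>
  intro G _ _ hn h P
  haveI : Fact (Nat.Prime 2) := ⟨Nat.prime_two⟩
  by_cases hQ : invCl G = ⊥
  · have hnone : ¬ 2 ∣ Nat.card G := by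
      intro hd
      obtain ⟨t, ht⟩ := exists_prime_orderOf_dvd_card' 2 hd
      have h1 : t * t = 1 := Lib.Invol.mul_self_of_orderOf_eq_two ht
      have h2 : t ∈ invCl G := Subgroup.subset_closure h1
      rw [hQ, mem_bot] at h2
      rw [h2, orderOf_one] at ht
      omega
    have hPbot : (P : Subgroup G) = ⊥ := by
      have h1 := P.isPGroup'
      obtain ⟨k, hk⟩ := IsPGroup.iff_card.mp h1
      have h2 : Nat.card P ∣ Nat.card G := Subgroup.card_subgroup_dvd_card _
      rcases Nat.eq_zero_or_pos k with rfl | hkpos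
      · rw [pow_zero] at hk
        exact (Subgroup.card_eq_one).mp hk
      · exfalso
        apply hnone
        rw [hk] at h2
        exact (dvd_pow_self 2 hkpos.ne').trans h2
    rw [hPbot]
    infer_instance
  · have hQp := h.isPGroup_invCl
    have hlt : Nat.card (G ⧸ invCl G) < n := by
      rw [← hn]
      have h1 := Subgroup.card_eq_card_quotient_mul_card_subgroup (invCl G)
      have h2 : 1 < Nat.card (invCl G) := by
        rw [Finite.one_lt_card_iff_nontrivial]
        exact (Subgroup.nontrivial_iff_ne_bot _).mpr hQ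
      rw [h1]
      have h3 : 0 < Nat.card (G ⧸ invCl G) := Nat.card_pos
      nlinarith
    have hnorm := ih _ hlt (G ⧸ invCl G) rfl (h.quotient _ hQp)
      (P.mapSurjective (QuotientGroup.mk'_surjective (invCl G)))
    rw [Sylow.coe_mapSurjective] at hnorm
    have hle : invCl G ≤ P := Lib.Basic.normal_pGroup_le_sylow inferInstance hQp P
    have hcomap := hnorm.comap (QuotientGroup.mk' (invCl G))
    rw [comap_map_eq, QuotientGroup.ker_mk', sup_of_le_left hle] at hcomap
    exact hcomap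

end Cfsg.Agent.Lib.PGroups
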