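import Cfsg.Agent.Lib.Transfer.Critical2
import Cfsg.Agent.Lib.PGroups.ClassPower
import Cfsg.Agent.Lib.PGroups.ClassLemmas
import Cfsg.Agent.Lib.Basic.Core
import Cfsg.Agent.Lib.Basic.Nilpotent

/-!
# `2'`-automorphisms fixing the elements of order dividing `4`; central series from class sizes
-/

set_option autoImplicit false

universe u

namespace Cfsg.Agent.Lib.PGroups

open Subgroup Cfsg.Agent.Lib.Transfer
open scoped commutatorElement

/-- In a group whose squares and commutators are central, the fourth power map is a homomorphism. -/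
theorem mul_pow_four_of_sq_central {K : Type*} [Group K]
    (hKp : ∀ x : K, x ^ 2 ∈ center K) (hKc : commutator K ≤ center K) (x y : K) :
    (x * y) ^ 4 = x ^ 4 * y ^ 4 := by
  set c := y * x * y⁻¹ * x⁻¹ with hc
  have hcc : c ∈ center K := by
    apply hKc
    have : c = ⁅y, x⁆ := by rw [commutatorElement_def]
    rw [this, _root_.commutator_def]
    exact Subgroup.commutator_mem_commutator (mem_top y) (mem_top x)
  have hcx : ∀ g : K, g * c = c * g := (mem_center_iff.mp hcc)
  have hx2 : ∀ g : K, g * x ^ 2 = x ^ 2 * g := mem_center_iff.mp (hKp x)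
  have hy2 : ∀ g : K, g * y ^ 2 = y ^ 2 * g := mem_center_iff.mp (hKp y)
  have e1 : y * x = c * (x * y) := by rw [hc]; group
  have sq : (x * y) ^ 2 = c * x ^ 2 * y ^ 2 := by
    calc (x * y) ^ 2 = x * (y * x) * y := by simp only [pow_two, mul_assoc]
      _ = x * (c * (x * y)) * y := by rw [e1]
      _ = (x * c) * (x * y) * y := by simp only [mul_assoc]
      _ = (c * x) * (x * y) * y := by rw [hcx x]
      _ = c * x ^ 2 * y ^ 2 := by simp only [pow_two, mul_assoc]
  have c2 : c ^ 2 = 1 := by
    have e2 : y ^ 2 * x = c ^ 2 * (x * y ^ 2) := by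
      calc y ^ 2 * x = y * (y * x) := by simp only [pow_two, mul_assoc]
        _ = y * (c * (x * y)) := by rw [e1]
        _ = (y * c) * (x * y) := by simp only [mul_assoc]
        _ = (c * y) * (x * y) := by rw [hcx y]
        _ = c * (y * x) * y := by simp only [mul_assoc]
        _ = c * (c * (x * y)) * y := by rw [e1]
        _ = c ^ 2 * (x * y ^ 2) := by simp only [pow_two, mul_assoc]
    have e3 := hy2 x
    rw [e2] at e3
    have e4 : c ^ 2 * (x * y ^ 2) = 1 * (x * y ^ 2) := by
      rw [one_mul]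
      exact e3.symm
    exact mul_right_cancel e4
  have h4 : (x * y) ^ 4 = ((x * y) ^ 2) ^ 2 := by rw [← pow_mul]
  rw [h4, sq]
  have hcomm1 : Commute (c * x ^ 2) (y ^ 2) := hy2 _
  have hcomm2 : Commute c (x ^ 2) := (hcx _).symm
  rw [hcomm1.mul_pow, hcomm2.mul_pow, c2, one_mul, ← pow_mul, ← pow_mul]

section Fix

variable {G : Type*} [Group G] [Finite G]

/-- A `2'`-automorphism of a `2`-group fixing all `x` with `x ^ 4 = 1` is trivial. -/
theorem eq_one_of_fix_omega_four (hG : IsPGroup 2 G) (a : MulAut G) (ha : Nat.Coprime (orderOf a) 2)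
    (h : ∀ x : G, x ^ 4 = 1 → a x = x) : a = 1 := by
  haveI : Fact (Nat.Prime 2) := ⟨Nat.prime_two⟩
  obtain ⟨H, hHc, h1, h2, h3⟩ := exists_critical hG
  apply eq_one_of_fix_critical hG H h2 h3 a ha
  have hHa : ∀ x ∈ H, a x ∈ H := fun x hx => map_mem_of_char hHc a hx
  have hH : IsPGroup 2 H := hG.to_subgroup H
  have hZc : (H ⊓ centralizer (H : Set G)).Characteristic := char_inf hHc (char_centralizer hHc)
  have hZ : ∀ k : ℕ, ∀ z ∈ H ⊓ centralizer (H : Set G), z ^ 2 ^ k = 1 → a z = z := by
    intro k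
    induction k with
    | zero =>
      intro z _ h0
      have : z = 1 := by simpa using h0
      rw [this, map_one]
    | succ k ih =>
      intro z hz h0
      have hzp : z ^ 2 ∈ H ⊓ centralizer (H : Set G) := pow_mem hz 2
      have h4 : a (z ^ 2) = z ^ 2 := ih _ hzp (by rw [← pow_mul, ← pow_succ']; exact h0)
      have haz : a z ∈ H ⊓ centralizer (H : Set G) := map_mem_of_char hZc a hz
      have hcomm : Commute z⁻¹ (a z) := by
        have : z * a z = a z * z := (mem_centralizer_iff.1 (mem_inf.1 hz).2 _ (mem_inf.1 haz).1).symm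
        exact (show Commute z (a z) from this).inv_left
      have hu : (z⁻¹ * a z) ^ 2 = 1 := by
        rw [hcomm.mul_pow, ← map_pow, h4, inv_pow, inv_mul_cancel]
      have hu4 : (z⁻¹ * a z) ^ 4 = 1 := by
        have : (z⁻¹ * a z) ^ 4 = ((z⁻¹ * a z) ^ 2) ^ 2 := by rw [← pow_mul]
        rw [this, hu, one_pow]
      have h5 := h _ hu4
      have h6 := eq_one_of_coprime_aut hG a ha (g := z) (w := z⁻¹ * a z) (by group) h5
      rw [inv_mul_eq_one] at h6
      exact h6.symm
  have hZall : ∀ z ∈ H ⊓ centralizer (H : Set G), a z = z := by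
    intro z hz
    obtain ⟨k, hk⟩ := hG z
    exact hZ k z hz hk
  have hKp : ∀ x : H, x ^ 2 ∈ center H := by
    intro x
    rw [mem_center_iff]
    intro y
    have h4 : ((x ^ 2 : H) : G) ∈ centralizer (H : Set G) :=
      h1 ⟨_, pow_mem_frattini hH x, rfl⟩
    apply Subtype.ext
    exact (mem_centralizer_iff.1 h4 y y.2)
  have hKc : commutator H ≤ center H := by
    intro w hw
    rw [mem_center_iff]
    intro y
    have h4 : ((w : H) : G) ∈ centralizer (H : Set G) :=
      h1 ⟨_, commutator_le_frattini hH hw, rfl⟩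
    apply Subtype.ext
    exact (mem_centralizer_iff.1 h4 y y.2)
  intro x hx
  have hu : (x⁻¹ * a x) ^ 4 = 1 := by
    have h4 := mul_pow_four_of_sq_central hKp hKc (⟨x, hx⟩ : H)⁻¹ ⟨a x, hHa x hx⟩
    have h5 := congrArg (Subtype.val : ↥H → G) h4
    have h6 : (x⁻¹ * a x) ^ 4 = (x⁻¹) ^ 4 * (a x) ^ 4 := h5
    rw [h6, ← map_pow]
    have hzz : x ^ 4 ∈ H ⊓ centralizer (H : Set G) := by
      refine mem_inf.2 ⟨pow_mem hx 4, ?_⟩
      have h7 := h1 ⟨_, pow_mem_frattini hH (⟨x, hx⟩ : H), rfl⟩
      have h8 : ((⟨x, hx⟩ : H) : G) ^ 2 ∈ centralizer (H : Set G) := h7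
      have h9 : x ^ 4 = (x ^ 2) ^ 2 := by rw [← pow_mul]
      rw [h9]
      exact pow_mem h8 2
    rw [hZall _ hzz, inv_pow, inv_mul_cancel]
  have h5 := h _ hu
  have h6 := eq_one_of_coprime_aut hG a ha (g := x) (w := x⁻¹ * a x) (by group) h5
  rw [inv_mul_eq_one] at h6
  exact h6.symm

end Fix

/-- A normal `p`-subgroup all of whose elements have classes of `p`-power size is centralized by
every `p'`-element. -/
theorem commute_of_normal_of_index_aux {p : ℕ} [hp : Fact p.Prime] : ∀ (n : ℕ) (G : Type u) [Group G] [Finite G]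
    (D : Subgroup G), D.Normal → Nat.card D = n → IsPGroup p D →
    (∀ x ∈ D, ∃ a : ℕ, (centralizer ({x} : Set G)).index = p ^ a) →
    ∀ y : G, (orderOf y).Coprime p → ∀ x ∈ D, Commute y x := by
  intro n
  induction n using Nat.strong_induction_on with
  | _ n ih =>
  intro G _ _ D hDn hn hDp hcl y hy x hx
  by_cases hbot : D = ⊥
  · subst hbot
    have : x = 1 := by simpa using hx
    rw [this]
    exact Commute.one_right y
  -- a central element in `D`
  obtain ⟨S⟩ : Nonempty (Sylow p G) := inferInstance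
  have hDS : D ≤ (S : Subgroup G) := Cfsg.Agent.Lib.Basic.normal_pGroup_le_sylow hDn hDp S
  haveI : Group.IsNilpotent (S : Subgroup G) := S.2.isNilpotent
  haveI hD' : (D.subgroupOf (S : Subgroup G)).Normal := Subgroup.Normal.subgroupOf hDn _
  have hne : D.subgroupOf (S : Subgroup G) ≠ ⊥ := by
    intro h
    apply hbot
    rw [eq_bot_iff]
    intro w hw
    have : (⟨w, hDS hw⟩ : (S : Subgroup G)) ∈ D.subgroupOf (S : Subgroup G) := hw
    rw [h, Subgroup.mem_bot] at this
    simpa using congrArg Subtype.val this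
  have h1 := Cfsg.Agent.Lib.Basic.normal_inf_center_ne_bot (D.subgroupOf (S : Subgroup G)) hne
  obtain ⟨⟨z₀, hz₀⟩, hz₀1⟩ := Subgroup.ne_bot_iff_exists_ne_one.mp h1
  obtain ⟨hz₀D, hz₀C⟩ := Subgroup.mem_inf.mp hz₀
  set z : G := (z₀ : G) with hz
  have hzD : z ∈ D := Subgroup.mem_subgroupOf.mp hz₀D
  have hz1 : z ≠ 1 := by
    intro h0
    apply hz₀1
    apply Subtype.ext
    exact Subtype.ext h0
  have hzS : ∀ s ∈ (S : Subgroup G), s * z = z * s := by
    intro s hs
    have := (mem_center_iff.mp hz₀C) ⟨s, hs⟩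
    exact congrArg Subtype.val this
  have hzcen : ∀ g : G, g * z = z * g := by
    obtain ⟨a, ha⟩ := hcl z hzD
    have hle : (S : Subgroup G) ≤ centralizer ({z} : Set G) := by
      intro s hs
      rw [mem_centralizer_singleton_iff]
      exact hzS s hs
    have hd : (centralizer ({z} : Set G)).index ∣ (S : Subgroup G).index := Subgroup.index_dvd_of_le hle
    have ha0 : a = 0 := by
      by_contra ha0
      apply S.not_dvd_index
      rw [ha] at hd
      exact (dvd_pow_self p ha0).trans hd
    rw [ha0, pow_zero] at ha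
    have htop := Subgroup.index_eq_one.mp ha
    intro g
    have : g ∈ centralizer ({z} : Set G) := by rw [htop]; exact mem_top g
    exact mem_centralizer_singleton_iff.mp this
  set T : Subgroup G := zpowers z with hT
  have hTcen : ∀ w ∈ T, ∀ g : G, g * w = w * g := by
    rintro _ ⟨k, rfl⟩ g
    have : Commute g z := hzcen g
    exact (this.zpow_right k).eq
  haveI hTn : T.Normal := by
    refine ⟨fun w hw g => ?_⟩
    rw [hTcen w hw g, mul_assoc, mul_inv_cancel, mul_one]
    exact hw
  have hTD : T ≤ D := (Subgroup.zpowers_le).mpr hzD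
  let π := QuotientGroup.mk' T
  have hπ : Function.Surjective π := QuotientGroup.mk'_surjective T
  have hcard : Nat.card (D.map π) < n := by
    rw [← hn]
    let f : D →* D.map π := π.subgroupMap D
    have hfs : Function.Surjective f := π.subgroupMap_surjective D
    have hfni : ¬ Function.Injective f := by
      intro hinj
      have h0 : f ⟨z, hzD⟩ = f 1 := by
        apply Subtype.ext
        show π z = π 1
        rw [map_one]
        exact (QuotientGroup.eq_one_iff z).mpr (mem_zpowers z)
      have := hinj h0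
      exact hz1 (congrArg Subtype.val this)
    by_contra hge
    exact hfni (hfs.bijective_of_nat_card_le (not_lt.mp hge)).1
  have hcl' : ∀ w ∈ D.map π, ∃ a : ℕ, (centralizer ({w} : Set (G ⧸ T))).index = p ^ a := by
    rintro _ ⟨v, hv, rfl⟩
    obtain ⟨a, ha⟩ := hcl v hv
    have hd := index_centralizer_map_dvd π hπ v
    rw [ha] at hd
    obtain ⟨b, -, hb⟩ := (Nat.dvd_prime_pow hp.out).mp hd
    exact ⟨b, hb⟩
  have hyc : (orderOf (π y)).Coprime p :=
    Nat.Coprime.coprime_dvd_left (orderOf_map_dvd π y) hy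
  have hc := ih _ hcard (G ⧸ T) (D.map π) (hDn.map π hπ) rfl (hDp.map π) hcl' (π y) hyc (π x) ⟨x, hx, rfl⟩
  have h2 : (x * y)⁻¹ * (y * x) ∈ T := by
    have h3 : π (y * x) = π (x * y) := by
      rw [map_mul, map_mul]
      exact hc.eq
    exact (QuotientGroup.eq.mp h3.symm)
  set w := (x * y)⁻¹ * (y * x) with hw
  have hwc := hTcen w h2
  have e : y * x = x * y * w := by rw [hw]; group
  have hpow : ∀ m : ℕ, y ^ m * x = x * w ^ m * y ^ m := by
    intro m
    induction m with
    | zero => simp
    | succ m ihm =>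
      have hwm : ∀ g : G, g * w ^ m = w ^ m * g := fun g => (Commute.pow_right (hwc g) m).eq
      calc y ^ (m + 1) * x = y * (y ^ m * x) := by rw [pow_succ']; group
        _ = y * (x * w ^ m * y ^ m) := by rw [ihm]
        _ = (y * x) * w ^ m * y ^ m := by group
        _ = (x * y * w) * w ^ m * y ^ m := by rw [e]
        _ = x * (y * w) * w ^ m * y ^ m := by group
        _ = x * (w * y) * w ^ m * y ^ m := by rw [hwc y]
        _ = x * w * (y * w ^ m) * y ^ m := by group
        _ = x * w * (w ^ m * y) * y ^ m := by rw [hwm y]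
        _ = x * w ^ (m + 1) * y ^ (m + 1) := by
            rw [pow_succ' w m, pow_succ' y m]; group
  have h3 := hpow (orderOf y)
  rw [pow_orderOf_eq_one, mul_one, one_mul] at h3
  have h4 : w ^ orderOf y = 1 := by
    have := h3.symm
    rwa [mul_eq_left] at this
  obtain ⟨k, hk⟩ := hDp ⟨w, hTD h2⟩
  have hk' : w ^ p ^ k = 1 := congrArg Subtype.val hk
  have h5 : w ^ Nat.gcd (orderOf y) (p ^ k) = 1 := pow_gcd_eq_one.mpr ⟨h4, hk'⟩
  rw [Nat.Coprime.pow_right k hy, pow_one] at h5
  rw [h5, mul_one] at e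
  exact e

theorem commute_of_normal_of_index {p : ℕ} [hp : Fact p.Prime] {G : Type u} [Group G] [Finite G]
    (D : Subgroup G) (hDn : D.Normal) (hDp : IsPGroup p D)
    (hcl : ∀ x ∈ D, ∃ a : ℕ, (centralizer ({x} : Set G)).index = p ^ a)
    (y : G) (hy : (orderOf y).Coprime p) (x : G) (hx : x ∈ D) : Commute y x :=
  commute_of_normal_of_index_aux _ G D hDn rfl hDp hcl y hy x hx

end Cfsg.Agent.Lib.PGroups
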