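import Mathlib
import Cfsg.Agent.Lib.Basic.GenCent

/-!
# A configuration lemma on quadratic actions

`E` an elementary abelian `p`-group and `W` a `p'`-group of automorphisms of an abelian group, `E` normalizes
`W`, `B` invariant, `Z = C_B(E)`, `[B, E] ≤ Z` and `[a, E] = Z` for `a ∈ B \ Z`.  If `W` moves `Z` then
`|Z| = p` and `E` induces a cyclic group on `B`.
-/

set_option autoImplicit false

namespace Cfsg.Agent.Lib.PGroups

open Subgroup

/-- A complement of a subgroup `K` in an elementary abelian group `E`. -/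
theorem exists_elem_compl {Γ : Type*} [Group Γ] [Finite Γ] {p : ℕ} [hp : Fact p.Prime]
    (E K : Subgroup Γ) (hc : ∀ u ∈ E, ∀ v ∈ E, u * v = v * u) (hexp : ∀ u ∈ E, u ^ p = 1) (hKE : K ≤ E) :
    ∃ E₁ : Subgroup Γ, E₁ ≤ E ∧ E₁ ⊓ K = ⊥ ∧ ∀ u ∈ E, ∃ e ∈ E₁, ∃ k ∈ K, u = e * k := by
  obtain ⟨E₁, hE₁⟩ := (Set.toFinite {S : Subgroup Γ | S ≤ E ∧ S ⊓ K = ⊥}).exists_maximal
    ⟨⊥, bot_le, bot_inf_eq _⟩
  have hmem := hE₁.prop
  refine ⟨E₁, hmem.1, hmem.2, ?_⟩
  intro u hu
  have hcomm : ∀ e ∈ E₁, ∀ n : ℤ, Commute e (u ^ n) := fun e he n =>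
    Commute.zpow_right (show Commute e u from hc e (hmem.1 he) u hu) n
  let S : Subgroup Γ :=
    { carrier := {y | ∃ e ∈ E₁, ∃ n : ℤ, y = e * u ^ n}
      mul_mem' := by
        rintro _ _ ⟨e, he, n, rfl⟩ ⟨f, hf, m, rfl⟩
        refine ⟨e * f, E₁.mul_mem he hf, n + m, ?_⟩
        rw [zpow_add, mul_assoc, mul_assoc, ← mul_assoc (u ^ n), ((hcomm f hf n).symm).eq, mul_assoc]
      one_mem' := ⟨1, E₁.one_mem, 0, by simp⟩
      inv_mem' := by
        rintro _ ⟨e, he, n, rfl⟩
        refine ⟨e⁻¹, E₁.inv_mem he, -n, ?_⟩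
        rw [mul_inv_rev, zpow_neg]
        have := (hcomm e⁻¹ (E₁.inv_mem he) (-n)).eq
        rw [zpow_neg] at this
        exact this.symm }
  have hSE : S ≤ E := by
    rintro _ ⟨e, he, n, rfl⟩
    exact E.mul_mem (hmem.1 he) (E.zpow_mem hu n)
  have hE₁S : E₁ ≤ S := fun e he => ⟨e, he, 0, by simp⟩
  have huS : u ∈ S := ⟨1, E₁.one_mem, 1, by simp⟩
  by_cases hSK : S ⊓ K = ⊥
  · have hle : S ≤ E₁ := hE₁.le_of_ge ⟨hSE, hSK⟩ hE₁S
    exact ⟨u, hle huS, 1, K.one_mem, by simp⟩
  · obtain ⟨⟨y, hyS, hyK⟩, hy⟩ := (Subgroup.ne_bot_iff_exists_ne_one).mp hSK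
    have hy1 : y ≠ 1 := fun h => hy (Subtype.ext h)
    obtain ⟨e, he, n, rfl⟩ := hyS
    have hnp : ¬ (p : ℤ) ∣ n := by
      rintro ⟨m, rfl⟩
      have : u ^ ((p : ℤ) * m) = 1 := by
        rw [zpow_mul, zpow_natCast, hexp u hu, one_zpow]
      rw [this, mul_one] at hyK hy1
      have hb : e ∈ E₁ ⊓ K := ⟨he, hyK⟩
      rw [hmem.2] at hb
      exact hy1 (Subgroup.mem_bot.mp hb)
    have hcop : IsCoprime n (p : ℤ) :=
      (Int.isCoprime_iff_gcd_eq_one).2 (by
        have hp' : Nat.Prime p := hp.out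
        have : Nat.Coprime n.natAbs p := by
          rw [Nat.coprime_comm, hp'.coprime_iff_not_dvd]
          intro hd
          exact hnp (Int.natCast_dvd.mpr hd)
        simpa [Int.gcd] using this)
    obtain ⟨a, b, hab⟩ := hcop
    have hua : u = (u ^ n) ^ a := by
      have h1 : u ^ (a * n + b * (p : ℤ)) = u := by rw [hab, zpow_one]
      rw [zpow_add, mul_comm b, zpow_mul u (p : ℤ), zpow_natCast, hexp u hu, one_zpow, mul_one, mul_comm a,
        zpow_mul] at h1
      exact h1.symm
    have hun : u ^ n = e⁻¹ * (e * u ^ n) := by group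
    refine ⟨e⁻¹ ^ a, E₁.zpow_mem (E₁.inv_mem he) a, (e * u ^ n) ^ a, K.zpow_mem hyK a, ?_⟩
    have hcom : Commute e⁻¹ (e * u ^ n) := by
      show e⁻¹ * (e * u ^ n) = (e * u ^ n) * e⁻¹
      exact hc _ (E.inv_mem (hmem.1 he)) _ (hKE hyK)
    rw [← hcom.mul_zpow, ← hun]
    exact hua

/-- The configuration lemma. -/
theorem config_core {A : Type*} [CommGroup A] [Finite A] [Finite (MulAut A)] {p : ℕ} [hp : Fact p.Prime] :
    ∀ (n : ℕ) (B : Subgroup A) (W E : Subgroup (MulAut A)) (Z : Subgroup A), Nat.card B ≤ n →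
      (∀ u ∈ E, ∀ v ∈ E, u * v = v * u) → (∀ u ∈ E, u ^ p = 1) →
      E ≤ normalizer (W : Set (MulAut A)) → (Nat.card W).Coprime p →
      (∀ w ∈ W, ∀ a ∈ B, w a ∈ B) → (∀ u ∈ E, ∀ a ∈ B, u a ∈ B) →
      (∀ a, a ∈ Z ↔ a ∈ B ∧ ∀ u ∈ E, u a = a) →
      (∀ a ∈ B, ∀ u ∈ E, u a * a⁻¹ ∈ Z) →
      (∀ a ∈ B, a ∉ Z → ∀ z ∈ Z, ∃ u ∈ E, u a * a⁻¹ = z) →
      (∃ w ∈ W, ∃ z ∈ Z, w z ∉ Z) →
      Nat.card Z = p ∧ ∃ e ∈ E, ∀ u ∈ E, ∃ k : ℕ, ∀ a ∈ B, u a = (e ^ k) a := by
  intro n
  induction n with
  | zero =>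
    intro B W E Z hcard
    have := Nat.card_pos (α := B)
    omega
  | succ n ih =>
    intro B W E Z hcard hEc hEp hEW hWp hBW hBE hZ hq hs hwit
    -- the kernel of `E` on `B`
    let K : Subgroup (MulAut A) :=
      { carrier := {u | u ∈ E ∧ ∀ a ∈ B, u a = a}
        mul_mem' := by
          rintro u v ⟨hu, hu'⟩ ⟨hv, hv'⟩
          refine ⟨E.mul_mem hu hv, fun a ha => ?_⟩
          rw [MulAut.mul_apply, hv' a ha, hu' a ha]
        one_mem' := ⟨E.one_mem, fun a _ => rfl⟩
        inv_mem' := by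
          rintro u ⟨hu, hu'⟩
          refine ⟨E.inv_mem hu, fun a ha => ?_⟩
          have h := hu' a ha
          rw [show u⁻¹ a = u.symm a from rfl, MulEquiv.symm_apply_eq]
          exact h.symm }
    obtain ⟨E₁, hE₁, hE₁K, hdec⟩ := exists_elem_compl E K hEc hEp (fun u hu => hu.1)
    have hact : ∀ u ∈ E, ∃ e ∈ E₁, ∀ a ∈ B, u a = e a := by
      intro u hu
      obtain ⟨e, he, k, hk, rfl⟩ := hdec u hu
      refine ⟨e, he, fun a ha => ?_⟩
      rw [MulAut.mul_apply, hk.2 a ha]
    have hE1triv : ∀ x ∈ E₁, (∀ a ∈ B, x a = a) → x = 1 := by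
      intro x hx h
      have : x ∈ E₁ ⊓ K := ⟨hx, hE₁ hx, h⟩
      rw [hE₁K] at this
      exact Subgroup.mem_bot.mp this
    have hZB : ∀ z ∈ Z, z ∈ B := fun z hz => ((hZ z).1 hz).1
    have hZfix : ∀ z ∈ Z, ∀ u ∈ E, u z = z := fun z hz => ((hZ z).1 hz).2
    obtain ⟨w, hw, z₀, hz₀, hwz₀⟩ := hwit
    have ha₀ : w z₀ ∈ B := hBW w hw z₀ (hZB z₀ hz₀)
    by_cases hcyc : IsCyclic E₁
    · -- the cyclic case
      obtain ⟨⟨e, he⟩, hgen⟩ := IsCyclic.exists_generator (α := E₁)
      have hpow : ∀ x ∈ E₁, ∃ m : ℕ, x = e ^ m := by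
        intro x hx
        have h1 := hgen ⟨x, hx⟩
        rw [← mem_powers_iff_mem_zpowers, Submonoid.mem_powers_iff] at h1
        obtain ⟨m, hm⟩ := h1
        exact ⟨m, by simpa using (congrArg Subtype.val hm).symm⟩
      set a₀ := w z₀ with ha₀def
      set t := e a₀ * a₀⁻¹ with ht
      have htZ : t ∈ Z := hq a₀ ha₀ e (hE₁ he)
      have hpw : ∀ m : ℕ, (e ^ m) a₀ * a₀⁻¹ = t ^ m := by
        intro m
        induction m with
        | zero => simp
        | succ m ihm =>
          have h1 : (e ^ m) a₀ = t ^ m * a₀ := by rw [← ihm, inv_mul_cancel_right]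
          have h2 : e (t ^ m) = t ^ m := by
            rw [map_pow, hZfix t htZ e (hE₁ he)]
          rw [pow_succ', MulAut.mul_apply, h1, map_mul, h2, pow_succ, mul_assoc]
      have hZle : ∀ z ∈ Z, ∃ m : ℕ, z = t ^ m := by
        intro z hz
        have hna : a₀ ∉ Z := hwz₀
        obtain ⟨u, hu, huz⟩ := hs a₀ ha₀ hna z hz
        obtain ⟨x, hx, hux⟩ := hact u hu
        obtain ⟨m, rfl⟩ := hpow x hx
        refine ⟨m, ?_⟩
        rw [← huz, hux a₀ ha₀, hpw]
      have htp : t ^ p = 1 := by
        rw [← hpw, hEp e (hE₁ he)]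
        simp
      have ht1 : t ≠ 1 := by
        intro h1
        apply hwz₀
        refine (hZ _).2 ⟨ha₀, fun u hu => ?_⟩
        obtain ⟨m, hm⟩ := hZle _ (hq a₀ ha₀ u hu)
        rw [h1, one_pow] at hm
        exact mul_inv_eq_one.mp hm
      have hord : orderOf t = p := orderOf_eq_prime htp ht1
      have hZeq : Z = zpowers t := by
        apply le_antisymm
        · intro z hz
          obtain ⟨m, rfl⟩ := hZle z hz
          exact Subgroup.pow_mem _ (mem_zpowers t) m
        · rw [zpowers_le]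
          exact htZ
      refine ⟨by rw [hZeq, Nat.card_zpowers, hord], e, hE₁ he, fun u hu => ?_⟩
      obtain ⟨x, hx, hux⟩ := hact u hu
      obtain ⟨m, rfl⟩ := hpow x hx
      exact ⟨m, hux⟩
    · -- the noncyclic case
      exfalso
      haveI hE₁c : IsMulCommutative E₁ := ⟨⟨fun a b => Subtype.ext (hEc _ (hE₁ a.2) _ (hE₁ b.2))⟩⟩
      have hE₁p : IsPGroup p E₁ := fun x =>
        ⟨1, by
          apply Subtype.ext
          simpa using hEp _ (hE₁ x.2)⟩
      have hcop : (Nat.card E₁).Coprime (Nat.card W) := by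
        obtain ⟨k, hk⟩ := hE₁p.exists_card_eq
        rw [hk]
        exact Nat.Coprime.pow_left k hWp.symm
      have hgen := Cfsg.Agent.Lib.Basic.generation_by_centralizers E₁ W hcyc (hE₁.trans hEW) hcop
      have hex : ∃ x ∈ E₁, x ≠ 1 ∧ ∃ c ∈ W ⊓ centralizer {x}, ∃ z ∈ Z, c z ∉ Z := by
        by_contra hno
        push Not at hno
        let N : Subgroup (MulAut A) :=
          { carrier := {σ | ∀ z, σ z ∈ Z ↔ z ∈ Z}
            mul_mem' := by
              intro σ τ hσ hτ z
              rw [MulAut.mul_apply, hσ, hτ]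
            one_mem' := fun z => Iff.rfl
            inv_mem' := by
              intro σ hσ z
              rw [← hσ (σ⁻¹ z)]
              simp }
        have hleN : W ≤ N := by
          rw [← hgen]
          refine iSup₂_le fun x hx => ?_
          intro c hc z
          constructor
          · intro h
            have h1 := hno x hx.1 hx.2 c⁻¹ (Subgroup.inv_mem _ hc) (c z) h
            simpa using h1
          · exact hno x hx.1 hx.2 c hc z
        exact hwz₀ ((hleN hw z₀).2 hz₀)
      obtain ⟨x, hx, hx1, c, hc, z, hz, hcz⟩ := hex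
      have hcW : c ∈ W := hc.1
      have hcx : c * x = x * c := by
        have := Subgroup.mem_centralizer_iff.mp hc.2 x rfl
        exact this.symm
      have hcxa : ∀ a, c (x a) = x (c a) := fun a => by
        have := congrArg (fun f : MulAut A => f a) hcx
        simpa using this
      have hcomE : ∀ u ∈ E₁, ∀ a, u (x a) = x (u a) := fun u hu a => by
        have := congrArg (fun f : MulAut A => f a) (hEc u (hE₁ hu) x (hE₁ hx))
        simpa using this
      let B' : Subgroup A :=
        { carrier := {a | a ∈ B ∧ x a = a}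
          mul_mem' := by
            rintro a b ⟨ha, ha'⟩ ⟨hb, hb'⟩
            refine ⟨B.mul_mem ha hb, ?_⟩
            rw [map_mul, ha', hb']
          one_mem' := ⟨B.one_mem, map_one _⟩
          inv_mem' := by
            rintro a ⟨ha, ha'⟩
            refine ⟨B.inv_mem ha, ?_⟩
            rw [map_inv, ha'] }
      have hB'B : B' ≤ B := fun a ha => ha.1
      have hB'lt : Nat.card B' < Nat.card B := by
        by_contra hge
        push Not at hge
        have heq := Subgroup.eq_of_le_of_card_ge hB'B hge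
        apply hx1
        apply hE1triv x hx
        intro a ha
        rw [← heq] at ha
        exact ha.2
      have hconc := ih B' (W ⊓ centralizer {x}) E₁ Z (by omega)
        (fun u hu v hv => hEc u (hE₁ hu) v (hE₁ hv))
        (fun u hu => hEp u (hE₁ hu))
        (by
          intro u hu
          rw [Subgroup.mem_normalizer_iff]
          intro d
          constructor
          · rintro ⟨hd, hd'⟩
            refine ⟨(Subgroup.mem_normalizer_iff.mp (hEW (hE₁ hu)) d).1 hd, ?_⟩
            have hd'' : d ∈ centralizer ({x} : Set (MulAut A)) := hd'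
            show u * d * u⁻¹ ∈ centralizer ({x} : Set (MulAut A))
            rw [Subgroup.mem_centralizer_iff] at hd'' ⊢
            intro y hy
            have hyx : y = x := hy
            rw [hyx]
            have h1 := hd'' x rfl
            have h2 := hEc u (hE₁ hu) x (hE₁ hx)
            calc x * (u * d * u⁻¹) = u * (x * d) * u⁻¹ := by
                  rw [← mul_assoc x, ← mul_assoc x, ← h2]; group
              _ = u * d * x * u⁻¹ := by rw [h1]; group
              _ = u * d * u⁻¹ * x := by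
                  have h3 : x * u⁻¹ = u⁻¹ * x := by
                    rw [eq_inv_mul_iff_mul_eq, ← mul_assoc, h2, mul_assoc, mul_inv_cancel, mul_one]
                  rw [mul_assoc (u * d), h3]; group
          · rintro ⟨hd, hd'⟩
            refine ⟨(Subgroup.mem_normalizer_iff.mp (hEW (hE₁ hu)) d).2 hd, ?_⟩
            have hd'' : u * d * u⁻¹ ∈ centralizer ({x} : Set (MulAut A)) := hd'
            show d ∈ centralizer ({x} : Set (MulAut A))
            rw [Subgroup.mem_centralizer_iff] at hd'' ⊢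
            intro y hy
            have hyx : y = x := hy
            rw [hyx]
            have h1 := hd'' x rfl
            have h2 := hEc u (hE₁ hu) x (hE₁ hx)
            have h3 : x * u⁻¹ = u⁻¹ * x := by
              rw [eq_inv_mul_iff_mul_eq, ← mul_assoc, h2, mul_assoc, mul_inv_cancel, mul_one]
            have h4 : u * (x * d) * u⁻¹ = u * (d * x) * u⁻¹ := by
              calc u * (x * d) * u⁻¹ = x * (u * d * u⁻¹) := by
                    rw [← mul_assoc x, ← mul_assoc x, ← h2]; group
                _ = u * d * u⁻¹ * x := h1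
                _ = u * (d * x) * u⁻¹ := by
                    rw [mul_assoc (u * d), ← h3]; group
            have h5 := mul_left_cancel (mul_right_cancel h4)
            exact h5)
        (Nat.Coprime.coprime_dvd_left (Subgroup.card_dvd_of_le inf_le_left) hWp)
        (by
          rintro d ⟨hd, hd'⟩ a ⟨ha, ha'⟩
          refine ⟨hBW d hd a ha, ?_⟩
          have hdx : d * x = x * d := (Subgroup.mem_centralizer_iff.mp hd' x rfl).symm
          have := congrArg (fun f : MulAut A => f a) hdx
          simp only [MulAut.mul_apply] at this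
          rw [← this, ha'])
        (by
          rintro u hu a ⟨ha, ha'⟩
          refine ⟨hBE u (hE₁ hu) a ha, ?_⟩
          rw [← hcomE u hu, ha'])
        (by
          intro a
          constructor
          · intro h
            exact ⟨⟨hZB a h, hZfix a h x (hE₁ hx)⟩, fun u hu => hZfix a h u (hE₁ hu)⟩
          · rintro ⟨⟨ha, _⟩, h⟩
            refine (hZ a).2 ⟨ha, fun u hu => ?_⟩
            obtain ⟨e, he, hue⟩ := hact u hu
            rw [hue a ha, h e he])
        (fun a ha u hu => hq a ha.1 u (hE₁ hu))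
        (by
          intro a ha ha' z hz
          obtain ⟨u, hu, huz⟩ := hs a ha.1 ha' z hz
          obtain ⟨e, he, hue⟩ := hact u hu
          exact ⟨e, he, by rw [← hue a ha.1, huz]⟩)
        ⟨c, hc, z, hz, hcz⟩
      have hZp : Nat.card Z = p := hconc.1
      apply hx1
      apply hE1triv x hx
      intro a ha
      by_contra hxa
      set t := x a * a⁻¹ with ht
      have htZ : t ∈ Z := hq a ha x (hE₁ hx)
      have ht1 : t ≠ 1 := fun h => hxa (mul_inv_eq_one.mp h)
      set a' := c⁻¹ a with ha'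
      have ha'B : a' ∈ B := hBW _ (W.inv_mem hcW) a ha
      have hcaa : c a' = a := by simp [ha']
      set t' := x a' * a'⁻¹ with ht'
      have ht'Z : t' ∈ Z := hq a' ha'B x (hE₁ hx)
      have hct : c t' = t := by
        rw [ht', map_mul, map_inv, hcxa, hcaa]
      have ht'1 : t' ≠ 1 := by
        intro h
        rw [h, map_one] at hct
        exact ht1 hct.symm
      -- `t'` generates `Z`
      have hgenZ : Z = zpowers t' := by
        haveI : Fact (Nat.card Z).Prime := ⟨by rw [hZp]; exact hp.out⟩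
        symm
        apply Subgroup.eq_of_le_of_card_ge
        · rw [zpowers_le]; exact ht'Z
        · rw [Nat.card_zpowers]
          have hdvd : orderOf t' ∣ Nat.card Z := by
            have := Subgroup.orderOf_dvd_natCard Z ht'Z
            exact this
          rw [hZp] at hdvd ⊢
          rcases (Nat.dvd_prime hp.out).mp hdvd with h | h
          · exact absurd (orderOf_eq_one_iff.mp h) ht'1
          · exact h.ge
      apply hcz
      have hzm : z ∈ zpowers t' := hgenZ ▸ hz
      obtain ⟨m, rfl⟩ := Subgroup.mem_zpowers_iff.mp hzm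
      rw [map_zpow, hct]
      exact Z.zpow_mem htZ m

end Cfsg.Agent.Lib.PGroups
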