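import Mathlib
import Cfsg.Prelude.Def_Local
import Cfsg.Agent.Lib.PGroups.SchCfg
import Cfsg.Agent.Lib.Basic.Core
import Cfsg.Agent.Lib.LocalEven.Basic

/-!
# Conjugation on the abelianization of a normal subgroup; an `SL₂`-relation
-/

set_option autoImplicit false

namespace Cfsg.Agent.Lib.PGroups

open Subgroup Cfsg Cfsg.Agent.Lib.Basic
open scoped commutatorElement

variable {G : Type*} [Group G]

/-- The conjugation action on the abelianization of a normal subgroup. -/
noncomputable def abConj (V : Subgroup G) [hV : V.Normal] : G →* MulAut (Abelianization V) where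
  toFun g := (MulAut.conjNormal g : V ≃* V).abelianizationCongr
  map_one' := by
    ext a
    induction a using QuotientGroup.induction_on with
    | H v =>
      show MulEquiv.abelianizationCongr _ (Abelianization.of v) = Abelianization.of v
      rw [abelianizationCongr_of, map_one]
      rfl
  map_mul' g h := by
    ext a
    induction a using QuotientGroup.induction_on with
    | H v =>
      show MulEquiv.abelianizationCongr (MulAut.conjNormal (g * h)) (Abelianization.of v) =
        (MulEquiv.abelianizationCongr (MulAut.conjNormal g)) ((MulEquiv.abelianizationCongr (MulAut.conjNormal h)) (Abelianization.of v))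
      simp only [abelianizationCongr_of, map_mul]
      rfl

theorem abConj_of (V : Subgroup G) [hV : V.Normal] (g : G) (v : V) :
    abConj V g (Abelianization.of v) = Abelianization.of (MulAut.conjNormal g v) :=
  abelianizationCongr_of _ _

theorem abelianization_of_surj (V : Type*) [Group V] :
    Function.Surjective (Abelianization.of : V →* Abelianization V) := by
  intro a
  induction a using QuotientGroup.induction_on with
  | H v => exact ⟨v, rfl⟩

theorem of_eq_one_iff (V : Subgroup G) (v : V) :
    (Abelianization.of v = 1) ↔ (v : G) ∈ ⁅V, V⁆ := by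
  have h1 : (commutator V).map V.subtype = ⁅V, V⁆ := by
    rw [_root_.commutator_def, Subgroup.map_commutator, ← MonoidHom.range_eq_map, range_subtype]
  rw [← h1, ← MonoidHom.mem_ker, Abelianization.ker_of]
  constructor
  · intro h
    exact ⟨v, h, rfl⟩
  · rintro ⟨w, hw, hwv⟩
    have : w = v := Subtype.ext hwv
    rwa [← this]

theorem abConj_of_mem (V : Subgroup G) [hV : V.Normal] {g : G} (hg : g ∈ V) : abConj V g = 1 := by
  ext a
  obtain ⟨v, rfl⟩ := abelianization_of_surj V a
  rw [abConj_of]
  have h : MulAut.conjNormal g v = (⟨g, hg⟩ : V) * v * (⟨g, hg⟩ : V)⁻¹ := Subtype.ext (by simp)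
  rw [h, map_mul, map_mul, map_inv, mul_comm (Abelianization.of _) (Abelianization.of v), mul_assoc,
    mul_inv_cancel, mul_one]
  rfl

theorem abConj_mul_inv (V : Subgroup G) [hV : V.Normal] (g : G) (v : V) (h : ⁅g, (v : G)⁆ ∈ V) :
    abConj V g (Abelianization.of v) * (Abelianization.of v)⁻¹ = Abelianization.of (⟨⁅g, (v : G)⁆, h⟩ : V) := by
  rw [abConj_of, ← map_inv, ← map_mul]
  congr 1

theorem comm_mem_of_normal (V : Subgroup G) [hV : V.Normal] (g : G) {v : G} (hv : v ∈ V) : ⁅g, v⁆ ∈ V := by
  rw [commutatorElement_def]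
  exact V.mul_mem (hV.conj_mem v hv g) (V.inv_mem hv)

/-- The kernel of the action on `V/V'` is `V`, when `V` is a self-centralizing `p`-group with central `V'`. -/
theorem mem_of_abConj_eq_one [Finite G] {p : ℕ} [hp : Fact p.Prime] (V : Subgroup G) [hV : V.Normal]
    (hVp : IsPGroup p V) (hCV : centralizer (V : Set G) ≤ V)
    (hmax : ∀ N : Subgroup G, N.Normal → IsPGroup p N → N ≤ V)
    (hY : ∀ y ∈ ⁅V, V⁆, ∀ v ∈ V, y * v = v * y) {g : G} (hg : abConj V g = 1) : g ∈ V := by
  have hker : (abConj V).ker ≤ V := by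
    have hp1 : IsPGroup p (abConj V).ker := by
      apply Cfsg.Agent.Lib.LocalEven.isPGroup_of_forall_coprime
      rintro ⟨g, hg⟩ hcop
      have hg1 : abConj V g = 1 := hg
      have hcop' : (orderOf g).Coprime p := by
        rwa [Subgroup.orderOf_mk] at hcop
      -- `[v, g] ∈ V'`
      have hc : ∀ v ∈ V, ⁅g, v⁆ ∈ ⁅V, V⁆ := by
        intro v hv
        have h1 := abConj_mul_inv V g ⟨v, hv⟩ (comm_mem_of_normal V g hv)
        rw [hg1] at h1
        have h2 : Abelianization.of (⟨⁅g, v⁆, comm_mem_of_normal V g hv⟩ : V) = 1 := by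
          rw [← h1]
          simp
        exact (of_eq_one_iff V _).1 h2
      have hcomY : ∀ y ∈ ⁅V, V⁆, Commute g y := by
        intro y hy
        have hcl : ⁅V, V⁆ ≤ centralizer ({g} : Set G) := by
          rw [Subgroup.commutator_le]
          intro v hv w hw
          rw [Subgroup.mem_centralizer_singleton_iff]
          -- `g` fixes `[v, w]`
          have h1 : g * v * g⁻¹ = ⁅g, v⁆ * v := by rw [commutatorElement_def]; group
          have h2 : g * w * g⁻¹ = ⁅g, w⁆ * w := by rw [commutatorElement_def]; group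
          have hyv := hc v hv
          have hyw := hc w hw
          have h3 : g * ⁅v, w⁆ * g⁻¹ = ⁅v, w⁆ := by
            have : g * ⁅v, w⁆ * g⁻¹ = ⁅g * v * g⁻¹, g * w * g⁻¹⁆ := by
              simp only [commutatorElement_def]; group
            rw [this, h1, h2]
            set y₁ := ⁅g, v⁆
            set y₂ := ⁅g, w⁆
            have e1 : y₁ * w = w * y₁ := hY y₁ hyv w hw
            have e2 : y₂ * v = v * y₂ := hY y₂ hyw v hv
            have e3 : y₁ * y₂ = y₂ * y₁ :=
              hY y₁ hyv y₂ (commutator_le_self V hyw)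
            have e4 : y₁ * v = v * y₁ := hY y₁ hyv v hv
            have e5 : y₂ * w = w * y₂ := hY y₂ hyw w hw
            simp only [commutatorElement_def]
            have e1' : y₁⁻¹ * w = w * y₁⁻¹ := by
              rw [inv_mul_eq_iff_eq_mul, ← mul_assoc, e1, mul_assoc, mul_inv_cancel, mul_one]
            have e5' : y₂⁻¹ * w⁻¹ = w⁻¹ * y₂⁻¹ := by
              rw [inv_mul_eq_iff_eq_mul, ← mul_assoc]
              have : y₂ * w⁻¹ = w⁻¹ * y₂ := by
                rw [eq_inv_mul_iff_mul_eq, ← mul_assoc, ← e5, mul_assoc, mul_inv_cancel, mul_one]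
              rw [this, mul_assoc, mul_inv_cancel, mul_one]
            calc y₁ * v * (y₂ * w) * (y₁ * v)⁻¹ * (y₂ * w)⁻¹
                = y₁ * (v * (y₂ * w) * v⁻¹) * y₁⁻¹ * (w⁻¹ * y₂⁻¹) := by group
              _ = y₁ * (y₂ * (v * w * v⁻¹)) * y₁⁻¹ * (w⁻¹ * y₂⁻¹) := by
                  rw [← mul_assoc v, ← e2]; group
              _ = y₂ * (y₁ * (v * w * v⁻¹) * y₁⁻¹) * (w⁻¹ * y₂⁻¹) := by
                  rw [← mul_assoc y₁ y₂, e3]; group
              _ = y₂ * (v * w * v⁻¹) * (w⁻¹ * y₂⁻¹) := by
                  have : y₁ * (v * w * v⁻¹) * y₁⁻¹ = v * w * v⁻¹ := by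
                    have hm : v * w * v⁻¹ ∈ V := V.mul_mem (V.mul_mem hv hw) (V.inv_mem hv)
                    rw [hY y₁ hyv _ hm]; group
                  rw [this]
              _ = y₂ * (v * w * v⁻¹ * w⁻¹) * y₂⁻¹ := by group
              _ = v * w * v⁻¹ * w⁻¹ := by
                  have hm : v * w * v⁻¹ * w⁻¹ ∈ V :=
                    V.mul_mem (V.mul_mem (V.mul_mem hv hw) (V.inv_mem hv)) (V.inv_mem hw)
                  rw [hY y₂ hyw _ hm]; group
          calc ⁅v, w⁆ * g = g * ⁅v, w⁆ * g⁻¹ * g := by rw [h3]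
            _ = g * ⁅v, w⁆ := by group
        have := hcl hy
        rw [Subgroup.mem_centralizer_singleton_iff] at this
        exact this.symm
      have hcomV := Cfsg.Agent.Lib.LocalEven.coprime_commute_of_commutator_mem hcop' hVp
        (A := ⁅V, V⁆) (commutator_le_self V) hcomY (by
          intro b hb
          have h1 : b * g * b⁻¹ * g⁻¹ = ⁅b, g⁆ := rfl
          rw [h1, ← commutatorElement_inv]
          exact Subgroup.inv_mem _ (hc b hb))
      have hgV : g ∈ V := hCV (by
        rw [Subgroup.mem_centralizer_iff]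
        intro v hv
        exact ((hcomV v hv).eq).symm)
      have hgp : ∃ k, orderOf g = p ^ k := by
        obtain ⟨k, hk⟩ := (IsPGroup.iff_orderOf.mp hVp) ⟨g, hgV⟩
        exact ⟨k, by rwa [Subgroup.orderOf_mk] at hk⟩
      exact Subtype.ext (Cfsg.Agent.Lib.LocalEven.eq_one_of_coprime_of_pPower hgp hcop')
    exact hmax _ (MonoidHom.normal_ker _) hp1
  exact hker hg

end Cfsg.Agent.Lib.PGroups
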