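import Mathlib
import Cfsg.Agent.Lib.PGroups.SchG1
import Cfsg.Agent.Lib.PLocal.PSeries
import Cfsg.Agent.Lib.Char.PBlock
import Cfsg.Agent.Lib.Coprime.PSolvable
import Cfsg.Agent.Lib.Coprime.PLen
import Cfsg.Agent.Lib.PGroups.Parts

/-!
# Sylow subgroups with `[b, R] = Z(R)`

If `G` is `p`-soluble, `O_{p'}(G) = 1` and a Sylow subgroup `R` of `G` has class at most 2, `R/Z(R)` of exponent
`p`, and `[b, R] = Z(R)` for each `b ∈ R \ Z(R)`, then `R` is normal, up to the small exceptions.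
-/

set_option autoImplicit false
set_option maxHeartbeats 1000000

namespace Cfsg.Agent.Lib.PGroups

open Subgroup Cfsg Cfsg.Agent.Lib.Basic
open scoped commutatorElement

variable {G : Type*} [Group G]

/-- The relation in `SL₂(p)`: the abelianization of the group generated by two transvections has exponent
dividing 12. -/
theorem sl2_relation {V L : Subgroup G} [hL : L.Normal] (hVL : V ≤ L) (hCV : centralizer (V : Set G) ≤ V)
    {a b u s u₀ l : G} (hab : a * b = b * a) (hgen : ∀ v ∈ V, ∃ i j : ℤ, v = a ^ i * b ^ j)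
    (h1 : u * a * u⁻¹ = a) (h2 : u * b * u⁻¹ = a⁻¹ * b) (h3 : s * b * s⁻¹ = b) (h4 : s * a * s⁻¹ = b⁻¹ * a)
    (hl : l ∈ L) (hs : s = l * u₀ * l⁻¹) (hcom : ⁅u₀, u⁆ ∈ L) : u ^ 12 ∈ L := by
  have h1' : u⁻¹ * a * u = a := by
    conv_lhs => rw [← h1]
    group
  have h2' : u⁻¹ * b * u = a * b := by
    have this : u⁻¹ * (u * b * u⁻¹) * u = b := by group
    rw [h2] at this
    have h5 : u⁻¹ * (a⁻¹ * b) * u = (u⁻¹ * a * u)⁻¹ * (u⁻¹ * b * u) := by group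
    rw [h5, h1', inv_mul_eq_iff_eq_mul] at this
    exact this
  set w₀ := u⁻¹ * s * u⁻¹ with hw₀
  have hconj : ∀ x, w₀ * x * w₀⁻¹ = u⁻¹ * (s * (u⁻¹ * x * u) * s⁻¹) * u := by
    intro x; rw [hw₀]; group
  have hwa : w₀ * a * w₀⁻¹ = b⁻¹ := by
    rw [hconj, h1', h4]
    have h5 : u⁻¹ * (b⁻¹ * a) * u = (u⁻¹ * b * u)⁻¹ * (u⁻¹ * a * u) := by group
    rw [h5, h2', h1']
    group
  have hwb : w₀ * b * w₀⁻¹ = a := by
    rw [hconj, h2']
    have h5 : s * (a * b) * s⁻¹ = (s * a * s⁻¹) * (s * b * s⁻¹) := by group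
    rw [h5, h4, h3]
    have h6 : u⁻¹ * (b⁻¹ * a * b) * u = (u⁻¹ * b * u)⁻¹ * (u⁻¹ * a * u) * (u⁻¹ * b * u) := by group
    rw [h6, h2', h1']
    have h7 : b⁻¹ * a * b = a := by rw [mul_assoc, hab, inv_mul_cancel_left]
    have h8 : (a * b)⁻¹ * a * (a * b) = b⁻¹ * a * b := by group
    rw [h8, h7]
  have hwa' : w₀ * a⁻¹ * w₀⁻¹ = b := by
    have : w₀ * a⁻¹ * w₀⁻¹ = (w₀ * a * w₀⁻¹)⁻¹ := by group
    rw [this, hwa, inv_inv]
  have hwb' : w₀ * b⁻¹ * w₀⁻¹ = a⁻¹ := by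
    have : w₀ * b⁻¹ * w₀⁻¹ = (w₀ * b * w₀⁻¹)⁻¹ := by group
    rw [this, hwb]
  have sc : ∀ x y : G, w₀ * x * w₀⁻¹ = y → SemiconjBy w₀ x y := by
    intro x y h
    show w₀ * x = y * w₀
    rw [← h]; group
  have s1 := sc _ _ hwa
  have s2 := sc _ _ hwb'
  have s3 := sc _ _ hwa'
  have s4 := sc _ _ hwb
  have ca : Commute (w₀ ^ 4) a := by
    have : SemiconjBy (w₀ * (w₀ * (w₀ * w₀))) a a :=
      (s4.mul_left (s3.mul_left (s2.mul_left s1)))
    have e : w₀ ^ 4 = w₀ * (w₀ * (w₀ * w₀)) := by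
      simp only [pow_succ, pow_zero, one_mul, mul_assoc]
    rw [e]; exact this
  have cb : Commute (w₀ ^ 4) b := by
    have : SemiconjBy (w₀ * (w₀ * (w₀ * w₀))) b b :=
      (s3.mul_left (s2.mul_left (s1.mul_left s4)))
    have e : w₀ ^ 4 = w₀ * (w₀ * (w₀ * w₀)) := by
      simp only [pow_succ, pow_zero, one_mul, mul_assoc]
    rw [e]; exact this
  have hcen : ∀ t : G, Commute t a → Commute t b → t ∈ V := by
    intro t ha hb
    apply hCV
    rw [Subgroup.mem_centralizer_iff]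
    intro v hv
    obtain ⟨i, j, rfl⟩ := hgen v hv
    exact ((ha.zpow_right i).mul_right (hb.zpow_right j)).eq.symm
  have hw4 : w₀ ^ 4 ∈ L := hVL (hcen _ ca cb)
  -- the element `y`
  set y := w₀ * u⁻¹ * w₀⁻¹ with hy
  have hwa2 : w₀⁻¹ * a * w₀ = b := by
    rw [← hwb]; group
  have hwb2 : w₀⁻¹ * b * w₀ = a⁻¹ := by
    have : w₀⁻¹ * b⁻¹ * w₀ = a := by rw [← hwa]; group
    have h5 : w₀⁻¹ * b * w₀ = (w₀⁻¹ * b⁻¹ * w₀)⁻¹ := by group
    rw [h5, this]
  have hya : y * a * y⁻¹ = b⁻¹ * a := by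
    have : y * a * y⁻¹ = w₀ * (u⁻¹ * (w₀⁻¹ * a * w₀) * u) * w₀⁻¹ := by rw [hy]; group
    rw [this, hwa2, h2']
    have h5 : w₀ * (a * b) * w₀⁻¹ = (w₀ * a * w₀⁻¹) * (w₀ * b * w₀⁻¹) := by group
    rw [h5, hwa, hwb]
  have hyb : y * b * y⁻¹ = b := by
    have : y * b * y⁻¹ = w₀ * (u⁻¹ * (w₀⁻¹ * b * w₀) * u) * w₀⁻¹ := by rw [hy]; group
    rw [this, hwb2]
    have h5 : u⁻¹ * a⁻¹ * u = (u⁻¹ * a * u)⁻¹ := by group
    rw [h5, h1', hwa']
  have hz : y⁻¹ * s ∈ V := by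
    apply hcen
    · show y⁻¹ * s * a = a * (y⁻¹ * s)
      have e1 : s * a = b⁻¹ * a * s := by rw [← h4]; group
      have e2 : y * a = b⁻¹ * a * y := by rw [← hya]; group
      have e3 : y⁻¹ * (b⁻¹ * a) = a * y⁻¹ := by
        rw [eq_mul_inv_iff_mul_eq, mul_assoc, ← e2, inv_mul_cancel_left]
      rw [mul_assoc, e1, ← mul_assoc y⁻¹ (b⁻¹ * a) s, e3, mul_assoc]
    · show y⁻¹ * s * b = b * (y⁻¹ * s)
      have e1 : s * b = b * s := by
        conv_rhs => rw [← h3]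
        group
      have e2 : y * b = b * y := by
        conv_rhs => rw [← hyb]
        group
      rw [mul_assoc, e1]
      rw [← mul_assoc, ← mul_assoc]
      congr 1
      rw [inv_mul_eq_iff_eq_mul, ← mul_assoc, e2, mul_assoc, mul_inv_cancel, mul_one]
  -- pass to the quotient
  let π := QuotientGroup.mk' L
  have hπ1 : ∀ t ∈ L, π t = 1 := fun t ht => (QuotientGroup.eq_one_iff t).mpr ht
  have hSu₀ : π s = π u₀ := by
    rw [hs, map_mul, map_mul, map_inv, hπ1 l hl]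
    simp
  have hUS : Commute (π u) (π s) := by
    have h5 := hπ1 _ hcom
    rw [map_commutatorElement, commutatorElement_eq_one_iff_mul_comm] at h5
    rw [hSu₀]
    exact h5.symm
  have hW : π w₀ = (π u)⁻¹ * π s * (π u)⁻¹ := by
    rw [hw₀, map_mul, map_mul, map_inv]
  have hUW : Commute (π u) (π w₀) := by
    rw [hW]
    exact ((Commute.inv_right (Commute.refl _)).mul_right hUS).mul_right (Commute.inv_right (Commute.refl _))
  have hyS : π y = π s := by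
    have h5 := hπ1 _ (hVL hz)
    rw [map_mul, map_inv, inv_mul_eq_one] at h5
    exact h5
  have hyU : π y = (π u)⁻¹ := by
    rw [hy, map_mul, map_mul, map_inv, map_inv]
    have h5 : π w₀ * (π u)⁻¹ = (π u)⁻¹ * π w₀ := (hUW.inv_left).eq.symm
    rw [h5]
    group
  have hSU : π s = (π u)⁻¹ := by rw [← hyS, hyU]
  have hW3 : π w₀ = ((π u) ^ 3)⁻¹ := by
    rw [hW, hSU]; group
  have h12 : π (u ^ 12) = 1 := by
    have h5 := hπ1 _ hw4
    rw [map_pow, hW3] at h5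
    rw [map_pow]
    have e : (((π u) ^ 3)⁻¹) ^ 4 = ((π u) ^ 12)⁻¹ := by group
    rw [e, inv_eq_one] at h5
    exact h5
  exact (QuotientGroup.eq_one_iff _).mp h12

end Cfsg.Agent.Lib.PGroups
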