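import Mathlib
import Cfsg.Agent.Lib.PGroups.SchG2
import Cfsg.Agent.Lib.Coprime.PLen

/-!
# Sylow subgroups with `[b, R] = Z(R)`: the main theorem
-/

set_option autoImplicit false
set_option maxHeartbeats 2000000

namespace Cfsg.Agent.Lib.PGroups

open Subgroup Cfsg Cfsg.Agent.Lib.Basic
open scoped commutatorElement

variable {G : Type*} [Group G]

theorem mem_zpowers_of_card_prime {A : Type*} [Group A] [Finite A] {p : ℕ} [hp : Fact p.Prime] {Z : Subgroup A}
    (hZ : Nat.card Z = p) {g t : A} (hg : g ∈ Z) (hg1 : g ≠ 1) (ht : t ∈ Z) : t ∈ zpowers g := by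
  have heq : zpowers g = Z := by
    apply Subgroup.eq_of_le_of_card_ge
    · rw [zpowers_le]; exact hg
    · rw [Nat.card_zpowers]
      have hdvd : orderOf g ∣ Nat.card Z := Subgroup.orderOf_dvd_natCard Z hg
      rw [hZ] at hdvd ⊢
      rcases (Nat.dvd_prime hp.out).mp hdvd with h | h
      · exact absurd (orderOf_eq_one_iff.mp h) hg1
      · exact h.ge
  rw [heq]; exact ht

theorem mem_zpowers_zpow_of_ne {H : Type*} [Group H] {g : H} {p : ℕ} [hp : Fact p.Prime] (hg : g ^ p = 1) {i : ℤ}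
    (hi : g ^ i ≠ 1) : g ∈ zpowers (g ^ i) := by
  have hnp : ¬ (p : ℤ) ∣ i := by
    rintro ⟨m, rfl⟩
    apply hi
    rw [zpow_mul, zpow_natCast, hg, one_zpow]
  have hcop : IsCoprime i (p : ℤ) :=
    (Int.isCoprime_iff_gcd_eq_one).2 (by
      have hp' : Nat.Prime p := hp.out
      have : Nat.Coprime i.natAbs p := by
        rw [Nat.coprime_comm, hp'.coprime_iff_not_dvd]
        intro hd
        exact hnp (Int.natCast_dvd.mpr hd)
      simpa [Int.gcd] using this)
  obtain ⟨m, n, hmn⟩ := hcop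
  refine Subgroup.mem_zpowers_iff.mpr ⟨m, ?_⟩
  have h1 : g ^ (m * i + n * (p : ℤ)) = g := by rw [hmn, zpow_one]
  rw [zpow_add, mul_comm n, zpow_mul g (p : ℤ), zpow_natCast, hg, one_zpow, mul_one, mul_comm m, zpow_mul] at h1
  exact h1

theorem sylow_normal_of_good [Finite G] {p : ℕ} [hp : Fact p.Prime] (hsol : IsPSolvable p G)
    (hO : pPrimeCore p G = ⊥) (R : Sylow p G)
    (g1 : ∀ x ∈ (R : Subgroup G), ∀ y ∈ (R : Subgroup G), ⁅x, y⁆ ∈ centralizer ((R : Subgroup G) : Set G))
    (g2 : ∀ x ∈ (R : Subgroup G), x ^ p ∈ centralizer ((R : Subgroup G) : Set G))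
    (g3 : ∀ b ∈ (R : Subgroup G), b ∉ centralizer ((R : Subgroup G) : Set G) →
      ∀ z ∈ (R : Subgroup G), z ∈ centralizer ((R : Subgroup G) : Set G) → ∃ u ∈ (R : Subgroup G), ⁅b, u⁆ = z)
    (g4 : Nat.card (R : Subgroup G) = p ^ 2 * Nat.card ↥((R : Subgroup G) ⊓ centralizer ((R : Subgroup G) : Set G)) →
      p ≠ 3 ∧ (p = 2 → ∀ x ∈ (R : Subgroup G), x ∉ centralizer ((R : Subgroup G) : Set G) → x ^ 2 ≠ 1)) :
    ((R : Subgroup G)).Normal := by
  classical
  set S : Subgroup G := (R : Subgroup G) with hSdef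
  set C := centralizer (S : Set G) with hCdef
  set V := pCore p G with hVdef
  haveI hVn : V.Normal := pCore_normal p G
  have hVp : IsPGroup p V := pCore_isPGroup p
  have hVS : V ≤ S := normal_pGroup_le_sylow hVn hVp R
  have hCV : centralizer (V : Set G) ≤ V :=
    Cfsg.Agent.Lib.Char.centralizer_pCore_le_of_isPSolvable hsol hO
  have hCCV : C ≤ centralizer (V : Set G) := centralizer_le hVS
  have hZV : ∀ z, z ∈ C → z ∈ V := fun z hz => hCV (hCCV hz)
  have hSc : ∀ x ∈ S, ∀ y ∈ S, ⁅x, y⁆ ∈ V := fun x hx y hy => hZV _ (g1 x hx y hy)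
  have hSp : ∀ x ∈ S, x ^ p ∈ V := fun x hx => hZV _ (g2 x hx)
  have hYC : ⁅V, V⁆ ≤ C := by
    rw [Subgroup.commutator_le]
    intro v hv w hw
    exact g1 v (hVS hv) w (hVS hw)
  have hY : ∀ y ∈ ⁅V, V⁆, ∀ v ∈ V, y * v = v * y := fun y hy v hv =>
    (mem_centralizer_iff.mp (hCCV (hYC hy)) v hv).symm
  have hρ : ∀ g, abConj V g = 1 ↔ g ∈ V := fun g =>
    ⟨mem_of_abConj_eq_one V hVp hCV (fun N hN hNp => le_pCore hN hNp) hY, abConj_of_mem V⟩
  have hCS : ∀ z ∈ S ⊓ C, ∀ r ∈ S, r * z = z * r := fun z hz r hr =>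
    mem_centralizer_iff.mp hz.2 r hr
  set ρ := abConj V with hρdef
  let A := Abelianization V
  let of' : V →* A := Abelianization.of
  have hofs : Function.Surjective of' := abelianization_of_surj V
  haveI hAf : Finite A := Finite.of_surjective of' hofs
  haveI hAutf : Finite (MulAut A) :=
    Finite.of_injective (fun f : MulAut A => (f : A → A)) DFunLike.coe_injective
  have hAp : IsPGroup p A := hVp.of_surjective of' hofs
  -- the subgroup `L`
  let L : Subgroup G := (pPrimeCore p (G ⧸ V)).comap (QuotientGroup.mk' V)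
  haveI hLn : L.Normal := (pPrimeCore_normal p (G ⧸ V)).comap _
  have hVL : V ≤ L := by
    intro v hv
    show v ∈ (pPrimeCore p (G ⧸ V)).comap (QuotientGroup.mk' V)
    have h0 : QuotientGroup.mk' V v = 1 := (QuotientGroup.eq_one_iff v).mpr hv
    rw [Subgroup.mem_comap, h0]
    exact Subgroup.one_mem _
  have hLord : ∀ l ∈ L, ∃ n : ℕ, n.Coprime p ∧ l ^ n ∈ V := by
    intro l hl
    refine ⟨orderOf (QuotientGroup.mk' V l), ?_, ?_⟩
    · exact Nat.Coprime.coprime_dvd_left (Subgroup.orderOf_dvd_natCard _ hl) (pPrimeCore_coprime p)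
    · rw [← QuotientGroup.eq_one_iff]
      have := pow_orderOf_eq_one (QuotientGroup.mk' V l)
      rwa [← map_pow] at this
  have hSL : ∀ x ∈ S, x ∈ L → x ∈ V := by
    intro x hx hxL
    have h1 : (QuotientGroup.mk' V x) = 1 := by
      apply Cfsg.Agent.Lib.LocalEven.eq_one_of_coprime_of_pPower (p := p)
      · obtain ⟨k, hk⟩ := R.2 ⟨x, hx⟩
        have hk' : x ^ p ^ k = 1 := by simpa using congrArg Subtype.val hk
        have : QuotientGroup.mk' V x ^ p ^ k = 1 := by rw [← map_pow, hk', map_one]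
        obtain ⟨m, _, hm⟩ := (Nat.dvd_prime_pow hp.out).1 (orderOf_dvd_of_pow_eq_one this)
        exact ⟨m, hm⟩
      · exact Nat.Coprime.coprime_dvd_left (Subgroup.orderOf_dvd_natCard _ hxL) (pPrimeCore_coprime p)
    exact (QuotientGroup.eq_one_iff x).mp h1
  -- `E` and `W`
  let E : Subgroup (MulAut A) := S.map ρ
  let W : Subgroup (MulAut A) := L.map ρ
  have hEc : ∀ u ∈ E, ∀ v ∈ E, u * v = v * u := by
    rintro _ ⟨r, hr, rfl⟩ _ ⟨s, hs, rfl⟩
    have h1 := (hρ _).2 (hSc r hr s hs)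
    rwa [map_commutatorElement, commutatorElement_eq_one_iff_mul_comm] at h1
  have hEp : ∀ u ∈ E, u ^ p = 1 := by
    rintro _ ⟨r, hr, rfl⟩
    rw [← map_pow]
    exact (hρ _).2 (hSp r hr)
  have hEW : E ≤ normalizer (W : Set (MulAut A)) := by
    rintro _ ⟨r, hr, rfl⟩
    rw [Subgroup.mem_normalizer_iff]
    intro h
    constructor
    · rintro ⟨l, hl, rfl⟩
      exact ⟨r * l * r⁻¹, hLn.conj_mem l hl r, by simp [map_mul, map_inv]⟩
    · rintro ⟨l, hl, hlh⟩
      refine ⟨r⁻¹ * l * r, ?_, ?_⟩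
      · have := hLn.conj_mem l hl r⁻¹
        simpa using this
      · rw [map_mul, map_mul, hlh, map_inv]
        group
  have hWp : (Nat.card W).Coprime p := by
    apply Cfsg.Agent.Lib.Coprime.PLen.coprime_card_of_forall
    rintro _ ⟨l, hl, rfl⟩
    obtain ⟨n, hn, hln⟩ := hLord l hl
    exact ⟨n, hn, by rw [← map_pow]; exact (hρ _).2 hln⟩
  -- `Z̄`
  let Zb : Subgroup A := ((S ⊓ C).subgroupOf V).map of'
  have hZbm : ∀ v : V, (v : G) ∈ S ⊓ C → of' v ∈ Zb := fun v hv => ⟨v, hv, rfl⟩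
  have hZbC : ∀ v : V, of' v ∈ Zb → (v : G) ∈ C := by
    rintro v ⟨z, hz, hzv⟩
    have h1 : of' (v * z⁻¹) = 1 := by rw [map_mul, map_inv, ← hzv]; simp
    have h2 : ((v * z⁻¹ : V) : G) ∈ ⁅V, V⁆ := (of_eq_one_iff V _).1 h1
    have h3 := C.mul_mem (hYC h2) (show (z : G) ∈ C from hz.2)
    simpa using h3
  have hrho : ∀ (g : G) (v : V), ρ g (of' v) = of' (MulAut.conjNormal g v) := fun g v => abConj_of V g v
  have hqq : ∀ a : A, ∀ u ∈ E, u a * a⁻¹ ∈ Zb := by
    rintro a _ ⟨r, hr, rfl⟩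
    obtain ⟨v, rfl⟩ := hofs a
    have h1 := abConj_mul_inv V r v (comm_mem_of_normal V r v.2)
    rw [show ρ r (of' v) * (of' v)⁻¹ = of' (⟨⁅r, (v : G)⁆, comm_mem_of_normal V r v.2⟩ : V) from h1]
    refine hZbm _ ⟨?_, g1 r hr v (hVS v.2)⟩
    exact hVS (comm_mem_of_normal V r v.2)
  have hfix : ∀ z ∈ Zb, ∀ u ∈ E, u z = z := by
    rintro _ ⟨z, hz, rfl⟩ _ ⟨r, hr, rfl⟩
    show ρ r (of' z) = of' z
    rw [hrho]
    congr 1
    apply Subtype.ext
    have h1 := hCS z hz r hr
    simp only [MulAut.conjNormal_apply]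
    rw [h1]
    group
  by_cases hZb1 : Zb = ⊥
  · -- `R` acts trivially
    have hSV : S ≤ V := by
      intro r hr
      rw [← hρ]
      ext a
      have h1 := hqq a _ ⟨r, hr, rfl⟩
      rw [hZb1, Subgroup.mem_bot, mul_inv_eq_one] at h1
      exact h1
    have : S = V := le_antisymm hSV hVS
    rw [this]
    exact hVn
  obtain ⟨⟨z₁, hz₁⟩, hz₁1⟩ := (Subgroup.ne_bot_iff_exists_ne_one).mp hZb1
  have hz₁ne : z₁ ≠ 1 := fun h => hz₁1 (Subtype.ext h)
  have hss : ∀ a : A, a ∉ Zb → ∀ z ∈ Zb, ∃ u ∈ E, u a * a⁻¹ = z := by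
    rintro a ha _ ⟨z, hz, rfl⟩
    obtain ⟨v, rfl⟩ := hofs a
    have hvC : (v : G) ∉ C := fun h => ha (hZbm v ⟨hVS v.2, h⟩)
    obtain ⟨u, hu, huz⟩ := g3 v (hVS v.2) hvC (z : G)⁻¹ (S.inv_mem hz.1) (C.inv_mem hz.2)
    refine ⟨ρ u, ⟨u, hu, rfl⟩, ?_⟩
    have h1 := abConj_mul_inv V u v (comm_mem_of_normal V u v.2)
    rw [show ρ u (of' v) * (of' v)⁻¹ = of' (⟨⁅u, (v : G)⁆, comm_mem_of_normal V u v.2⟩ : V) from h1]
    congr 1
    apply Subtype.ext
    show ⁅u, (v : G)⁆ = z
    rw [← commutatorElement_inv, huz, inv_inv]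
  have hZZ : ∀ a, a ∈ Zb ↔ a ∈ (⊤ : Subgroup A) ∧ ∀ u ∈ E, u a = a := by
    intro a
    constructor
    · intro h
      exact ⟨Subgroup.mem_top _, fun u hu => hfix a h u hu⟩
    · rintro ⟨_, h⟩
      by_contra hna
      obtain ⟨u, hu, huz⟩ := hss a hna z₁ hz₁
      rw [h u hu, mul_inv_cancel] at huz
      exact hz₁ne huz.symm
  by_cases hw : ∃ w ∈ W, ∃ z ∈ Zb, w z ∉ Zb
  · obtain ⟨hZcard, e, he, hpw⟩ := config_core (Nat.card (⊤ : Subgroup A)) (⊤ : Subgroup A) W E Zb le_rfl hEc hEp hEW hWp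
      (fun _ _ _ _ => Subgroup.mem_top _) (fun _ _ _ _ => Subgroup.mem_top _) hZZ
      (fun a _ u hu => hqq a u hu) (fun a _ ha z hz => hss a ha z hz) hw
    obtain ⟨x, hx, rfl⟩ := he
    have hpw' : ∀ r ∈ S, ∃ k : ℕ, ρ r = (ρ x) ^ k := by
      intro r hr
      obtain ⟨k, hk⟩ := hpw (ρ r) ⟨r, hr, rfl⟩
      exact ⟨k, MulEquiv.ext fun a => hk a (Subgroup.mem_top _)⟩
    by_cases hxV : x ∈ V
    · have hSV : S ≤ V := by
        intro r hr
        obtain ⟨k, hk⟩ := hpw' r hr
        rw [← hρ, hk, (hρ x).2 hxV, one_pow]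
      have : S = V := le_antisymm hSV hVS
      rw [this]
      exact hVn
    · exfalso
      obtain ⟨_, ⟨l, hl, rfl⟩, _, ⟨a₀, ha₀, rfl⟩, hwz⟩ := hw
      have ha₀' : (a₀ : G) ∈ S ⊓ C := ha₀
      have haS : (a₀ : G) ∈ S := ha₀'.1
      have haC : (a₀ : G) ∈ C := ha₀'.2
      set b' : V := MulAut.conjNormal l a₀ with hb'
      have hb'G : (b' : G) = l * a₀ * l⁻¹ := by simp [hb']
      have hwz' : of' b' ∉ Zb := by
        intro h
        apply hwz
        show ρ l (of' a₀) ∈ Zb
        rw [hrho]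
        exact h
      have hbS : (b' : G) ∈ S := hVS b'.2
      have hbnC : (b' : G) ∉ C := fun h => hwz' (hZbm b' ⟨hbS, h⟩)
      have ha₀of : of' a₀ ∈ Zb := hZbm a₀ ha₀'
      have ha₀1 : of' a₀ ≠ 1 := by
        intro h
        apply hwz
        show ρ l (of' a₀) ∈ Zb
        rw [h, map_one]
        exact Subgroup.one_mem _
      -- the homomorphism `τ`
      let τ : V →* A := MonoidHom.mk' (fun v => ρ x (of' v) * (of' v)⁻¹) (by
        intro v w
        simp only [map_mul, mul_inv_rev]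
        rw [mul_comm (of' w)⁻¹]
        exact mul_mul_mul_comm _ _ _ _)
      have hτv : ∀ v, τ v = ρ x (of' v) * (of' v)⁻¹ := fun v => rfl
      have hτZ : ∀ v, τ v ∈ Zb := fun v => hqq _ _ ⟨x, hx, rfl⟩
      have hτker : ∀ v : V, τ v = 1 ↔ (v : G) ∈ C := by
        intro v
        constructor
        · intro h
          rw [hτv, mul_inv_eq_one] at h
          apply hZbC
          refine (hZZ _).2 ⟨Subgroup.mem_top _, ?_⟩
          rintro _ ⟨r, hr, rfl⟩
          obtain ⟨k, hk⟩ := hpw' r hr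
          rw [hk]
          have hpk : ∀ k : ℕ, ((ρ x) ^ k) (of' v) = of' v := by
            intro k
            induction k with
            | zero => rfl
            | succ k ih =>
              rw [pow_succ, MulAut.mul_apply, h, ih]
          exact hpk k
        · intro h
          rw [hτv, mul_inv_eq_one]
          exact hfix _ (hZbm v ⟨hVS v.2, h⟩) _ ⟨x, hx, rfl⟩
      have hτb : τ b' ≠ 1 := fun h => hbnC ((hτker b').1 h)
      have hZbgen : ∀ t ∈ Zb, ∃ k : ℤ, t = (τ b') ^ k := by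
        intro t ht
        obtain ⟨k, hk⟩ := Subgroup.mem_zpowers_iff.mp (mem_zpowers_of_card_prime hZcard (hτZ b') hτb ht)
        exact ⟨k, hk.symm⟩
      have hdec : ∀ v : V, ∃ c ∈ S ⊓ C, ∃ k : ℤ, (v : G) = c * (b' : G) ^ k := by
        intro v
        obtain ⟨k, hk⟩ := hZbgen _ (hτZ v)
        have h1 : τ (v * (b' ^ k)⁻¹) = 1 := by
          rw [map_mul, map_inv, map_zpow, hk, mul_inv_cancel]
        have h2 := (hτker _).1 h1
        refine ⟨_, ⟨hVS (v * (b' ^ k)⁻¹).2, h2⟩, k, ?_⟩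
        simp
      have hcc : ∀ c ∈ S ⊓ C, ∀ r ∈ S, Commute c r := fun c hc r hr => (hCS c hc r hr).symm
      have hVab : ∀ v ∈ V, ∀ w ∈ V, v * w = w * v := by
        intro v hv w hw
        obtain ⟨c, hc, i, hi⟩ := hdec ⟨v, hv⟩
        obtain ⟨c', hc', j, hj⟩ := hdec ⟨w, hw⟩
        have hi' : v = c * (b' : G) ^ i := hi
        have hj' : w = c' * (b' : G) ^ j := hj
        rw [hi', hj']
        have h1 : Commute c c' := hcc c hc c' hc'.1
        have h2 : Commute c ((b' : G) ^ j) := (hcc c hc _ hbS).zpow_right j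
        have h3 : Commute ((b' : G) ^ i) c' := ((hcc c' hc' _ hbS).zpow_right i).symm
        have h4 : Commute ((b' : G) ^ i) ((b' : G) ^ j) := (Commute.refl _).zpow_zpow i j
        exact ((h1.mul_right h2).mul_left (h3.mul_right h4)).eq
      have hVV : ⁅V, V⁆ = ⊥ := by
        rw [eq_bot_iff, Subgroup.commutator_le]
        intro v hv w hw
        rw [Subgroup.mem_bot, commutatorElement_eq_one_iff_mul_comm]
        exact hVab v hv w hw
      have hofinj : ∀ v : V, of' v = 1 → v = 1 := by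
        intro v hv
        have := (of_eq_one_iff V v).1 hv
        rw [hVV, Subgroup.mem_bot] at this
        exact Subtype.ext this
      -- generators
      have hZgen : ∀ c ∈ S ⊓ C, ∃ i : ℤ, c = (a₀ : G) ^ i := by
        intro c hc
        have hcV : c ∈ V := hZV c hc.2
        obtain ⟨i, hi⟩ := Subgroup.mem_zpowers_iff.mp
          (mem_zpowers_of_card_prime hZcard ha₀of ha₀1 (hZbm ⟨c, hcV⟩ hc))
        refine ⟨i, ?_⟩
        have h1 : of' ((⟨c, hcV⟩ : V) * (a₀ ^ i)⁻¹) = 1 := by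
          rw [map_mul, map_inv, map_zpow, hi, mul_inv_cancel]
        have h2 := hofinj _ h1
        have h3 := congrArg Subtype.val h2
        simp only [Subgroup.coe_mul, Subgroup.coe_inv, Subgroup.coe_zpow, Subgroup.coe_one] at h3
        exact mul_inv_eq_one.mp h3
      have hap : (a₀ : G) ^ p = 1 := by
        have h1 : orderOf (of' a₀) ∣ p := by
          have := Subgroup.orderOf_dvd_natCard Zb ha₀of
          rwa [hZcard] at this
        have h2 : of' a₀ ^ p = 1 := orderOf_dvd_iff_pow_eq_one.mp h1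
        rw [← map_pow] at h2
        have h3 := congrArg Subtype.val (hofinj _ h2)
        simpa using h3
      have hbp : (b' : G) ^ p = 1 := by
        rw [hb'G, conj_pow, hap]; group
      have ha1 : (a₀ : G) ≠ 1 := by
        intro h
        apply ha₀1
        have : a₀ = 1 := Subtype.ext h
        rw [this, map_one]
      -- the order of `S`
      have hSCV : S ⊓ C ≤ V := fun c hc => hZV c hc.2
      have hcard : Nat.card S = p ^ 2 * Nat.card ↥(S ⊓ C) := by
        let f : S →* MulAut A := ρ.comp S.subtype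
        have hfker : f.ker = V.subgroupOf S := by
          ext r
          rw [MonoidHom.mem_ker, Subgroup.mem_subgroupOf]
          exact hρ r
        have h1 : Nat.card S = Nat.card V * Nat.card f.range := by
          rw [← Subgroup.card_mul_index f.ker, Subgroup.index_ker, hfker]
          congr 1
          exact Nat.card_congr (Subgroup.subgroupOfEquivOfLe hVS).toEquiv
        have hρx1 : ρ x ≠ 1 := fun h => hxV ((hρ x).1 h)
        have hρxp : (ρ x) ^ p = 1 := hEp _ ⟨x, hx, rfl⟩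
        have h2 : f.range = zpowers (ρ x) := by
          apply le_antisymm
          · rintro _ ⟨r, rfl⟩
            obtain ⟨k, hk⟩ := hpw' r r.2
            show ρ r ∈ _
            rw [hk]
            exact Subgroup.pow_mem _ (mem_zpowers _) k
          · rw [zpowers_le]
            exact ⟨⟨x, hx⟩, rfl⟩
        have h3 : Nat.card f.range = p := by
          rw [h2, Nat.card_zpowers]
          exact orderOf_eq_prime hρxp hρx1
        have hτk : τ.ker = (S ⊓ C).subgroupOf V := by
          ext v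
          rw [MonoidHom.mem_ker, Subgroup.mem_subgroupOf, hτker]
          exact ⟨fun h => ⟨hVS v.2, h⟩, fun h => h.2⟩
        have h4 : Nat.card V = Nat.card ↥(S ⊓ C) * Nat.card τ.range := by
          rw [← Subgroup.card_mul_index τ.ker, Subgroup.index_ker, hτk]
          congr 1
          exact Nat.card_congr (Subgroup.subgroupOfEquivOfLe hSCV).toEquiv
        have h5 : τ.range = Zb := by
          apply le_antisymm
          · rintro _ ⟨v, rfl⟩
            exact hτZ v
          · intro t ht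
            obtain ⟨k, rfl⟩ := hZbgen t ht
            exact ⟨b' ^ k, map_zpow _ _ _⟩
        rw [h1, h3, h4, h5, hZcard]
        ring
      obtain ⟨hp3, hp2⟩ := g4 hcard
      have hpne2 : p ≠ 2 := by
        intro h
        apply hp2 h (b' : G) hbS hbnC
        rw [← h]
        exact hbp
      have hcop12 : Nat.Coprime 12 p := by
        have h12 : (12 : ℕ) = 2 ^ 2 * 3 := by norm_num
        rw [h12]
        apply Nat.Coprime.mul_left
        · apply Nat.Coprime.pow_left
          exact (Nat.coprime_primes Nat.prime_two hp.out).2 (Ne.symm hpne2)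
        · exact (Nat.coprime_primes Nat.prime_three hp.out).2 (Ne.symm hp3)
      obtain ⟨u, hu, huz⟩ := g3 (b' : G) hbS hbnC (a₀ : G) haS haC
      set a' : G := l⁻¹ * a₀ * l with ha'
      have ha'V : a' ∈ V := by
        have := hVn.conj_mem (a₀ : G) a₀.2 l⁻¹
        simpa [ha'] using this
      have ha'C : a' ∉ C := by
        intro hC
        obtain ⟨i, hi⟩ := hZgen a' ⟨hVS ha'V, hC⟩
        have h1 : (a₀ : G) = (b' : G) ^ i := by
          have h2 : (a₀ : G) = l * a' * l⁻¹ := by rw [ha']; group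
          rw [h2, hi, hb'G, conj_zpow]
        have h3 : (b' : G) ^ i ≠ 1 := by rw [← h1]; exact ha1
        have h4 := mem_zpowers_zpow_of_ne hbp h3
        rw [← h1] at h4
        apply hbnC
        have : zpowers (a₀ : G) ≤ C := by rw [zpowers_le]; exact haC
        exact this h4
      obtain ⟨u₀, hu₀, hu₀z⟩ := g3 a' (hVS ha'V) ha'C (a₀ : G) haS haC
      have hab : (a₀ : G) * (b' : G) = (b' : G) * (a₀ : G) := hVab _ a₀.2 _ b'.2
      have hgen : ∀ v ∈ V, ∃ i j : ℤ, v = (a₀ : G) ^ i * (b' : G) ^ j := by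
        intro v hv
        obtain ⟨c, hc, k, hk⟩ := hdec ⟨v, hv⟩
        obtain ⟨i, hi⟩ := hZgen c hc
        refine ⟨i, k, ?_⟩
        rw [← hi]
        exact hk
      have h1 : u * (a₀ : G) * u⁻¹ = (a₀ : G) := by
        rw [hCS _ ha₀' u hu]; group
      have h2 : u * (b' : G) * u⁻¹ = (a₀ : G)⁻¹ * (b' : G) := by
        have e : (a₀ : G) = (b' : G) * u * (b' : G)⁻¹ * u⁻¹ := huz.symm
        rw [e]; group
      set s : G := l * u₀ * l⁻¹ with hsdef
      have h3 : s * (b' : G) * s⁻¹ = (b' : G) := by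
        have e : u₀ * (a₀ : G) * u₀⁻¹ = (a₀ : G) := by
          rw [hCS _ ha₀' u₀ hu₀]; group
        rw [hb'G, hsdef]
        calc l * u₀ * l⁻¹ * (l * (a₀ : G) * l⁻¹) * (l * u₀ * l⁻¹)⁻¹
            = l * (u₀ * (a₀ : G) * u₀⁻¹) * l⁻¹ := by group
          _ = l * (a₀ : G) * l⁻¹ := by rw [e]
      have h4 : s * (a₀ : G) * s⁻¹ = (b' : G)⁻¹ * (a₀ : G) := by
        have e1 : ⁅(a₀ : G), s⁆ = (b' : G) := by
          rw [hb'G]
          conv_rhs => rw [← hu₀z]
          rw [hsdef, ha']
          simp only [commutatorElement_def]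
          group
        have e2 : (b' : G) = (a₀ : G) * s * (a₀ : G)⁻¹ * s⁻¹ := e1.symm
        rw [e2]; group
      have h12 := sl2_relation hVL hCV hab hgen h1 h2 h3 h4 hl rfl (hVL (hSc u₀ hu₀ u hu))
      have hu12 : u ^ 12 ∈ V := hSL _ (S.pow_mem hu 12) h12
      have hup : u ^ p ∈ V := hSp u hu
      have huV : u ∈ V := by
        have e1 : (QuotientGroup.mk' V u) ^ 12 = 1 := by
          rw [← map_pow]; exact (QuotientGroup.eq_one_iff _).mpr hu12
        have e2 : (QuotientGroup.mk' V u) ^ p = 1 := by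
          rw [← map_pow]; exact (QuotientGroup.eq_one_iff _).mpr hup
        have e3 : (QuotientGroup.mk' V u) ^ (Nat.gcd 12 p) = 1 := pow_gcd_eq_one.mpr ⟨e1, e2⟩
        rw [hcop12, pow_one] at e3
        exact (QuotientGroup.eq_one_iff _).mp e3
      apply ha1
      rw [← huz, commutatorElement_eq_one_iff_mul_comm]
      exact hVab _ b'.2 _ huV
  · push Not at hw
    have hcomm1 : ∀ r ∈ S, ∀ l ∈ L, ⁅r, l⁆ ∈ V := by
      intro r hr l hl
      rw [← hρ, map_commutatorElement, commutatorElement_def]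
      set σ := ρ r * ρ l * (ρ r)⁻¹ * (ρ l)⁻¹ with hσ
      have hRE : ρ r ∈ E := ⟨r, hr, rfl⟩
      have hRiE : (ρ r)⁻¹ ∈ E := E.inv_mem hRE
      have hLW : ρ l ∈ W := ⟨l, hl, rfl⟩
      have hLiW : (ρ l)⁻¹ ∈ W := W.inv_mem hLW
      have hσW : σ ∈ W := by
        rw [hσ]
        refine W.mul_mem ?_ hLiW
        exact (Subgroup.mem_normalizer_iff.mp (hEW hRE) (ρ l)).1 hLW
      have hσZ : ∀ z ∈ Zb, σ z = z := by
        intro z hz
        have h1 : (ρ l)⁻¹ z ∈ Zb := hw _ hLiW z hz
        simp only [hσ, MulAut.mul_apply]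
        rw [hfix _ h1 _ hRiE]
        have h2 : ρ l ((ρ l)⁻¹ z) = z := by simp
        rw [h2, hfix z hz _ hRE]
      have hσA : ∀ a, σ a * a⁻¹ ∈ Zb := by
        intro a
        set a₁ := (ρ l)⁻¹ a with ha₁
        set t₁ := (ρ r)⁻¹ a₁ * a₁⁻¹ with ht₁
        have ht₁Z : t₁ ∈ Zb := hqq a₁ _ hRiE
        have h1 : (ρ r)⁻¹ a₁ = t₁ * a₁ := by rw [ht₁]; group
        have h2 : ρ l a₁ = a := by simp [ha₁]
        have hLt : ρ l t₁ ∈ Zb := hw _ hLW t₁ ht₁Z
        have h3 : σ a = ρ l t₁ * ρ r a := by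
          simp only [hσ, MulAut.mul_apply]
          rw [← ha₁, h1, map_mul, h2, map_mul, hfix _ hLt _ hRE]
        rw [h3, mul_assoc]
        exact Zb.mul_mem hLt (hqq a _ hRE)
      have hσord : (orderOf σ).Coprime p :=
        Nat.Coprime.coprime_dvd_left (Subgroup.orderOf_dvd_natCard W hσW) hWp
      ext a
      set t := σ a * a⁻¹ with ht
      have htZ : t ∈ Zb := hσA a
      have hpow : ∀ k : ℕ, (σ ^ k) a = t ^ k * a := by
        intro k
        induction k with
        | zero => simp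
        | succ k ih =>
          have this : σ a = t * a := by rw [ht]; group
          rw [pow_succ', MulAut.mul_apply, ih, map_mul, map_pow, hσZ t htZ, pow_succ, mul_assoc]
          exact congrArg (fun y => t ^ k * y) this
      have h1 := hpow (orderOf σ)
      rw [pow_orderOf_eq_one] at h1
      have h2 : t ^ orderOf σ = 1 := by
        have h3 : a = t ^ orderOf σ * a := h1
        exact (mul_eq_right.mp h3.symm)
      have h3 : t = 1 := by
        obtain ⟨j, hj⟩ := (IsPGroup.iff_orderOf.mp hAp) t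
        exact Cfsg.Agent.Lib.LocalEven.eq_one_of_pow_coprime ⟨j, hj⟩ hσord h2
      exact mul_inv_eq_one.mp h3
    have hLN : L ≤ normalizer (S : Set G) := by
      intro l hl
      refine mem_normalizer_of_conj_le' S l ?_
      intro r hr
      have h1 : l * r * l⁻¹ = ⁅r, l⁆⁻¹ * r := by
        rw [commutatorElement_def]; group
      rw [h1]
      exact S.mul_mem (S.inv_mem (hVS (hcomm1 r hr l hl))) hr
    -- the Frattini argument
    let π := QuotientGroup.mk' L
    have hπs : Function.Surjective π := QuotientGroup.mk'_surjective L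
    have hsolQ : IsPSolvable p (G ⧸ L) := Cfsg.Agent.Lib.Coprime.isPSolvable_map π hπs hsol
    have hOQ : pPrimeCore p (G ⧸ L) = ⊥ :=
      Cfsg.Agent.Lib.PLocal.pPrimeCore_quotient_of_comap V L rfl
    have hCQ := Cfsg.Agent.Lib.Char.centralizer_pCore_le_of_isPSolvable hsolQ hOQ
    set O := pCore p (G ⧸ L) with hO'
    haveI hOn : O.Normal := pCore_normal p _
    have hOp : IsPGroup p O := pCore_isPGroup p
    let R' : Sylow p (G ⧸ L) := R.mapSurjective hπs
    have hOR' : O ≤ S.map π := by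
      have := normal_pGroup_le_sylow hOn hOp R'
      exact this
    have hSO : ∀ r ∈ S, π r ∈ O := by
      intro r hr
      apply hCQ
      rw [Subgroup.mem_centralizer_iff]
      intro o ho
      obtain ⟨r', hr', rfl⟩ := hOR' ho
      have h1 : π ⁅r', r⁆ = 1 := (QuotientGroup.eq_one_iff _).mpr (hVL (hSc r' hr' r hr))
      rw [map_commutatorElement, commutatorElement_eq_one_iff_mul_comm] at h1
      exact h1
    let N : Subgroup G := O.comap π
    haveI hNn : N.Normal := hOn.comap π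
    have hSN : (R : Subgroup G) ≤ N := fun r hr => hSO r hr
    have hNN : N ≤ normalizer (S : Set G) := by
      intro y hy
      obtain ⟨r, hr, hry⟩ := hOR' (show π y ∈ O from hy)
      have h1 : r⁻¹ * y ∈ L := by
        apply (QuotientGroup.eq_one_iff _).mp
        show π (r⁻¹ * y) = 1
        rw [map_mul, map_inv, ← hry]
        simp
      have h2 := (normalizer (S : Set G)).mul_mem (Subgroup.le_normalizer hr) (hLN h1)
      simpa using h2
    have htop := Sylow.normalizer_sup_eq_top' R hSN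
    have h3 : normalizer (S : Set G) = ⊤ := by
      have h4 : normalizer ((R : Subgroup G) : Set G) ⊔ N = normalizer (S : Set G) := sup_of_le_left hNN
      rw [← h4]
      exact htop
    exact normalizer_eq_top_iff.mp h3

end Cfsg.Agent.Lib.PGroups
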