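import Mathlib
import Cfsg.Prelude.Def_SolvableStructure
import Cfsg.Agent.Lib.PGroups.SchG1
import Cfsg.Agent.Lib.Basic.Schmidt
import Cfsg.Agent.Lib.Basic.Frattini
import Cfsg.Agent.Lib.LocalEven.Basic
import Cfsg.Agent.Lib.PGroups.Parts
import Cfsg.Agent.Lib.PGroups.SchG3

/-!
# The normal Sylow subgroup of a minimal non-nilpotent group
-/

set_option autoImplicit false
set_option maxHeartbeats 2000000

namespace Cfsg.Agent.Lib.PGroups

open Subgroup Cfsg Cfsg.Agent.Lib.Basic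
open scoped commutatorElement

/-- The properties of the normal Sylow subgroup of a minimal non-nilpotent group which we use. -/
structure SchGood (p : ℕ) (S : Type*) [Group S] : Prop where
  g1 : ∀ x y : S, ⁅x, y⁆ ∈ center S
  g2 : ∀ x : S, x ^ p ∈ center S
  g3 : ∀ b : S, b ∉ center S → ∀ z ∈ center S, ∃ u : S, ⁅b, u⁆ = z
  g4 : Nat.card S = p ^ 2 * Nat.card (center S) → p ≠ 3 ∧ (p = 2 → ∀ x : S, x ∉ center S → x ^ 2 ≠ 1)

variable {X : Type*} [Group X]

theorem comm_mul_r' {b u v : X} (h : ⁅b, v⁆ * u = u * ⁅b, v⁆) : ⁅b, u * v⁆ = ⁅b, u⁆ * ⁅b, v⁆ := by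
  have h2 : ⁅b, v⁆ * u⁻¹ = u⁻¹ * ⁅b, v⁆ := by
    rw [eq_inv_mul_iff_mul_eq, ← mul_assoc, ← h, mul_assoc, mul_inv_cancel, mul_one]
  calc ⁅b, u * v⁆ = b * u * b⁻¹ * (⁅b, v⁆ * u⁻¹) := by
        simp only [commutatorElement_def]; group
    _ = b * u * b⁻¹ * (u⁻¹ * ⁅b, v⁆) := by rw [h2]
    _ = ⁅b, u⁆ * ⁅b, v⁆ := by
        rw [commutatorElement_def b u]
        simp only [mul_assoc]

theorem comm_mul_l' {c d u : X} (h : ⁅d, u⁆ * c = c * ⁅d, u⁆) : ⁅c * d, u⁆ = ⁅d, u⁆ * ⁅c, u⁆ := by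
  calc ⁅c * d, u⁆ = c * ⁅d, u⁆ * u * c⁻¹ * u⁻¹ := by
        simp only [commutatorElement_def]; group
    _ = ⁅d, u⁆ * c * u * c⁻¹ * u⁻¹ := by rw [h]
    _ = ⁅d, u⁆ * ⁅c, u⁆ := by rw [commutatorElement_def]; group

theorem schmidt_setup [Finite X] {p : ℕ} [hp : Fact p.Prime] (hX : IsMinimalNonNilpotent X) (P₀ : Sylow p X)
    (hPn : (P₀ : Subgroup X).Normal) (hP1 : (P₀ : Subgroup X) ≠ ⊥) :
    ∃ q : ℕ, q.Prime ∧ q ≠ p ∧ ∃ T : Subgroup X, IsPGroup q T ∧ IsCyclic T ∧ (P₀ : Subgroup X) ⊔ T = ⊤ ∧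
      ¬ (∀ t ∈ T, ∀ x ∈ (P₀ : Subgroup X), t * x = x * t) := by
  obtain ⟨p', q', hp', hq', hne, T₀, Q₀, hcyc, hQ₀n, hsup⟩ := minNonNilpotent_structure hX
  haveI : Fact p'.Prime := ⟨hp'⟩
  haveI : Fact q'.Prime := ⟨hq'⟩
  have hdvd : p ∣ Nat.card X := by
    obtain ⟨k, hk⟩ := IsPGroup.iff_card.mp P₀.2
    have hk0 : k ≠ 0 := by
      rintro rfl
      apply hP1
      rw [pow_zero] at hk
      exact Subgroup.card_eq_one.mp hk
    exact (Dvd.dvd.trans (dvd_pow_self p hk0) (by rw [← hk])).trans (Subgroup.card_subgroup_dvd_card _)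
  have hprimes : ∀ r : ℕ, r.Prime → r ∣ Nat.card X → r = p' ∨ r = q' := by
    intro r hr hd
    have h1 : Nat.card X = Nat.card (Q₀ : Subgroup X) * (Q₀ : Subgroup X).relIndex T₀ := by
      rw [← card_sup_eq_of_normal, hsup, Subgroup.card_top]
    have h2 : (Q₀ : Subgroup X).relIndex T₀ ∣ Nat.card (T₀ : Subgroup X) :=
      Subgroup.relIndex_dvd_card _ _
    obtain ⟨a, ha⟩ := IsPGroup.iff_card.mp T₀.2
    obtain ⟨b, hb⟩ := IsPGroup.iff_card.mp Q₀.2
    rw [h1] at hd
    rcases (Nat.Prime.dvd_mul hr).mp hd with h3 | h3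
    · rw [hb] at h3
      exact Or.inr ((Nat.prime_dvd_prime_iff_eq hr hq').mp (hr.dvd_of_dvd_pow h3))
    · have h4 := h3.trans h2
      rw [ha] at h4
      exact Or.inl ((Nat.prime_dvd_prime_iff_eq hr hp').mp (hr.dvd_of_dvd_pow h4))
  rcases hprimes p hp.out hdvd with h | h
  · exfalso
    subst h
    have hT : (T₀ : Subgroup X) = P₀ := by
      haveI := Sylow.unique_of_normal P₀ hPn
      rw [Subsingleton.elim T₀ P₀]
    apply hX.1
    apply isNilpotent_of_sup_eq_top (M := (T₀ : Subgroup X)) (N := (Q₀ : Subgroup X)) (hT ▸ hPn) hQ₀n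
      T₀.2.isNilpotent Q₀.2.isNilpotent hsup
  · subst h
    have hQ : (Q₀ : Subgroup X) = P₀ := by
      haveI := Sylow.unique_of_normal P₀ hPn
      rw [Subsingleton.elim Q₀ P₀]
    refine ⟨p', hp', hne, T₀, T₀.2, hcyc, ?_, ?_⟩
    · rw [← hQ, sup_comm]; exact hsup
    · intro hc
      apply hX.1
      apply isNilpotent_of_sylows_commute T₀ P₀ hPn
      · rw [← hQ]; exact hsup
      · intro t ht x hx
        exact (hc x hx t ht).symm

theorem conj_mem_map_of_char {P : Subgroup X} [hP : P.Normal] (K : Subgroup ↥P) [hK : K.Characteristic] (t : X) {y : X}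
    (hy : y ∈ K.map P.subtype) : t * y * t⁻¹ ∈ K.map P.subtype := by
  obtain ⟨y', hy', rfl⟩ := hy
  have h1 := hK.fixed (MulAut.conjNormal t : P ≃* P)
  have h2 : y' ∈ K.comap (MulAut.conjNormal t : P ≃* P).toMonoidHom := by rw [h1]; exact hy'
  exact ⟨_, h2, by simp⟩

/-- The structural facts in the group `X`, in the non-abelian case. -/
theorem schmidt_core [Finite X] {p q : ℕ} [hp : Fact p.Prime] [hq : Fact q.Prime] (hqp : q ≠ p)
    (hX : IsMinimalNonNilpotent X) (P : Subgroup X) [hPn : P.Normal] (hPp : IsPGroup p P) (hP1 : P ≠ ⊥)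
    (T : Subgroup X) (hTq : IsPGroup q T) (hnc : ¬ (∀ t ∈ T, ∀ x ∈ P, t * x = x * t)) :
    ∃ C : Subgroup X, C ≤ P ∧ (∀ c ∈ C, ∀ t ∈ T, t * c = c * t) ∧ C ≠ P ∧
      (∀ M : Subgroup X, M ≤ P → M ≠ P → (∀ t ∈ T, ∀ m ∈ M, t * m * t⁻¹ ∈ M) → M ≤ C) ∧
      (∀ x ∈ P, x ^ p ∈ C) ∧ (∀ x ∈ P, ∀ y ∈ P, ⁅x, y⁆ ∈ C) ∧ (∀ c ∈ C, ∀ y ∈ P, c * y = y * c) ∧
      (∀ c ∈ C, c ∈ ⁅P, P⁆) := by
  classical
  have hcop : (Nat.card P).Coprime (Nat.card T) := by
    obtain ⟨a, ha⟩ := IsPGroup.iff_card.mp hPp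
    obtain ⟨b, hb⟩ := IsPGroup.iff_card.mp hTq
    rw [ha, hb]
    exact Nat.Coprime.pow _ _ ((Nat.coprime_primes hp.out hq.out).2 (Ne.symm hqp))
  have hordcop : ∀ t ∈ T, ∀ x ∈ P, (orderOf t).Coprime (orderOf x) := fun t ht x hx =>
    Nat.Coprime.coprime_dvd_left (Subgroup.orderOf_dvd_natCard T ht)
      (Nat.Coprime.coprime_dvd_right (Subgroup.orderOf_dvd_natCard P hx) hcop.symm)
  have hcopt : ∀ t ∈ T, (orderOf t).Coprime p := fun t ht => by
    obtain ⟨b, hb⟩ := IsPGroup.iff_card.mp hTq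
    apply Nat.Coprime.coprime_dvd_left (Subgroup.orderOf_dvd_natCard T ht)
    rw [hb]
    exact Nat.Coprime.pow_left _ ((Nat.coprime_primes hq.out hp.out).2 hqp)
  have hF0 : ∀ M : Subgroup X, M ≤ P → M ≠ P → (∀ t ∈ T, ∀ m ∈ M, t * m * t⁻¹ ∈ M) →
      ∀ t ∈ T, ∀ m ∈ M, t * m = m * t := by
    intro M hMP hne hinv t ht m hm
    have hH : M ⊔ T ≠ ⊤ := by
      intro htop
      have hN : normalizer (M : Set X) = ⊤ := by
        rw [eq_top_iff, ← htop]
        exact sup_le le_normalizer (fun t ht => mem_normalizer_of_conj_le' M t (hinv t ht))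
      haveI hMn : M.Normal := normalizer_eq_top_iff.mp hN
      have h1 : M.index = M.relIndex T := by
        have h2 := Subgroup.relIndex_sup_right T M
        rw [sup_comm, htop, Subgroup.relIndex_top_right] at h2
        exact h2
      have h3 : Nat.card P ∣ Nat.card M * M.index := by
        rw [Subgroup.card_mul_index]
        exact Subgroup.card_subgroup_dvd_card P
      have h4 : (Nat.card P).Coprime M.index := by
        rw [h1]
        exact Nat.Coprime.coprime_dvd_right (Subgroup.relIndex_dvd_card _ _) hcop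
      have h5 := h4.dvd_of_dvd_mul_right h3
      exact hne (Subgroup.eq_of_le_of_card_ge hMP (Nat.le_of_dvd Nat.card_pos h5))
    have hnil := hX.2 _ hH
    exact commute_of_mem_nilpotent_of_coprime hnil (mem_sup_right ht) (mem_sup_left hm)
      (hordcop t ht m (hMP hm))
  let C : Subgroup X := P ⊓ centralizer (T : Set X)
  have hCP : C ≤ P := inf_le_left
  have hCt : ∀ c ∈ C, ∀ t ∈ T, t * c = c * t := fun c hc t ht => mem_centralizer_iff.mp hc.2 t ht
  have hCt' : ∀ c ∈ C, ∀ t ∈ T, t * c * t⁻¹ = c := fun c hc t ht => by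
    rw [hCt c hc t ht]; group
  have hCne : C ≠ P := by
    intro h
    apply hnc
    intro t ht x hx
    exact hCt x (h ▸ hx) t ht
  have hle : ∀ M : Subgroup X, M ≤ P → M ≠ P → (∀ t ∈ T, ∀ m ∈ M, t * m * t⁻¹ ∈ M) → M ≤ C := by
    intro M hMP hne hinv m hm
    exact ⟨hMP hm, mem_centralizer_iff.mpr fun t ht => hF0 M hMP hne hinv t ht m hm⟩
  have hPp' : IsPGroup p ↥P := hPp
  haveI hPnil : Group.IsNilpotent ↥P := hPp.isNilpotent
  haveI hPnt : Nontrivial ↥P := (Subgroup.nontrivial_iff_ne_bot P).2 hP1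
  have hΦ : (frattini ↥P).map P.subtype ≤ C := by
    apply hle _ (map_subtype_le _)
    · intro h
      have h1 : frattini ↥P = ⊤ := by
        apply Subgroup.map_injective P.subtype_injective
        rw [h, ← MonoidHom.range_eq_map, range_subtype]
      rcases eq_top_or_exists_le_coatom (⊥ : Subgroup ↥P) with h2 | ⟨M, hM, _⟩
      · exact bot_ne_top h2
      · have h3 : frattini ↥P ≤ M := (le_frattini_iff.mp le_rfl) M hM
        rw [h1] at h3
        exact hM.1 (top_le_iff.mp h3)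
    · intro t _ m hm
      exact conj_mem_map_of_char _ t hm
  have hpowC : ∀ x ∈ P, x ^ p ∈ C := by
    intro x hx
    refine hΦ ⟨(⟨x, hx⟩ : P) ^ p, pow_mem_frattini_of_isPGroup hPp' _, ?_⟩
    simp
  have hcommC : ∀ x ∈ P, ∀ y ∈ P, ⁅x, y⁆ ∈ C := by
    intro x hx y hy
    refine hΦ ⟨⁅(⟨x, hx⟩ : P), (⟨y, hy⟩ : P)⁆, commutator_le_frattini_of_isNilpotent
      (Subgroup.commutator_mem_commutator (mem_top _) (mem_top _)), ?_⟩
    simp [commutatorElement_def]
  -- if `T` acts trivially on `P / C`, contradiction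
  have htriv : (∀ y ∈ P, ∀ t ∈ T, (t * y * t⁻¹)⁻¹ * y ∈ C) → False := by
    intro h
    apply hnc
    intro t ht x hx
    have h1 := Cfsg.Agent.Lib.LocalEven.coprime_commute_of_commutator_mem (hcopt t ht) hPp
      (A := C) hCP (fun a ha => hCt a ha t ht) (by
        intro b hb
        have h2 := h b⁻¹ (P.inv_mem hb) t ht
        have h3 := C.inv_mem h2
        have h4 : ((t * b⁻¹ * t⁻¹)⁻¹ * b⁻¹)⁻¹ = b * t * b⁻¹ * t⁻¹ := by group
        rwa [h4] at h3) x hx
    exact h1.eq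
  -- `C` is central in `P`
  have hCZ : ∀ c ∈ C, ∀ y ∈ P, c * y = y * c := by
    let L : Subgroup X := P ⊓ centralizer (C : Set X)
    have hLP : L = P := by
      by_contra hne
      have hLC : L ≤ C := by
        apply hle L inf_le_left hne
        intro t ht l hl
        refine ⟨hPn.conj_mem l hl.1 t, mem_centralizer_iff.mpr ?_⟩
        intro c hc
        have h1 := mem_centralizer_iff.mp hl.2 c hc
        have hct : Commute c t := (hCt c hc t ht).symm
        have hcl : Commute c l := h1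
        exact ((hct.mul_right hcl).mul_right hct.inv_right).eq
      apply htriv
      intro y hy t ht
      apply hLC
      refine ⟨P.mul_mem (P.inv_mem (hPn.conj_mem y hy t)) hy, mem_centralizer_iff.mpr ?_⟩
      intro c hc
      set y' := t * y * t⁻¹ with hy'
      have hy'P : y' ∈ P := hPn.conj_mem y hy t
      have h1 : t * ⁅c, y⁆ * t⁻¹ = ⁅c, y⁆ := hCt' _ (hcommC c (hCP hc) y hy) t ht
      have h2 : t * ⁅c, y⁆ * t⁻¹ = ⁅c, y'⁆ := by
        have h3 : t * c * t⁻¹ = c := hCt' c hc t ht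
        have h4 : t * ⁅c, y⁆ * t⁻¹ = ⁅t * c * t⁻¹, t * y * t⁻¹⁆ := by
          simp only [commutatorElement_def]; group
        rw [h4, h3]
      rw [h1] at h2
      simp only [commutatorElement_def] at h2
      have h5 : y * c⁻¹ * y⁻¹ = y' * c⁻¹ * y'⁻¹ := by
        have h6 := mul_left_cancel (a := c) (b := y * c⁻¹ * y⁻¹) (c := y' * c⁻¹ * y'⁻¹) (by
          simpa [mul_assoc] using h2)
        exact h6
      have h7 : y * c⁻¹ = y' * c⁻¹ * y'⁻¹ * y := by
        rw [← h5]; group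
      have h8 : y'⁻¹ * y * c⁻¹ = c⁻¹ * (y'⁻¹ * y) := by
        rw [mul_assoc, h7]; group
      calc c * (y'⁻¹ * y) = c * (y'⁻¹ * y * c⁻¹) * c := by group
        _ = c * (c⁻¹ * (y'⁻¹ * y)) * c := by rw [h8]
        _ = y'⁻¹ * y * c := by group
    intro c hc y hy
    rw [← hLP] at hy
    exact (mem_centralizer_iff.mp hy.2 c hc)
  -- `C ≤ P'`: the norm map
  have hCder : ∀ c ∈ C, c ∈ ⁅P, P⁆ := by
    haveI hTf : Fintype T := Fintype.ofFinite T
    let of' : ↥P →* Abelianization ↥P := Abelianization.of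
    let cj : T → (↥P →* ↥P) := fun t => (MulAut.conjNormal (t : X) : P ≃* P).toMonoidHom
    let φ : ↥P →* Abelianization ↥P := ∏ t : T, of'.comp (cj t)
    have hφ : ∀ y, φ y = ∏ t : T, of' (cj t y) := fun y => by
      simp [φ, MonoidHom.finsetProd_apply]
    have hcjm : ∀ (t s : T) (y : P), cj t (cj s y) = cj (t * s) y := fun t s y => by
      apply Subtype.ext
      simp [cj, mul_assoc]
    have hφinv : ∀ (t₀ : T) (y : P), φ (cj t₀ y) = φ y := by
      intro t₀ y
      rw [hφ, hφ]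
      simp only [hcjm]
      exact Fintype.prod_equiv (Equiv.mulRight t₀) _ _ (fun t => rfl)
    have htop : φ.ker.map P.subtype = P := by
      by_contra hne
      have hlec := hle (φ.ker.map P.subtype) (map_subtype_le _) hne (by
        rintro t ht _ ⟨y, hy, rfl⟩
        refine ⟨cj ⟨t, ht⟩ y, SetLike.mem_coe.mpr (MonoidHom.mem_ker.mpr ?_), by simp [cj]⟩
        rw [hφinv]
        exact MonoidHom.mem_ker.mp hy)
      apply htriv
      intro y hy t ht
      apply hlec
      refine ⟨(cj ⟨t, ht⟩ ⟨y, hy⟩)⁻¹ * ⟨y, hy⟩, SetLike.mem_coe.mpr (MonoidHom.mem_ker.mpr ?_), by simp [cj]⟩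
      rw [map_mul, map_inv, hφinv, inv_mul_cancel]
    intro c hc
    have hcP : c ∈ P := hCP hc
    have hcker : (⟨c, hcP⟩ : P) ∈ φ.ker := by
      have : c ∈ φ.ker.map P.subtype := by rw [htop]; exact hcP
      obtain ⟨y, hy, hyc⟩ := this
      have : y = ⟨c, hcP⟩ := Subtype.ext hyc
      rwa [← this]
    have h1 : of' ⟨c, hcP⟩ ^ Fintype.card T = 1 := by
      have h2 := (MonoidHom.mem_ker.mp hcker)
      rw [hφ] at h2
      have h3 : ∀ t : T, cj t ⟨c, hcP⟩ = ⟨c, hcP⟩ := fun t => by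
        apply Subtype.ext
        exact hCt' c hc t t.2
      simp only [h3] at h2
      rwa [Finset.prod_const, Finset.card_univ] at h2
    have hofp : IsPGroup p (Abelianization ↥P) := hPp'.of_surjective of' (abelianization_of_surj _)
    have hcardT : (Fintype.card T).Coprime p := by
      rw [← Nat.card_eq_fintype_card]
      exact Nat.Coprime.coprime_dvd_left (dvd_refl _) (by
        obtain ⟨b, hb⟩ := IsPGroup.iff_card.mp hTq
        rw [hb]
        exact Nat.Coprime.pow_left _ ((Nat.coprime_primes hq.out hp.out).2 hqp))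
    obtain ⟨j, hj⟩ := (IsPGroup.iff_orderOf.mp hofp) (of' ⟨c, hcP⟩)
    have h2 := Cfsg.Agent.Lib.LocalEven.eq_one_of_pow_coprime ⟨j, hj⟩ hcardT h1
    exact (of_eq_one_iff P ⟨c, hcP⟩).1 h2
  exact ⟨C, hCP, hCt, hCne, hle, hpowC, hcommC, hCZ, hCder⟩

theorem schmidt_good [Finite X] {p : ℕ} [hp : Fact p.Prime] (hX : IsMinimalNonNilpotent X) (P₀ : Sylow p X)
    (hPn : (P₀ : Subgroup X).Normal) (hP1 : (P₀ : Subgroup X) ≠ ⊥) : SchGood p ↥(P₀ : Subgroup X) := by
  classical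
  obtain ⟨q, hq, hqp, T, hTq, hTc, hPT, hnc⟩ := schmidt_setup hX P₀ hPn hP1
  haveI hqf : Fact q.Prime := ⟨hq⟩
  set P : Subgroup X := (P₀ : Subgroup X) with hPdef
  have hPp : IsPGroup p P := P₀.2
  haveI hPn' : P.Normal := hPn
  obtain ⟨C, hCP, hCt, hCne, hle, hpowC, hcommC, hCZ, hCder⟩ := schmidt_core hqp hX P hPp hP1 T hTq hnc
  have hcoeP : ∀ x y : ↥P, ((⁅x, y⁆ : ↥P) : X) = ⁅(x : X), (y : X)⁆ := fun x y => rfl
  by_cases hab : ∀ x ∈ P, ∀ y ∈ P, x * y = y * x
  · have hcen : ∀ x : ↥P, x ∈ center ↥P := by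
      intro x
      rw [Subgroup.mem_center_iff]
      intro y
      exact Subtype.ext (hab _ y.2 _ x.2)
    refine ⟨fun x y => hcen _, fun x => hcen _, fun b hb => absurd (hcen b) hb, ?_⟩
    intro h
    exfalso
    have h1 : center ↥P = ⊤ := eq_top_iff.mpr fun x _ => hcen x
    rw [h1, Subgroup.card_top] at h
    have h2 : 0 < Nat.card ↥P := Nat.card_pos
    have h4 : 1 < p ^ 2 := Nat.one_lt_pow (by norm_num) hp.out.one_lt
    have h5 : 1 * Nat.card ↥P < p ^ 2 * Nat.card ↥P := Nat.mul_lt_mul_of_pos_right h4 h2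
    rw [one_mul] at h5
    linarith
  -- the non-abelian case
  have hcenC : ∀ x : ↥P, x ∈ center ↥P ↔ (x : X) ∈ C := by
    intro x
    constructor
    · intro hx
      have hle' : (center ↥P).map P.subtype ≤ C := by
        apply hle _ (map_subtype_le _)
        · intro h
          apply hab
          intro a ha b hb
          have hb' : b ∈ (center ↥P).map P.subtype := by rw [h]; exact hb
          obtain ⟨b', hb'', rfl⟩ := hb'
          have := (Subgroup.mem_center_iff.mp hb'') ⟨a, ha⟩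
          exact (congrArg Subtype.val this)
        · intro t _ m hm
          exact conj_mem_map_of_char _ t hm
      exact hle' ⟨x, hx, rfl⟩
    · intro hx
      rw [Subgroup.mem_center_iff]
      intro y
      exact Subtype.ext (hCZ _ hx _ y.2).symm
  have hcc : ∀ x ∈ P, ∀ y ∈ P, ∀ w ∈ P, ⁅x, y⁆ * w = w * ⁅x, y⁆ := fun x hx y hy w hw =>
    hCZ _ (hcommC x hx y hy) w hw
  have hCt' : ∀ c ∈ C, ∀ t ∈ T, t * c * t⁻¹ = c := fun c hc t ht => by
    rw [hCt c hc t ht]; group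
  -- `[b, P] = Z(P)`
  have hg3 : ∀ b ∈ P, b ∉ C → ∀ z ∈ C, ∃ u ∈ P, ⁅b, u⁆ = z := by
    intro b hb hbC z hz
    let I : Subgroup X :=
      { carrier := {y | ∃ u ∈ P, ⁅b, u⁆ = y}
        mul_mem' := by
          rintro _ _ ⟨u, hu, rfl⟩ ⟨v, hv, rfl⟩
          exact ⟨u * v, P.mul_mem hu hv, comm_mul_r' (hcc b hb v hv u hu)⟩
        one_mem' := ⟨1, P.one_mem, by simp [commutatorElement_def]⟩
        inv_mem' := by
          rintro _ ⟨u, hu, rfl⟩
          refine ⟨u⁻¹, P.inv_mem hu, ?_⟩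
          have h1 : ⁅b, u * u⁻¹⁆ = ⁅b, u⁆ * ⁅b, u⁻¹⁆ := comm_mul_r' (hcc b hb _ (P.inv_mem hu) u hu)
          have h2 : ⁅b, u * u⁻¹⁆ = 1 := by simp [commutatorElement_def]
          rw [h2] at h1
          exact (eq_inv_of_mul_eq_one_right h1.symm) }
    have hIC : ∀ y ∈ I, y ∈ C := by
      rintro _ ⟨u, hu, rfl⟩
      exact hcommC b hb u hu
    let RI : Subgroup X :=
      { carrier := {c | c ∈ P ∧ ∀ u ∈ P, ⁅c, u⁆ ∈ I}
        mul_mem' := by
          rintro c d ⟨hc, hc'⟩ ⟨hd, hd'⟩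
          refine ⟨P.mul_mem hc hd, fun u hu => ?_⟩
          rw [comm_mul_l' (hcc d hd u hu c hc)]
          exact I.mul_mem (hd' u hu) (hc' u hu)
        one_mem' := ⟨P.one_mem, fun u _ => ⟨1, P.one_mem, by simp [commutatorElement_def]⟩⟩
        inv_mem' := by
          rintro c ⟨hc, hc'⟩
          refine ⟨P.inv_mem hc, fun u hu => ?_⟩
          have h1 : ⁅c⁻¹ * c, u⁆ = ⁅c, u⁆ * ⁅c⁻¹, u⁆ := comm_mul_l' (hcc c hc u hu _ (P.inv_mem hc))
          have h2 : ⁅c⁻¹ * c, u⁆ = 1 := by simp [commutatorElement_def]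
          rw [h2] at h1
          rw [eq_inv_of_mul_eq_one_right h1.symm]
          exact I.inv_mem (hc' u hu) }
    have hRI : RI = P := by
      by_contra hne
      have hlec := hle RI (fun c hc => hc.1) hne (by
        rintro t ht c ⟨hcP, hc⟩
        refine ⟨hPn'.conj_mem c hcP t, fun u hu => ?_⟩
        have hu' : t⁻¹ * u * t ∈ P := by
          have := hPn'.conj_mem u hu t⁻¹
          simpa using this
        have h1 := hc _ hu'
        have h2 := hCt' _ (hIC _ h1) t ht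
        have h3 : ⁅t * c * t⁻¹, u⁆ = t * ⁅c, t⁻¹ * u * t⁆ * t⁻¹ := by
          simp only [commutatorElement_def]; group
        rw [h3, h2]
        exact h1)
      exact hbC (hlec ⟨hb, fun u hu => ⟨u, hu, rfl⟩⟩)
    have hcomI : ⁅P, P⁆ ≤ I := by
      rw [Subgroup.commutator_le]
      intro x hx y hy
      have hx' : x ∈ RI := by rw [hRI]; exact hx
      exact hx'.2 y hy
    exact hcomI (hCder z hz)
  -- `Z(P)` has exponent `p`
  have hCexp : ∀ c ∈ C, c ^ p = 1 := by
    have hcp : ∀ (n : ℕ), ∀ x ∈ P, ∀ y ∈ P, ⁅x ^ n, y⁆ = ⁅x, y⁆ ^ n := by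
      intro n
      induction n with
      | zero => intro x _ y _; simp [commutatorElement_def]
      | succ n ih =>
        intro x hx y hy
        rw [pow_succ', comm_mul_l' (hcc _ (P.pow_mem hx n) y hy x hx), ih x hx y hy, pow_succ]
    let K : Subgroup X :=
      { carrier := {y | y ∈ C ∧ y ^ p = 1}
        mul_mem' := by
          rintro y z ⟨hy, hy'⟩ ⟨hz, hz'⟩
          refine ⟨C.mul_mem hy hz, ?_⟩
          have hcomm : Commute y z := hCZ y hy z (hCP hz)
          rw [hcomm.mul_pow, hy', hz', one_mul]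
        one_mem' := ⟨C.one_mem, one_pow _⟩
        inv_mem' := by
          rintro y ⟨hy, hy'⟩
          exact ⟨C.inv_mem hy, by rw [inv_pow, hy', inv_one]⟩ }
    have hKle : ⁅P, P⁆ ≤ K := by
      rw [Subgroup.commutator_le]
      intro x hx y hy
      refine ⟨hcommC x hx y hy, ?_⟩
      rw [← hcp p x hx y hy, commutatorElement_eq_one_iff_mul_comm]
      exact hCZ _ (hpowC x hx) y hy
    exact fun c hc => (hKle (hCder c hc)).2
  refine ⟨fun x y => (hcenC _).2 (hcommC _ x.2 _ y.2), fun x => (hcenC _).2 (hpowC _ x.2), ?_, ?_⟩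
  · intro b hb z hz
    obtain ⟨u, hu, huz⟩ := hg3 b b.2 (fun h => hb ((hcenC b).2 h)) z ((hcenC z).1 hz)
    exact ⟨⟨u, hu⟩, Subtype.ext huz⟩
  · intro hcard
    obtain ⟨⟨σ, hσT⟩, hgen⟩ := IsCyclic.exists_generator (α := T)
    have hTle : ∀ t ∈ T, t ∈ zpowers σ := by
      intro t ht
      obtain ⟨k, hk⟩ := Subgroup.mem_zpowers_iff.mp (hgen ⟨t, ht⟩)
      refine Subgroup.mem_zpowers_iff.mpr ⟨k, ?_⟩
      simpa using congrArg Subtype.val hk
    -- no fixed points
    have hNF : ∀ y ∈ P, σ * y * σ⁻¹ ∈ zpowers y ⊔ C → y ∈ C := by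
      intro y hy hσ
      set M : Subgroup X := zpowers y ⊔ C with hM
      have hMP : M ≤ P := sup_le (zpowers_le.2 hy) hCP
      have hσN : σ ∈ normalizer (M : Set X) := by
        refine mem_normalizer_of_conj_le' M σ ?_
        have hle2 : M ≤ M.comap (MulAut.conj σ).toMonoidHom := by
          refine sup_le ?_ ?_
          · rw [zpowers_le]
            exact hσ
          · intro c hc
            show σ * c * σ⁻¹ ∈ M
            rw [hCt' c hc σ hσT]
            exact mem_sup_right hc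
        intro w hw
        exact hle2 hw
      have hTinv : ∀ t ∈ T, ∀ m ∈ M, t * m * t⁻¹ ∈ M := by
        intro t ht m hm
        have h1 : t ∈ normalizer (M : Set X) := (zpowers_le.2 hσN) (hTle t ht)
        exact (Subgroup.mem_normalizer_iff.mp h1 m).1 hm
      by_cases hMne : M = P
      · have hcent : M ≤ centralizer ({y} : Set X) := by
          refine sup_le ?_ ?_
          · rw [zpowers_le, Subgroup.mem_centralizer_singleton_iff]
          · intro c hc
            rw [Subgroup.mem_centralizer_singleton_iff]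
            exact hCZ c hc y hy
        have h1 : (⟨y, hy⟩ : ↥P) ∈ center ↥P := by
          rw [Subgroup.mem_center_iff]
          intro w
          have hw : (w : X) ∈ M := by rw [hMne]; exact w.2
          have h2 := hcent hw
          rw [Subgroup.mem_centralizer_singleton_iff] at h2
          exact Subtype.ext h2
        exact (hcenC _).1 h1
      · exact hle M hMP hMne hTinv (mem_sup_left (mem_zpowers y))
    -- `σ ^ q` centralizes `P`
    have hσq : ∀ y ∈ P, σ ^ q * y = y * σ ^ q := by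
      obtain ⟨k, hk⟩ := (IsPGroup.iff_orderOf.mp hTq) ⟨σ, hσT⟩
      rw [Subgroup.orderOf_mk] at hk
      have hk0 : k ≠ 0 := by
        rintro rfl
        apply hnc
        intro t ht x _
        have hσ1 : σ = 1 := orderOf_eq_one_iff.mp (by rw [hk, pow_zero])
        have ht' := hTle t ht
        rw [hσ1, zpowers_one_eq_bot, Subgroup.mem_bot] at ht'
        rw [ht']
        simp
      have hpow1 : (σ ^ q) ^ (q ^ (k - 1)) = 1 := by
        rw [← pow_mul, ← pow_succ', Nat.sub_add_cancel (Nat.pos_of_ne_zero hk0), ← hk, pow_orderOf_eq_one]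
      have hord1 : orderOf (σ ^ q) ∣ q ^ (k - 1) := orderOf_dvd_of_pow_eq_one hpow1
      have hcop : (Nat.card T).Coprime (Nat.card P) := by
        obtain ⟨a, ha⟩ := IsPGroup.iff_card.mp hPp
        obtain ⟨b, hb⟩ := IsPGroup.iff_card.mp hTq
        rw [ha, hb]
        exact Nat.Coprime.pow _ _ ((Nat.coprime_primes hq hp.out).2 hqp)
      have hH : P ⊔ zpowers (σ ^ q) ≠ ⊤ := by
        intro htop
        have h1 : P.index = P.relIndex (zpowers (σ ^ q)) := by
          have h2 := Subgroup.relIndex_sup_right (zpowers (σ ^ q)) P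
          rw [sup_comm, htop, Subgroup.relIndex_top_right] at h2
          exact h2
        have h2 : P.index ∣ q ^ (k - 1) := by
          rw [h1]
          refine (Subgroup.relIndex_dvd_card _ _).trans ?_
          rw [Nat.card_zpowers]
          exact hord1
        have h3 : Nat.card T ∣ Nat.card P * P.index := by
          rw [Subgroup.card_mul_index]
          exact Subgroup.card_subgroup_dvd_card T
        have h4 : Nat.card T ∣ P.index := hcop.dvd_of_dvd_mul_left h3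
        have h5 : q ^ k ∣ Nat.card T := by
          rw [← hk]
          exact Subgroup.orderOf_dvd_natCard T hσT
        have h6 := (Nat.pow_dvd_pow_iff_le_right hq.one_lt).1 (h5.trans (h4.trans h2))
        omega
      intro y hy
      refine commute_of_mem_nilpotent_of_coprime (hX.2 _ hH) (mem_sup_right (mem_zpowers _)) (mem_sup_left hy) ?_
      obtain ⟨j, hj⟩ := (IsPGroup.iff_orderOf.mp hPp) ⟨y, hy⟩
      rw [Subgroup.orderOf_mk] at hj
      rw [hj]
      apply Nat.Coprime.coprime_dvd_left hord1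
      exact Nat.Coprime.pow _ _ ((Nat.coprime_primes hq hp.out).2 hqp)
    -- the quotient
    let Z' : Subgroup ↥P := center ↥P
    haveI hZ'n : Z'.Normal := (inferInstance : (center ↥P).Normal)
    let cσ : ↥P →* ↥P := (MulAut.conjNormal σ : P ≃* P).toMonoidHom
    have hcσ : ∀ y : ↥P, (cσ y : X) = σ * y * σ⁻¹ := fun y => by simp [cσ]
    have hZ'c : Z' ≤ Z'.comap cσ := by
      intro z hz
      refine (hcenC _).2 ?_
      rw [hcσ, hCt' _ ((hcenC z).1 hz) σ hσT]
      exact (hcenC z).1 hz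
    let F : (↥P ⧸ Z') →* (↥P ⧸ Z') := QuotientGroup.map Z' Z' cσ hZ'c
    let f : Function.End (↥P ⧸ Z') := ⇑F
    have hfmk : ∀ y : ↥P, f (y : ↥P ⧸ Z') = ((cσ y : ↥P) : ↥P ⧸ Z') := fun y => rfl
    have hmk : ∀ u v : ↥P, (u : ↥P ⧸ Z') = (v : ↥P ⧸ Z') ↔ (u : X)⁻¹ * (v : X) ∈ C := by
      intro u v
      rw [QuotientGroup.eq]
      exact hcenC _
    have hmk1 : ∀ u : ↥P, (u : ↥P ⧸ Z') = 1 ↔ (u : X) ∈ C := by
      intro u
      rw [QuotientGroup.eq_one_iff]
      exact hcenC _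
    haveI hAf : Fintype (↥P ⧸ Z') := Fintype.ofFinite _
    have hcardA : Fintype.card (↥P ⧸ Z') = p ^ 2 := by
      rw [← Nat.card_eq_fintype_card]
      have h1 := Subgroup.card_mul_index Z'
      rw [hcard] at h1
      have h2 : Nat.card Z' * Z'.index = Nat.card Z' * p ^ 2 := by rw [h1]; ring
      exact Nat.eq_of_mul_eq_mul_left Nat.card_pos h2
    have hfpow : ∀ (n : ℕ) (y : ↥P), ∃ w : ↥P, (f ^ n) (y : ↥P ⧸ Z') = (w : ↥P ⧸ Z') ∧ (w : X) = σ ^ n * y * (σ ^ n)⁻¹ := by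
      intro n
      induction n with
      | zero => intro y; exact ⟨y, rfl, by simp⟩
      | succ n ih =>
        intro y
        obtain ⟨w, hw, hw'⟩ := ih (cσ y)
        refine ⟨w, ?_, ?_⟩
        · rw [pow_succ]
          show (f ^ n) (f (y : ↥P ⧸ Z')) = _
          rw [hfmk, hw]
        · rw [hw', hcσ, pow_succ]
          group
    have hfq : f ^ q ^ 1 = 1 := by
      funext v
      obtain ⟨y, rfl⟩ := QuotientGroup.mk_surjective v
      obtain ⟨w, hw, hw'⟩ := hfpow q y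
      rw [pow_one, hw]
      show (w : ↥P ⧸ Z') = (y : ↥P ⧸ Z')
      congr 1
      apply Subtype.ext
      rw [hw', hσq y y.2]
      group
    have hfix1 : ∀ v, f v = v → v = 1 := by
      intro v hv
      obtain ⟨y, rfl⟩ := QuotientGroup.mk_surjective v
      have h1 : ((cσ y : ↥P) : ↥P ⧸ Z') = (y : ↥P ⧸ Z') := hv
      have h2 := (hmk _ _).1 h1
      rw [hcσ] at h2
      apply (hmk1 y).2
      apply hNF y y.2
      have h3 : σ * y * σ⁻¹ = y * ((σ * y * σ⁻¹)⁻¹ * y)⁻¹ := by group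
      rw [h3]
      exact Subgroup.mul_mem _ (mem_sup_left (mem_zpowers _)) (mem_sup_right (C.inv_mem h2))
    have hcardfix : Fintype.card (Function.fixedPoints f) = 1 := by
      rw [Fintype.card_eq_one_iff]
      refine ⟨⟨1, map_one F⟩, ?_⟩
      rintro ⟨v, hv⟩
      exact Subtype.ext (hfix1 v hv)
    have hmod := Equiv.Perm.card_fixedPoints_modEq (α := ↥P ⧸ Z') (f := f) (p := q) (n := 1) hfq
    rw [hcardfix, hcardA] at hmod
    have hqd : q ∣ p ^ 2 - 1 := (Nat.modEq_iff_dvd' (Nat.one_le_pow _ _ hp.out.pos)).1 hmod.symm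
    constructor
    · -- `p ≠ 3`
      intro h3
      have hq2 : q = 2 := by
        rw [h3] at hqd
        have h8 : q ∣ 2 ^ 3 := by simpa using hqd
        exact (Nat.prime_dvd_prime_iff_eq hq Nat.prime_two).1 (hq.dvd_of_dvd_pow h8)
      have key : ∀ y ∈ P, y ∈ C := by
        intro y hy
        set y' := σ * y * σ⁻¹ with hy'
        have hy'P : y' ∈ P := hPn'.conj_mem y hy σ
        have hσy' : σ * y' * σ⁻¹ = y := by
          have h1 := hσq y hy
          rw [hq2] at h1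
          calc σ * y' * σ⁻¹ = σ ^ 2 * y * (σ ^ 2)⁻¹ := by
                rw [hy', pow_two]; simp only [mul_inv_rev, mul_assoc]
            _ = y := by rw [h1]; group
        set y₁ := y * y' with hy₁
        have hy₁P : y₁ ∈ P := P.mul_mem hy hy'P
        have h1 : σ * y₁ * σ⁻¹ = y' * y := by
          calc σ * y₁ * σ⁻¹ = (σ * y * σ⁻¹) * (σ * y' * σ⁻¹) := by rw [hy₁]; group
            _ = y' * y := by rw [hσy']
        have hy₁C : y₁ ∈ C := by
          apply hNF y₁ hy₁P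
          have h2 : y₁⁻¹ * (y' * y) = ⁅y'⁻¹, y⁻¹⁆ := by
            rw [hy₁, commutatorElement_def]; group
          have h3 : y' * y = y₁ * ⁅y'⁻¹, y⁻¹⁆ := by
            rw [← h2]; group
          rw [h1, h3]
          exact Subgroup.mul_mem _ (mem_sup_left (mem_zpowers _))
            (mem_sup_right (hcommC _ (P.inv_mem hy'P) _ (P.inv_mem hy)))
        apply hNF y hy
        have h4 : y' = y⁻¹ * y₁ := by rw [hy₁, inv_mul_cancel_left]
        show y' ∈ _
        rw [h4]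
        exact Subgroup.mul_mem _ (Subgroup.inv_mem _ (mem_sup_left (mem_zpowers _))) (mem_sup_right hy₁C)
      exact hCne (le_antisymm hCP key)
    · -- `p = 2`
      intro h2 x hx hx2
      have hq3 : q = 3 := by
        rw [h2] at hqd
        have h8 : q ∣ 3 := by simpa using hqd
        exact (Nat.prime_dvd_prime_iff_eq hq Nat.prime_three).1 h8
      have hCexp2 : ∀ c ∈ C, c ^ 2 = 1 := fun c hc => by
        have := hCexp c hc
        rwa [h2] at this
      have hx₀P : (x : X) ∈ P := x.2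
      have hx₀C : (x : X) ∉ C := fun h => hx ((hcenC x).2 h)
      have hx₀2 : (x : X) ^ 2 = 1 := by
        have := congrArg Subtype.val hx2
        simpa using this
      set x₀ : X := (x : X) with hx₀
      set x₁ : X := σ * x₀ * σ⁻¹ with hx₁
      have hx₁P : x₁ ∈ P := hPn'.conj_mem _ hx₀P σ
      set x₂ : X := σ * x₁ * σ⁻¹ with hx₂
      have hx₂P : x₂ ∈ P := hPn'.conj_mem _ hx₁P σ
      have hσ3 : σ * x₂ * σ⁻¹ = x₀ := by
        have h1 := hσq x₀ hx₀P
        rw [hq3] at h1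
        calc σ * x₂ * σ⁻¹ = σ ^ 3 * x₀ * (σ ^ 3)⁻¹ := by
              rw [hx₂, hx₁, pow_succ, pow_two]; simp only [mul_inv_rev, mul_assoc]
          _ = x₀ := by rw [h1]; group
      have hx₁2 : x₁ ^ 2 = 1 := by
        rw [hx₁, conj_pow, hx₀2]; group
      have hx₂2 : x₂ ^ 2 = 1 := by
        rw [hx₂, conj_pow, hx₁2]; group
      set y₀ := x₀ * x₁ * x₂ with hy₀
      have hy₀P : y₀ ∈ P := P.mul_mem (P.mul_mem hx₀P hx₁P) hx₂P
      have hy₀C : y₀ ∈ C := by
        apply hNF y₀ hy₀P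
        have h1 : σ * y₀ * σ⁻¹ = x₁ * x₂ * x₀ := by
          calc σ * y₀ * σ⁻¹ = (σ * x₀ * σ⁻¹) * (σ * x₁ * σ⁻¹) * (σ * x₂ * σ⁻¹) := by rw [hy₀]; group
            _ = x₁ * x₂ * x₀ := by rw [hσ3]
        have h2 : x₁ * x₂ * x₀ = y₀ * ⁅(x₁ * x₂)⁻¹, x₀⁻¹⁆ := by
          rw [hy₀, commutatorElement_def]; group
        rw [h1, h2]
        exact Subgroup.mul_mem _ (mem_sup_left (mem_zpowers _))
          (mem_sup_right (hcommC _ (P.inv_mem (P.mul_mem hx₁P hx₂P)) _ (P.inv_mem hx₀P)))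
      have hx₀inv : x₀⁻¹ = x₀ := by
        rw [inv_eq_iff_mul_eq_one, ← pow_two, hx₀2]
      -- the four cosets
      let u₀ : ↥P := x
      let u₁ : ↥P := ⟨x₁, hx₁P⟩
      have hnot : x₀⁻¹ * x₁ ∉ C := by
        intro h
        apply hx₀C
        apply hNF x₀ hx₀P
        have h1 : σ * x₀ * σ⁻¹ = x₀ * (x₀⁻¹ * x₁) := by
          rw [hx₁]; group
        rw [h1]
        exact Subgroup.mul_mem _ (mem_sup_left (mem_zpowers _)) (mem_sup_right h)
      have ha1 : (u₀ : ↥P ⧸ Z') ≠ 1 := fun h => hx₀C ((hmk1 u₀).1 h)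
      have hb1 : (u₁ : ↥P ⧸ Z') ≠ 1 := by
        intro h
        apply hx₀C
        apply hNF x₀ hx₀P
        exact mem_sup_right ((hmk1 u₁).1 h)
      have hab' : (u₀ : ↥P ⧸ Z') ≠ (u₁ : ↥P ⧸ Z') := fun h => hnot ((hmk _ _).1 h)
      have hab1 : (u₀ : ↥P ⧸ Z') * (u₁ : ↥P ⧸ Z') ≠ 1 := by
        intro h
        have h1 : ((u₀ * u₁ : ↥P) : ↥P ⧸ Z') = 1 := h
        have h2 : x₀ * x₁ ∈ C := (hmk1 _).1 h1
        apply hnot
        rw [hx₀inv]
        exact h2
      have hab2 : (u₀ : ↥P ⧸ Z') * (u₁ : ↥P ⧸ Z') ≠ (u₀ : ↥P ⧸ Z') := fun h => hb1 (mul_eq_left.mp h)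
      have hab3 : (u₀ : ↥P ⧸ Z') * (u₁ : ↥P ⧸ Z') ≠ (u₁ : ↥P ⧸ Z') := fun h => ha1 (mul_eq_right.mp h)
      have hS4 : ({1, (u₀ : ↥P ⧸ Z'), (u₁ : ↥P ⧸ Z'), (u₀ : ↥P ⧸ Z') * (u₁ : ↥P ⧸ Z')} : Finset (↥P ⧸ Z')) = Finset.univ := by
        apply Finset.eq_univ_of_card
        have m1 : (u₁ : ↥P ⧸ Z') ∉ ({(u₀ : ↥P ⧸ Z') * (u₁ : ↥P ⧸ Z')} : Finset (↥P ⧸ Z')) := by
          simp only [Finset.mem_singleton]
          exact fun h => hab3 h.symm
        have m2 : (u₀ : ↥P ⧸ Z') ∉ ({(u₁ : ↥P ⧸ Z'), (u₀ : ↥P ⧸ Z') * (u₁ : ↥P ⧸ Z')} : Finset (↥P ⧸ Z')) := by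
          simp only [Finset.mem_insert, Finset.mem_singleton, not_or]
          exact ⟨hab', fun h => hab2 h.symm⟩
        have m3 : (1 : ↥P ⧸ Z') ∉ ({(u₀ : ↥P ⧸ Z'), (u₁ : ↥P ⧸ Z'), (u₀ : ↥P ⧸ Z') * (u₁ : ↥P ⧸ Z')} : Finset (↥P ⧸ Z')) := by
          simp only [Finset.mem_insert, Finset.mem_singleton, not_or]
          exact ⟨fun h => ha1 h.symm, fun h => hb1 h.symm, fun h => hab1 h.symm⟩
        rw [hcardA, h2, Finset.card_insert_of_notMem m3, Finset.card_insert_of_notMem m2,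
          Finset.card_insert_of_notMem m1, Finset.card_singleton]
        norm_num
      have hsqcase : ∀ w ∈ P, w ^ 2 = 1 → ∀ c ∈ C, (w * c) ^ 2 = 1 := by
        intro w _ hw c hc
        have hcomm : Commute w c := ((hCZ c hc w ‹_›)).symm
        rw [hcomm.mul_pow, hw, hCexp2 c hc, one_mul]
      have hall : ∀ y : ↥P, (y : X) ^ 2 = 1 := by
        intro y
        have hy : (y : ↥P ⧸ Z') ∈ ({1, (u₀ : ↥P ⧸ Z'), (u₁ : ↥P ⧸ Z'), (u₀ : ↥P ⧸ Z') * (u₁ : ↥P ⧸ Z')} : Finset (↥P ⧸ Z')) := by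
          rw [hS4]; exact Finset.mem_univ _
        simp only [Finset.mem_insert, Finset.mem_singleton] at hy
        rcases hy with h | h | h | h
        · exact hCexp2 _ ((hmk1 y).1 h)
        · have h1 := (hmk _ _).1 h.symm
          have h2 : (y : X) = x₀ * (x₀⁻¹ * (y : X)) := by group
          rw [h2]
          exact hsqcase x₀ hx₀P hx₀2 _ h1
        · have h1 := (hmk _ _).1 h.symm
          have h2 : (y : X) = x₁ * (x₁⁻¹ * (y : X)) := by group
          rw [h2]
          exact hsqcase x₁ hx₁P hx₁2 _ h1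
        · have h0 : (y : ↥P ⧸ Z') = ((u₀ * u₁ : ↥P) : ↥P ⧸ Z') := h
          have h1 := (hmk _ _).1 h0.symm
          have h1' : (x₀ * x₁)⁻¹ * (y : X) ∈ C := h1
          have h2 : (y : X) = x₂⁻¹ * (y₀ * ((x₀ * x₁)⁻¹ * (y : X))) := by
            have hcomm : y₀ * x₂⁻¹ = x₂⁻¹ * y₀ := hCZ y₀ hy₀C _ (P.inv_mem hx₂P)
            calc (y : X) = (x₀ * x₁) * ((x₀ * x₁)⁻¹ * (y : X)) := by group
              _ = (y₀ * x₂⁻¹) * ((x₀ * x₁)⁻¹ * (y : X)) := by rw [hy₀]; group
              _ = x₂⁻¹ * (y₀ * ((x₀ * x₁)⁻¹ * (y : X))) := by rw [hcomm]; group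
          rw [h2]
          refine hsqcase _ (P.inv_mem hx₂P) (by rw [inv_pow, hx₂2, inv_one]) _ (C.mul_mem hy₀C h1')
      apply hab
      intro a ha b hb
      have e1 := hall ⟨a, ha⟩
      have e2 := hall ⟨b, hb⟩
      have e3 := hall (⟨a, ha⟩ * ⟨b, hb⟩)
      simp only [Subgroup.coe_mul] at e1 e2 e3
      have e1' : a⁻¹ = a := by rw [inv_eq_iff_mul_eq_one, ← pow_two, e1]
      have e2' : b⁻¹ = b := by rw [inv_eq_iff_mul_eq_one, ← pow_two, e2]
      have e3' : (a * b)⁻¹ = a * b := by rw [inv_eq_iff_mul_eq_one, ← pow_two, e3]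
      rw [mul_inv_rev, e1', e2'] at e3'
      exact e3'.symm

end Cfsg.Agent.Lib.PGroups
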