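import Mathlib
import Cfsg.Agent.Lib.PGroups.SchS
import Cfsg.Agent.Lib.OddLocal.PLength
import Cfsg.Agent.Lib.Basic.Solv1

/-!
# Groups whose Sylow subgroups look like the normal Sylow subgroup of a minimal non-nilpotent group
-/

set_option autoImplicit false

namespace Cfsg.Agent.Lib.PGroups

open Subgroup Cfsg Cfsg.Agent.Lib.Basic
open scoped commutatorElement

theorem SchGood.of_equiv {S T : Type*} [Group S] [Group T] {p : ℕ} (e : T ≃* S) (h : SchGood p S) : SchGood p T := by
  have hcen : ∀ x : T, x ∈ center T ↔ e x ∈ center S := by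
    intro x
    rw [Subgroup.mem_center_iff, Subgroup.mem_center_iff]
    constructor
    · intro hx g
      obtain ⟨g', rfl⟩ := e.surjective g
      rw [← map_mul, ← map_mul, hx]
    · intro hx g
      apply e.injective
      rw [map_mul, map_mul, hx]
  refine ⟨fun x y => (hcen _).2 ?_, fun x => (hcen _).2 ?_, ?_, ?_⟩
  · rw [map_commutatorElement]
    exact h.g1 _ _
  · rw [map_pow]
    exact h.g2 _
  · intro b hb z hz
    obtain ⟨u, hu⟩ := h.g3 (e b) (fun h' => hb ((hcen b).2 h')) (e z) ((hcen z).1 hz)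
    refine ⟨e.symm u, e.injective ?_⟩
    rw [map_commutatorElement, e.apply_symm_apply, hu]
  · intro hc
    have h1 : Nat.card T = Nat.card S := Nat.card_congr e.toEquiv
    have h2 : Nat.card (center T) = Nat.card (center S) :=
      Nat.card_congr (Subgroup.centerCongr e).toEquiv
    rw [h1, h2] at hc
    obtain ⟨h3, h4⟩ := h.g4 hc
    refine ⟨h3, fun hp x hx hx2 => h4 hp (e x) (fun h' => hx ((hcen x).2 h')) ?_⟩
    rw [← map_pow, hx2, map_one]

theorem sylow_normal_of_schGood {G : Type*} [Group G] [Finite G] {p : ℕ} [hp : Fact p.Prime] (hsol : IsPSolvable p G)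
    (hO : pPrimeCore p G = ⊥) (R : Sylow p G) (h : SchGood p ↥(R : Subgroup G)) : ((R : Subgroup G)).Normal := by
  have hcen : ∀ x : ↥(R : Subgroup G), x ∈ center ↥(R : Subgroup G) ↔ (x : G) ∈ centralizer ((R : Subgroup G) : Set G) := by
    intro x
    rw [Subgroup.mem_center_iff, Subgroup.mem_centralizer_iff]
    constructor
    · intro hx g hg
      exact congrArg Subtype.val (hx ⟨g, hg⟩)
    · intro hx g
      exact Subtype.ext (hx g g.2)
  refine sylow_normal_of_good hsol hO R ?_ ?_ ?_ ?_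
  · intro x hx y hy
    exact (hcen ⟨_, _⟩).1 (h.g1 ⟨x, hx⟩ ⟨y, hy⟩)
  · intro x hx
    exact (hcen ⟨_, _⟩).1 (h.g2 ⟨x, hx⟩)
  · intro b hb hbC z hz hzC
    obtain ⟨u, hu⟩ := h.g3 ⟨b, hb⟩ (fun h' => hbC ((hcen _).1 h')) ⟨z, hz⟩ ((hcen _).2 hzC)
    exact ⟨u, u.2, congrArg Subtype.val hu⟩
  · intro hc
    have h1 : center ↥(R : Subgroup G) =
        (((R : Subgroup G) ⊓ centralizer ((R : Subgroup G) : Set G))).subgroupOf (R : Subgroup G) := by
      ext x
      rw [hcen, Subgroup.mem_subgroupOf]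
      exact ⟨fun h' => ⟨x.2, h'⟩, fun h' => h'.2⟩
    have h2 : Nat.card (center ↥(R : Subgroup G)) =
        Nat.card ↥((R : Subgroup G) ⊓ centralizer ((R : Subgroup G) : Set G)) := by
      rw [h1]
      exact Nat.card_congr (Subgroup.subgroupOfEquivOfLe inf_le_left).toEquiv
    rw [← h2] at hc
    obtain ⟨h3, h4⟩ := h.g4 hc
    refine ⟨h3, fun hp2 x hx hxC hx2 => h4 hp2 ⟨x, hx⟩ (fun h' => hxC ((hcen _).1 h')) ?_⟩
    exact Subtype.ext hx2

/-- A copy of the criterion for `p`-length one. -/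
theorem plength_one_of_index_coprime' {H : Type*} [Group H] [Finite H] {p : ℕ}
    (h : (pPrimePCore p H).index.Coprime p) : PLengthLE p 1 H := by
  have h1 := Cfsg.Agent.Lib.OddLocal.upperPSeries_succ_even (G := H) p 2 (by decide)
  have key : ∀ (N M : Subgroup H) [N.Normal] [M.Normal], N = M → M.index.Coprime p →
      (pPrimeCore p (H ⧸ N)).comap (QuotientGroup.mk' N) = ⊤ := by
    intro N M _ _ e hc
    subst e
    have h2 : pPrimeCore p (H ⧸ N) = ⊤ := by
      apply top_le_iff.mp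
      apply le_sSup
      refine ⟨inferInstance, ?_⟩
      rw [Subgroup.card_top, ← Subgroup.index_eq_card]
      exact hc
    rw [h2, Subgroup.comap_top]
  unfold PLengthLE
  rw [show (2 * 1 + 1 : ℕ) = 2 + 1 from rfl, h1]
  haveI := Cfsg.Agent.Lib.OddLocal.pPrimePCore_normal (G := H) p
  exact key _ _ (Cfsg.Agent.Lib.OddLocal.upperPSeries_two (G := H) p) h

theorem pLength_of_schGood {G : Type*} [Group G] [Finite G] {p : ℕ} [hp : Fact p.Prime] (hG : IsPSolvable p G)
    (Q : Sylow p G) (h : SchGood p ↥(Q : Subgroup G)) : PLengthLE p 1 G := by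
  set N := pPrimeCore p G with hN
  haveI hNn : N.Normal := pPrimeCore_normal p G
  let π := QuotientGroup.mk' N
  have hπ : Function.Surjective π := QuotientGroup.mk'_surjective N
  have hO₁ : pPrimeCore p (G ⧸ N) = ⊥ := pPrimeCore_quotient_eq_bot p
  have hsol₁ : IsPSolvable p (G ⧸ N) := Cfsg.Agent.Lib.Coprime.isPSolvable_map π hπ hG
  let R : Sylow p (G ⧸ N) := Q.mapSurjective hπ
  have hRcoe : (R : Subgroup (G ⧸ N)) = (Q : Subgroup G).map π := rfl
  have hinj : Function.Injective (π.comp (Q : Subgroup G).subtype) := by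
    rw [injective_iff_map_eq_one]
    rintro ⟨x, hx⟩ h1
    have h2 : x ∈ N := (QuotientGroup.eq_one_iff x).mp h1
    obtain ⟨k, hk⟩ := (IsPGroup.iff_orderOf.mp Q.2) ⟨x, hx⟩
    rw [Subgroup.orderOf_mk] at hk
    have h3 : (orderOf x).Coprime p := Nat.Coprime.coprime_dvd_left (Subgroup.orderOf_dvd_natCard N h2) (pPrimeCore_coprime p)
    exact Subtype.ext (Cfsg.Agent.Lib.LocalEven.eq_one_of_coprime_of_pPower ⟨k, hk⟩ h3)
  have hrange : (π.comp (Q : Subgroup G).subtype).range = (R : Subgroup (G ⧸ N)) := by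
    rw [MonoidHom.range_comp, range_subtype, hRcoe]
  let e₁ : ↥(Q : Subgroup G) ≃* ↥(R : Subgroup (G ⧸ N)) :=
    (MonoidHom.ofInjective hinj).trans (MulEquiv.subgroupCongr hrange)
  have hgoodR : SchGood p ↥(R : Subgroup (G ⧸ N)) := h.of_equiv e₁.symm
  have hn := sylow_normal_of_schGood hsol₁ hO₁ R hgoodR
  apply plength_one_of_index_coprime'
  have h1 : (pPrimePCore p G).index = (pCore p (G ⧸ N)).index := Subgroup.index_comap_of_surjective _ hπ
  rw [h1]
  have h2 : (R : Subgroup (G ⧸ N)) ≤ pCore p (G ⧸ N) := le_pCore hn R.2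
  have h3 : (pCore p (G ⧸ N)).index ∣ (R : Subgroup (G ⧸ N)).index := Subgroup.index_dvd_of_le h2
  rw [Nat.coprime_comm, hp.out.coprime_iff_not_dvd]
  exact fun hd => R.not_dvd_index (hd.trans h3)

end Cfsg.Agent.Lib.PGroups
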