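import Cfsg.Agent.Lib.Char.FSCount
import Cfsg.Agent.Lib.Char.Degree
import Cfsg.Agent.Lib.Transfer.Frattini

/-!
# The group of sign homomorphisms acting on irreducible characters

Used for: in a 2-group with at least `2k+1` generators, the number of solutions of `x² = 1` is
divisible by `2^(k+1)`.
-/

set_option autoImplicit false

namespace Cfsg.Agent.Lib.PGroups

open Cfsg Cfsg.Agent.Lib.Char
open scoped ComplexConjugate

universe u

variable {G : Type u} [Group G]

/-- A sign homomorphism, read as a complex-valued function. -/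
noncomputable def sgnC (l : G →* ℤˣ) (g : G) : ℂ := ((l g : ℤ) : ℂ)

theorem sgnC_one (g : G) : sgnC (1 : G →* ℤˣ) g = 1 := by simp [sgnC]

theorem sgnC_mul_hom (l m : G →* ℤˣ) (g : G) : sgnC (l * m) g = sgnC l g * sgnC m g := by
  simp [sgnC]

theorem sgnC_apply_one (l : G →* ℤˣ) : sgnC l 1 = 1 := by simp [sgnC]

theorem sgnC_mul_self (l : G →* ℤˣ) (s : G) : sgnC l (s * s) = 1 := by
  have h : l (s * s) = 1 := by
    rw [map_mul]
    rcases Int.units_eq_one_or (l s) with h | h <;> simp [h]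
  simp [sgnC, h]

theorem conj_sgnC (l : G →* ℤˣ) (g : G) : conj (sgnC l g) = sgnC l g := by
  simp [sgnC]

theorem sgnC_self_mul (l : G →* ℤˣ) (g : G) : sgnC l g * sgnC l g = 1 := by
  rcases Int.units_eq_one_or (l g) with h | h <;> simp [sgnC, h]

/-- The linear character attached to a sign homomorphism. -/
noncomputable def sgnHom (l : G →* ℤˣ) : G →* ℂˣ := (Units.map (Int.castRingHom ℂ).toMonoidHom).comp l

theorem sgnHom_apply (l : G →* ℤˣ) (g : G) : ((sgnHom l g : ℂˣ) : ℂ) = sgnC l g := by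
  simp [sgnHom, sgnC]

variable [Fintype G]

theorem isCharacter_sgnC (l : G →* ℤˣ) : IsCharacter G (sgnC l) := by
  have h := IsIrrCharacter.isCharacter (isIrrCharacter_of_monoidHom (sgnHom l))
  have e : (fun g => ((sgnHom l g : ℂˣ) : ℂ)) = sgnC l := funext (sgnHom_apply l)
  rwa [e] at h

theorem isIrrCharacter_sgn_mul (l : G →* ℤˣ) {χ : G → ℂ} (hχ : IsIrrCharacter G χ) :
    IsIrrCharacter G (fun g => sgnC l g * χ g) := by
  refine isIrrCharacter_of_classInner_self (IsCharacter.mul (isCharacter_sgnC l) (IsIrrCharacter.isCharacter hχ)) ?_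
  rw [← classInner_irr_self hχ]
  unfold classInner
  congr 1
  refine Finset.sum_congr rfl fun g _ => ?_
  simp only [map_mul, conj_sgnC]
  linear_combination (χ g * conj (χ g)) * sgnC_self_mul l g

/-- The action of sign homomorphisms on irreducible characters by multiplication. -/
@[instance_reducible] noncomputable def signAction : MulAction (G →* ℤˣ) (IrrCharacter G) where
  smul l χ := ⟨fun g => sgnC l g * χ.1 g, isIrrCharacter_sgn_mul l χ.2⟩
  one_smul χ := by
    apply Subtype.ext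
    funext g
    show sgnC (1 : G →* ℤˣ) g * χ.1 g = χ.1 g
    rw [sgnC_one, one_mul]
  mul_smul l m χ := by
    apply Subtype.ext
    funext g
    show sgnC (l * m) g * χ.1 g = sgnC l g * (sgnC m g * χ.1 g)
    rw [sgnC_mul_hom, mul_assoc]

attribute [local instance] signAction

theorem smul_irr_apply (l : G →* ℤˣ) (χ : IrrCharacter G) (g : G) :
    (l • χ).1 g = sgnC l g * χ.1 g := rfl

/-- The Frobenius-Schur indicator as an integer. -/
noncomputable def nuZ (χ : IrrCharacter G) : ℤ :=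
  open Classical in
  if fsInd χ.1 = 0 then 0 else if fsInd χ.1 = 1 then 1 else -1

theorem nuZ_cast (χ : IrrCharacter G) : ((nuZ χ : ℤ) : ℂ) = fsInd χ.1 := by
  unfold nuZ
  rcases fsInd_trichotomy χ.2 with h | h | h
  · simp [h]
  · simp [h]
  · have h1 : (-1 : ℂ) ≠ 0 := by norm_num
    have h2 : (-1 : ℂ) ≠ 1 := by norm_num
    simp [h, h2]

theorem fsInd_smul (l : G →* ℤˣ) (χ : IrrCharacter G) : fsInd (l • χ).1 = fsInd χ.1 := by
  unfold fsInd
  congr 1
  refine Finset.sum_congr rfl fun s _ => ?_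
  rw [smul_irr_apply, sgnC_mul_self, one_mul]

theorem nuZ_smul (l : G →* ℤˣ) (χ : IrrCharacter G) : nuZ (l • χ) = nuZ χ := by
  unfold nuZ
  rw [fsInd_smul]

theorem charDegree_smul (l : G →* ℤˣ) (χ : IrrCharacter G) :
    charDegree (l • χ).1 = charDegree χ.1 := by
  unfold charDegree
  rw [smul_irr_apply, sgnC_apply_one, one_mul]

/-- Any sign homomorphism different from `1` sums to zero. -/
theorem sum_sgn_eq_zero {l : G →* ℤˣ} (hl : l ≠ 1) : ∑ g : G, ((l g : ℤˣ) : ℤ) = 0 := by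
  obtain ⟨g₀, hg₀⟩ : ∃ g, l g ≠ 1 := by
    by_contra h
    push Not at h
    exact hl (MonoidHom.ext h)
  have h1 : l g₀ = -1 := (Int.units_eq_one_or _).resolve_left hg₀
  have h2 : ∑ g : G, ((l g : ℤˣ) : ℤ) = ∑ g : G, ((l (g₀ * g) : ℤˣ) : ℤ) :=
    (Fintype.sum_equiv (Equiv.mulLeft g₀) _ _ fun g => rfl).symm
  have h3 : ∑ g : G, ((l (g₀ * g) : ℤˣ) : ℤ) = - ∑ g : G, ((l g : ℤˣ) : ℤ) := by
    rw [← Finset.sum_neg_distrib]
    refine Finset.sum_congr rfl fun g _ => ?_
    rw [map_mul, h1]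
    simp
  omega

/-- Squared degree bound: the stabilizer of `χ` has at most `χ(1)²` elements. -/
theorem card_stabilizer_le (χ : IrrCharacter G) :
    Nat.card (MulAction.stabilizer (G →* ℤˣ) χ) ≤ charDegree χ.1 ^ 2 := by
  classical
  set S := MulAction.stabilizer (G →* ℤˣ) χ with hS
  have : Finite (G →* ℤˣ) := Finite.of_injective (fun l : G →* ℤˣ => (l : G → ℤˣ)) DFunLike.coe_injective
  haveI : Fintype S := Fintype.ofFinite _
  let F : G → ℤ := fun g => ∑ l : S, ((l.1 g : ℤˣ) : ℤ)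
  have hfix : ∀ l ∈ S, ∀ g, sgnC l g * χ.1 g = χ.1 g := by
    intro l hl g
    have : l • χ = χ := hl
    have h2 := congrArg (fun z : IrrCharacter G => z.1 g) this
    simpa [smul_irr_apply] using h2
  -- (a)
  have ha : ∑ g : G, F g = Nat.card G := by
    simp only [F]
    rw [Finset.sum_comm]
    rw [Finset.sum_eq_single (⟨1, S.one_mem⟩ : S)]
    · simp
    · intro l _ hl
      apply sum_sgn_eq_zero
      intro h
      exact hl (Subtype.ext h)
    · simp
  -- (b)
  have hb : ∀ g, χ.1 g ≠ 0 → F g = Nat.card S := by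
    intro g hg
    have : ∀ l : S, ((l.1 g : ℤˣ) : ℤ) = 1 := by
      intro l
      have h1 := hfix l.1 l.2 g
      have h2 : sgnC l.1 g = 1 := by
        have : (sgnC l.1 g - 1) * χ.1 g = 0 := by linear_combination h1
        rcases mul_eq_zero.mp this with h | h
        · linear_combination h
        · exact absurd h hg
      have h3 : (((l.1 g : ℤˣ) : ℤ) : ℂ) = 1 := h2
      exact_mod_cast h3
    simp only [F, this]
    simp [Nat.card_eq_fintype_card]
  -- (c)
  have hc : ∀ g, 0 ≤ F g := by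
    intro g
    by_cases h : ∀ l : S, ((l.1 g : ℤˣ) : ℤ) = 1
    · simp only [F, h]
      simp
    · push Not at h
      obtain ⟨l₀, hl₀⟩ := h
      have h1 : l₀.1 g = -1 := by
        refine (Int.units_eq_one_or _).resolve_left ?_
        intro h
        apply hl₀
        simp [h]
      have h2 : F g = ∑ l : S, (((l₀ * l).1 g : ℤˣ) : ℤ) :=
        (Fintype.sum_equiv (Equiv.mulLeft l₀) _ _ fun l => rfl).symm
      have h3 : ∑ l : S, (((l₀ * l).1 g : ℤˣ) : ℤ) = - F g := by
        simp only [F]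
        rw [← Finset.sum_neg_distrib]
        refine Finset.sum_congr rfl fun l _ => ?_
        have : ((l₀ * l).1 g : ℤˣ) = l₀.1 g * l.1 g := by
          simp
        rw [this, h1]
        simp
      have : F g = 0 := by omega
      omega
  -- the norm computation
  have hnorm : ∑ g : G, ‖χ.1 g‖ ^ 2 = Nat.card G := by
    have h1 := classInner_irr_self χ.2
    unfold classInner at h1
    have hG : ((Nat.card G : ℕ) : ℂ) ≠ 0 := NeZero.ne _
    have h2 : ∑ g : G, χ.1 g * conj (χ.1 g) = (Nat.card G : ℂ) := by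
      field_simp at h1
      simpa using h1
    have h3 : ((∑ g : G, ‖χ.1 g‖ ^ 2 : ℝ) : ℂ) = ((Nat.card G : ℝ) : ℂ) := by
      push_cast
      rw [← h2]
      refine Finset.sum_congr rfl fun g _ => ?_
      rw [Complex.mul_conj, Complex.normSq_eq_norm_sq]
      push_cast
      rfl
    exact_mod_cast h3
  have hdeg : ∀ g, ‖χ.1 g‖ ^ 2 ≤ ((charDegree χ.1 : ℕ) : ℝ) ^ 2 := by
    intro g
    have h1 := IsCharacter.norm_le (IsIrrCharacter.isCharacter χ.2) g
    have h2 : χ.1 1 = (charDegree χ.1 : ℂ) := apply_one_eq_charDegree (IsIrrCharacter.isCharacter χ.2)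
    have h3 : ‖χ.1 1‖ = (charDegree χ.1 : ℝ) := by
      rw [h2]
      simp
    have h4 : ‖χ.1 g‖ ≤ (charDegree χ.1 : ℝ) := by
      rw [← h3]
      exact h1
    exact pow_le_pow_left₀ (norm_nonneg _) h4 2
  have hG0 : (0 : ℝ) < (Nat.card G : ℝ) := by
    exact_mod_cast Nat.card_pos
  have key : (Nat.card S : ℝ) * (Nat.card G : ℝ) ≤ ((charDegree χ.1 : ℕ) : ℝ) ^ 2 * (Nat.card G : ℝ) := by
    calc (Nat.card S : ℝ) * (Nat.card G : ℝ) = ∑ g : G, (Nat.card S : ℝ) * ‖χ.1 g‖ ^ 2 := by
          rw [← Finset.mul_sum, hnorm]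
      _ = ∑ g : G, (F g : ℝ) * ‖χ.1 g‖ ^ 2 := by
          refine Finset.sum_congr rfl fun g _ => ?_
          by_cases h : χ.1 g = 0
          · simp [h]
          · rw [hb g h]
            simp
      _ ≤ ∑ g : G, (F g : ℝ) * ((charDegree χ.1 : ℕ) : ℝ) ^ 2 := by
          refine Finset.sum_le_sum fun g _ => ?_
          exact mul_le_mul_of_nonneg_left (hdeg g) (by exact_mod_cast hc g)
      _ = ((charDegree χ.1 : ℕ) : ℝ) ^ 2 * (Nat.card G : ℝ) := by
          rw [← Finset.sum_mul, mul_comm]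
          congr 1
          have : ((∑ g : G, F g : ℤ) : ℝ) = ((Nat.card G : ℤ) : ℝ) := by rw [ha]
          push_cast at this
          exact this
  have h5 := le_of_mul_le_mul_right key hG0
  exact_mod_cast h5

/-- Orbit-sum divisibility. -/
theorem dvd_sum_of_orbit {L X : Type*} [Group L] [MulAction L X] [Fintype X] (f : X → ℤ)
    (hf : ∀ (l : L) (x : X), f (l • x) = f x) (d : ℤ)
    (hd : ∀ x, d ∣ (Nat.card (MulAction.orbit L x) : ℤ) * f x) : d ∣ ∑ x, f x := by
  classical
  let q : X → MulAction.orbitRel.Quotient L X := fun x => Quotient.mk'' x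
  haveI : Fintype (MulAction.orbitRel.Quotient L X) := Fintype.ofFinite _
  rw [← Finset.sum_fiberwise Finset.univ q f]
  refine Finset.dvd_sum fun ω _ => ?_
  obtain ⟨x₀, rfl⟩ := Quotient.exists_rep ω
  have h1 : ∀ y ∈ Finset.univ.filter (fun y => q y = Quotient.mk'' x₀), f y = f x₀ := by
    intro y hy
    have h2 : q y = Quotient.mk'' x₀ := (Finset.mem_filter.mp hy).2
    have h3 : y ∈ MulAction.orbit L x₀ := MulAction.orbitRel_apply.mp (Quotient.eq''.mp h2)
    obtain ⟨l, rfl⟩ := h3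
    exact hf l x₀
  have h2 : (Finset.univ.filter (fun y => q y = Quotient.mk'' x₀)).card = Nat.card (MulAction.orbit L x₀) := by
    rw [Nat.card_eq_fintype_card, ← Fintype.card_coe]
    refine Fintype.card_congr (Equiv.subtypeEquivRight fun y => ?_)
    simp only [Finset.mem_filter, Finset.mem_univ, true_and]
    constructor
    · intro h
      exact MulAction.orbitRel_apply.mp (Quotient.eq''.mp h)
    · intro h
      exact Quotient.eq''.mpr (MulAction.orbitRel_apply.mpr h)
  rw [Finset.sum_congr rfl h1, Finset.sum_const, nsmul_eq_mul, h2]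
  exact hd x₀

/-- `|G/Φ(G)| ≤ |Hom(G, ±1)|` for a finite 2-group. -/
theorem card_frattini_quot_le (hG : IsPGroup 2 G) :
    Nat.card (G ⧸ frattini G) ≤ Nat.card (G →* ℤˣ) := by
  have hfin : Finite (G →* ℤˣ) :=
    Finite.of_injective (fun l : G →* ℤˣ => (l : G → ℤˣ)) DFunLike.coe_injective
  have hcomm : ∀ a b : G ⧸ frattini G, a * b = b * a := by
    intro a b
    obtain ⟨x, rfl⟩ := QuotientGroup.mk_surjective a
    obtain ⟨y, rfl⟩ := QuotientGroup.mk_surjective b
    rw [← QuotientGroup.mk_mul, ← QuotientGroup.mk_mul, QuotientGroup.eq]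
    have h2 : (x * y)⁻¹ * (y * x) = y⁻¹ * x⁻¹ * y⁻¹⁻¹ * x⁻¹⁻¹ := by
      group
    rw [h2]
    exact Cfsg.Agent.Lib.Transfer.commutator_mem_frattini hG y⁻¹ x⁻¹
  letI : CommGroup (G ⧸ frattini G) := { (inferInstance : Group (G ⧸ frattini G)) with mul_comm := hcomm }
  have hexp : Monoid.exponent (G ⧸ frattini G) ∣ 2 := by
    apply Monoid.exponent_dvd_of_forall_pow_eq_one
    intro a
    obtain ⟨x, rfl⟩ := QuotientGroup.mk_surjective a
    rw [← QuotientGroup.mk_pow, QuotientGroup.eq_one_iff]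
    exact Cfsg.Agent.Lib.Transfer.pow_mem_frattini hG x
  haveI : NeZero (Monoid.exponent (G ⧸ frattini G)) := ⟨Monoid.exponent_ne_zero_of_finite⟩
  haveI : HasEnoughRootsOfUnity ℤ 2 := by
    refine ⟨⟨-1, ?_⟩, inferInstance⟩
    exact IsPrimitiveRoot.neg_one 0 (by norm_num)
  haveI : HasEnoughRootsOfUnity ℤ (Monoid.exponent (G ⧸ frattini G)) :=
    HasEnoughRootsOfUnity.of_dvd ℤ hexp
  have h1 : Nat.card ((G ⧸ frattini G) →* ℤˣ) = Nat.card (G ⧸ frattini G) :=
    CommGroup.card_monoidHom_of_hasEnoughRootsOfUnity (G ⧸ frattini G) ℤ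
  rw [← h1]
  refine Nat.card_le_card_of_injective (fun l => l.comp (QuotientGroup.mk' (frattini G))) ?_
  intro l m h
  refine MonoidHom.ext fun a => ?_
  obtain ⟨x, rfl⟩ := QuotientGroup.mk_surjective a
  exact DFunLike.congr_fun h x

/-- Main theorem. -/
theorem two_pow_dvd_card_sq_eq_one (hG : IsPGroup 2 G) (k : ℕ)
    (hgen : 2 ^ (2 * k + 1) ≤ Nat.card (G ⧸ frattini G)) :
    2 ^ (k + 1) ∣ Nat.card {x : G // x * x = 1} := by
  classical
  have hfin : Finite (G →* ℤˣ) :=
    Finite.of_injective (fun l : G →* ℤˣ => (l : G → ℤˣ)) DFunLike.coe_injective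
  -- the order of Λ
  have hLam : IsPGroup 2 (G →* ℤˣ) := by
    intro l
    refine ⟨1, ?_⟩
    ext g
    rcases Int.units_eq_one_or (l g) with h | h <;> simp [h]
  obtain ⟨d, hd⟩ := IsPGroup.iff_card.mp hLam
  have hd2 : 2 * k + 1 ≤ d := by
    have h1 := (hgen.trans (card_frattini_quot_le hG))
    rw [hd] at h1
    exact (Nat.pow_le_pow_iff_right (by norm_num)).mp h1
  obtain ⟨n, hn⟩ := IsPGroup.iff_card.mp hG
  -- the integer valued summand
  let f : IrrCharacter G → ℤ := fun χ => nuZ χ * (charDegree χ.1 : ℤ)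
  have hf : ∀ (l : G →* ℤˣ) χ, f (l • χ) = f χ := by
    intro l χ
    simp only [f, nuZ_smul, charDegree_smul]
  have hdiv : ∀ χ : IrrCharacter G, ((2 : ℤ) ^ (k + 1)) ∣ (Nat.card (MulAction.orbit (G →* ℤˣ) χ) : ℤ) * f χ := by
    intro χ
    have h1 : Nat.card (MulAction.orbit (G →* ℤˣ) χ) * Nat.card (MulAction.stabilizer (G →* ℤˣ) χ) = 2 ^ d := by
      rw [← hd]
      haveI : Fintype (G →* ℤˣ) := Fintype.ofFinite _
      haveI : Fintype (MulAction.orbit (G →* ℤˣ) χ) := Fintype.ofFinite _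
      haveI : Fintype (MulAction.stabilizer (G →* ℤˣ) χ) := Fintype.ofFinite _
      simp only [Nat.card_eq_fintype_card]
      exact MulAction.card_orbit_mul_card_stabilizer_eq_card_group _ χ
    obtain ⟨a, -, ha⟩ := (Nat.dvd_prime_pow Nat.prime_two).mp (Dvd.intro _ h1)
    obtain ⟨s, -, hs⟩ := (Nat.dvd_prime_pow Nat.prime_two).mp (Dvd.intro_left _ h1)
    obtain ⟨b, -, hb⟩ := (Nat.dvd_prime_pow Nat.prime_two).mp (hn ▸ charDegree_dvd_card χ.2)
    have h2 := card_stabilizer_le χ
    rw [hs, hb, ← pow_mul] at h2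
    have h3 : s ≤ b * 2 := (Nat.pow_le_pow_iff_right (by norm_num)).mp h2
    rw [ha, hs, ← pow_add] at h1
    have h4 : a + s = d := Nat.pow_right_injective (le_refl 2) h1
    have h5 : k + 1 ≤ a + b := by omega
    simp only [f]
    rw [ha, hb]
    push_cast
    have h6 : (2 : ℤ) ^ a * (nuZ χ * 2 ^ b) = 2 ^ (a + b) * nuZ χ := by
      rw [pow_add]
      ring
    rw [h6]
    exact Dvd.dvd.mul_right (pow_dvd_pow _ h5) _
  have hsum := dvd_sum_of_orbit (L := G →* ℤˣ) f hf _ hdiv
  have hcast : ((Nat.card {x : G // x * x = 1} : ℤ) : ℂ) = ((∑ χ, f χ : ℤ) : ℂ) := by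
    push_cast
    rw [card_sq_eq_one_eq_sum_indicator]
    refine Finset.sum_congr rfl fun χ _ => ?_
    simp only [f]
    push_cast
    rw [nuZ_cast]
    congr 1
    exact apply_one_eq_charDegree (IsIrrCharacter.isCharacter χ.2)
  have hcast2 : (Nat.card {x : G // x * x = 1} : ℤ) = ∑ χ, f χ := by exact_mod_cast hcast
  rw [← hcast2] at hsum
  exact_mod_cast hsum

end Cfsg.Agent.Lib.PGroups
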