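import Cfsg.Agent.Lib.Components.Basic
import Cfsg.Agent.Lib.Basic.Core
import Cfsg.Agent.Lib.PGroups.Parts

/-!
# The subnormalizer of a `p`-subgroup (Casolo)

For a `p`-subgroup `H` of a finite group `G`, the elements `g` such that `H` is subnormal in
`⟨H, g⟩` are exactly the elements normalizing some `p`-subgroup containing `H`; their number is
the sum of the orders of the normalizers of the Sylow `p`-subgroups containing `H`.

The proof inverts the indicator function on the poset of `g`-invariant `p`-subgroups and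
argues by induction, comparing a subgroup `X` with the normalizer in `X` of a `p`-subgroup.
-/

set_option autoImplicit false

namespace Cfsg.Agent.Lib.PGroups.Subnormalizer

open Subgroup Cfsg
open scoped Classical

section poset

variable {α : Type*} [PartialOrder α]

theorem exists_wt (S : Finset α) : ∃ w : α → ℤ, ∀ y ∈ S, ∑ z ∈ S.filter (y ≤ ·), w z = 1 := by
  induction' hn : S.card using Nat.strong_induction_on with n ih generalizing S
  by_cases hS : S.Nonempty
  · obtain ⟨y0, hy0⟩ := S.exists_minimal hS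
    have hcard : (S.erase y0).card < n := by
      rw [← hn]
      exact Finset.card_erase_lt_of_mem hy0.prop
    obtain ⟨w', hw'⟩ := ih _ hcard (S.erase y0) rfl
    refine ⟨Function.update w' y0 (1 - ∑ z ∈ (S.erase y0).filter (y0 ≤ ·), w' z), ?_⟩
    intro y hy
    by_cases hyy : y = y0
    · subst hyy
      have h1 : S.filter (y ≤ ·) = insert y ((S.erase y).filter (y ≤ ·)) := by
        ext z
        simp only [Finset.mem_filter, Finset.mem_insert, Finset.mem_erase]
        constructor
        · rintro ⟨hz, hle⟩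
          by_cases hzy : z = y
          · exact Or.inl hzy
          · exact Or.inr ⟨⟨hzy, hz⟩, hle⟩
        · rintro (rfl | ⟨⟨_, hz⟩, hle⟩)
          · exact ⟨hy, le_rfl⟩
          · exact ⟨hz, hle⟩
      rw [h1, Finset.sum_insert (by simp)]
      simp only [Function.update_self]
      have h2 : ∑ z ∈ (S.erase y).filter (y ≤ ·), Function.update w' y
          (1 - ∑ z ∈ (S.erase y).filter (y ≤ ·), w' z) z =
          ∑ z ∈ (S.erase y).filter (y ≤ ·), w' z := by
        refine Finset.sum_congr rfl fun z hz => ?_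
        have : z ≠ y := by
          have := (Finset.mem_filter.mp hz).1
          exact (Finset.mem_erase.mp this).1
        rw [Function.update_of_ne this]
      rw [h2]
      ring
    · have h1 : S.filter (y ≤ ·) = (S.erase y0).filter (y ≤ ·) := by
        ext z
        simp only [Finset.mem_filter, Finset.mem_erase]
        constructor
        · rintro ⟨hz, hle⟩
          refine ⟨⟨?_, hz⟩, hle⟩
          rintro rfl
          exact hyy (le_antisymm hle (hy0.le_of_le hy hle))
        · rintro ⟨⟨_, hz⟩, hle⟩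
          exact ⟨hz, hle⟩
      rw [h1]
      have h2 : ∑ z ∈ (S.erase y0).filter (y ≤ ·), Function.update w' y0
          (1 - ∑ z ∈ (S.erase y0).filter (y0 ≤ ·), w' z) z =
          ∑ z ∈ (S.erase y0).filter (y ≤ ·), w' z := by
        refine Finset.sum_congr rfl fun z hz => ?_
        have : z ≠ y0 := by
          have := (Finset.mem_filter.mp hz).1
          exact (Finset.mem_erase.mp this).1
        rw [Function.update_of_ne this]
      rw [h2]
      exact hw' y (Finset.mem_erase.mpr ⟨hyy, hy⟩)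
  · refine ⟨0, fun y hy => (hS ⟨y, hy⟩).elim⟩

theorem wt_unique [Finite α] (S : Finset α) (w₁ w₂ : α → ℤ)
    (h : ∀ y ∈ S, ∑ z ∈ S.filter (y ≤ ·), w₁ z = ∑ z ∈ S.filter (y ≤ ·), w₂ z) :
    ∀ y ∈ S, w₁ y = w₂ y := by
  intro y
  refine WellFoundedGT.induction (motive := fun y : α => y ∈ S → w₁ y = w₂ y) y ?_
  intro y ih hy
  have h1 : S.filter (y ≤ ·) = insert y (S.filter (y < ·)) := by
    ext z
    simp only [Finset.mem_filter, Finset.mem_insert]
    constructor
    · rintro ⟨hz, hle⟩
      rcases eq_or_lt_of_le hle with rfl | hlt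
      · exact Or.inl rfl
      · exact Or.inr ⟨hz, hlt⟩
    · rintro (rfl | ⟨hz, hlt⟩)
      · exact ⟨hy, le_rfl⟩
      · exact ⟨hz, hlt.le⟩
  have h2 := h y hy
  rw [h1, Finset.sum_insert (by simp), Finset.sum_insert (by simp)] at h2
  have h3 : ∑ z ∈ S.filter (y < ·), w₁ z = ∑ z ∈ S.filter (y < ·), w₂ z := by
    refine Finset.sum_congr rfl fun z hz => ?_
    have := Finset.mem_filter.mp hz
    exact ih z this.2 this.1
  rw [h3] at h2
  linarith

end poset

section group

variable {G : Type*} [Group G] [Finite G] (p : ℕ) [Fact p.Prime]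

theorem card_lt_of_lt {A B : Subgroup G} (h : A < B) : Nat.card A < Nat.card B := by
  refine lt_of_le_of_ne (Subgroup.card_le_of_le h.le) fun e => ?_
  exact absurd (Subgroup.eq_of_le_of_card_ge h.le e.ge) h.ne

theorem growth {A B : Subgroup G} (hAB : A < B) (hB : IsPGroup p B) :
    ∃ b ∈ B, b ∉ A ∧ b ∈ normalizer (A : Set G) := by
  haveI : Group.IsNilpotent B := hB.isNilpotent
  have hcond := Group.normalizerCondition_of_isNilpotent (G := B)
  have hlt : A.subgroupOf B < ⊤ := by
    rw [lt_top_iff_ne_top]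
    intro h
    rw [subgroupOf_eq_top] at h
    exact absurd h (not_le_of_gt hAB)
  have h2 := hcond _ hlt
  obtain ⟨b, hb1, hb2⟩ := SetLike.exists_of_lt h2
  refine ⟨b, b.2, fun h => hb2 (mem_subgroupOf.mpr h), ?_⟩
  apply mem_normalizer_of_conj_le'
  intro w hw
  have hwB : w ∈ B := hAB.le hw
  have h3 := (mem_normalizer_iff.mp hb1 ⟨w, hwB⟩).mp (mem_subgroupOf.mpr hw)
  exact mem_subgroupOf.mp h3

/-- The `p`-subgroups of `X` normalized by `g`. -/
noncomputable def pSet (X : Subgroup G) (g : G) : Finset (Subgroup G) :=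
  (Set.toFinite {R : Subgroup G | R ≤ X ∧ IsPGroup p R ∧ g ∈ normalizer (R : Set G)}).toFinset

variable {p}

theorem mem_pSet {X : Subgroup G} {g : G} {R : Subgroup G} :
    R ∈ pSet p X g ↔ R ≤ X ∧ IsPGroup p R ∧ g ∈ normalizer (R : Set G) := by
  simp [pSet]

variable (p)

/-- The inverse of the indicator function on the poset `pSet p X g`. -/
noncomputable def wt (X : Subgroup G) (g : G) : Subgroup G → ℤ := (exists_wt (pSet p X g)).choose

theorem wt_spec (X : Subgroup G) (g : G) {R : Subgroup G} (hR : R ∈ pSet p X g) :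
    ∑ z ∈ (pSet p X g).filter (R ≤ ·), wt p X g z = 1 :=
  (exists_wt (pSet p X g)).choose_spec R hR

/-- Key comparison: the weight of `R` does not change on passing to the normalizer of `R`. -/
theorem wt_eq_of_inf {X R : Subgroup G} (hRX : R ≤ X) (hR : IsPGroup p R) {g : G}
    (hg : g ∈ normalizer (R : Set G)) :
    wt p X g R = wt p (X ⊓ normalizer (R : Set G)) g R := by
  set N := normalizer (R : Set G) with hN
  set X' := X ⊓ N with hX'
  set A := (pSet p X g).filter (R ≤ ·) with hA
  set B := (pSet p X' g).filter (R ≤ ·) with hB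
  set v : Subgroup G → ℤ := fun b => ∑ a ∈ A.filter (· ⊓ N = b), wt p X g a with hv
  have hRB : R ∈ B := by
    rw [hB, Finset.mem_filter, mem_pSet]
    exact ⟨⟨le_inf hRX le_normalizer, hR, hg⟩, le_rfl⟩
  have hmaps : ∀ a ∈ A, a ⊓ N ∈ B := by
    intro a ha
    rw [hA, Finset.mem_filter, mem_pSet] at ha
    obtain ⟨⟨haX, hap, hag⟩, hRa⟩ := ha
    rw [hB, Finset.mem_filter, mem_pSet]
    refine ⟨⟨inf_le_inf_right _ haX, hap.to_le inf_le_left, ?_⟩, le_inf hRa le_normalizer⟩
    have hgN : g ∈ normalizer ((N : Subgroup G) : Set G) := le_normalizer hg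
    rw [mem_normalizer_iff] at hag hgN ⊢
    intro h
    simp only [SetLike.mem_coe, Subgroup.mem_inf] at hag hgN ⊢
    rw [hag h, hgN h]
  have h := wt_unique B v (wt p X' g) ?_ R hRB
  · rw [← h, hv]
    simp only
    have h1 : A.filter (· ⊓ N = R) = {R} := by
      ext a
      simp only [Finset.mem_filter, Finset.mem_singleton]
      constructor
      · rintro ⟨ha, hae⟩
        rw [hA, Finset.mem_filter, mem_pSet] at ha
        obtain ⟨⟨haX, hap, hag⟩, hRa⟩ := ha
        by_contra hne
        have hlt : R < a := lt_of_le_of_ne hRa (Ne.symm hne)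
        obtain ⟨b, hba, hbR, hbN⟩ := growth p hlt hap
        exact hbR (hae ▸ Subgroup.mem_inf.mpr ⟨hba, hbN⟩)
      · rintro rfl
        refine ⟨?_, inf_eq_left.mpr le_normalizer⟩
        rw [hA, Finset.mem_filter, mem_pSet]
        exact ⟨⟨hRX, hR, hg⟩, le_rfl⟩
    rw [h1, Finset.sum_singleton]
  · intro b hb
    have hb' := Finset.mem_filter.mp hb
    have hbmem := mem_pSet.mp hb'.1
    have hbN : b ≤ N := hbmem.1.trans inf_le_right
    have hbX : b ≤ X := hbmem.1.trans inf_le_left
    have hRb : R ≤ b := hb'.2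
    have h2 : B.filter (b ≤ ·) = (pSet p X' g).filter (b ≤ ·) := by
      ext z
      simp only [hB, Finset.mem_filter]
      constructor
      · rintro ⟨⟨hz, _⟩, hbz⟩
        exact ⟨hz, hbz⟩
      · rintro ⟨hz, hbz⟩
        exact ⟨⟨hz, hRb.trans hbz⟩, hbz⟩
    have h3 : ∑ z ∈ B.filter (b ≤ ·), wt p X' g z = 1 := by
      rw [h2]
      exact wt_spec p X' g hb'.1
    rw [h3]
    have hbmemX : b ∈ pSet p X g := mem_pSet.mpr ⟨hbX, hbmem.2.1, hbmem.2.2⟩
    have h4 : ∑ z ∈ B.filter (b ≤ ·), v z = ∑ a ∈ A.filter (fun a => b ≤ a ⊓ N), wt p X g a := by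
      rw [hv]
      simp only
      have h5 : ∀ a ∈ A.filter (fun a => b ≤ a ⊓ N), a ⊓ N ∈ B.filter (b ≤ ·) := by
        intro a ha
        have ha' := Finset.mem_filter.mp ha
        exact Finset.mem_filter.mpr ⟨hmaps a ha'.1, ha'.2⟩
      rw [← Finset.sum_fiberwise_of_maps_to h5]
      refine Finset.sum_congr rfl fun z hz => ?_
      refine Finset.sum_congr ?_ fun _ _ => rfl
      ext a
      simp only [Finset.mem_filter]
      constructor
      · rintro ⟨ha, hae⟩
        exact ⟨⟨ha, hae ▸ (Finset.mem_filter.mp hz).2⟩, hae⟩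
      · rintro ⟨⟨ha, _⟩, hae⟩
        exact ⟨ha, hae⟩
    rw [h4]
    have h6 : A.filter (fun a => b ≤ a ⊓ N) = (pSet p X g).filter (b ≤ ·) := by
      ext a
      simp only [hA, Finset.mem_filter, le_inf_iff]
      constructor
      · rintro ⟨⟨ha, _⟩, hba, _⟩
        exact ⟨ha, hba⟩
      · rintro ⟨ha, hba⟩
        exact ⟨⟨ha, hRb.trans hba⟩, hba, hbN⟩
    rw [h6]
    exact wt_spec p X g hbmemX

section main

variable [Fintype G]

/-- The total weight attached to `R` in `X`. -/
noncomputable def shat (X R : Subgroup G) : ℤ :=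
  ∑ g : G, if g ∈ X ∧ g ∈ normalizer (R : Set G) then wt p X g R else 0

/-- `R` is a maximal `p`-subgroup of `X`. -/
def MaxP (X R : Subgroup G) : Prop := ∀ Q : Subgroup G, Q ≤ X → IsPGroup p Q → R ≤ Q → Q ≤ R

/-- The `p`-subgroups of `X` containing `H`. -/
noncomputable def above (X H : Subgroup G) : Finset (Subgroup G) :=
  (Set.toFinite {R : Subgroup G | R ≤ X ∧ IsPGroup p R ∧ H ≤ R}).toFinset

variable {p}

theorem mem_above {X H R : Subgroup G} : R ∈ above p X H ↔ R ≤ X ∧ IsPGroup p R ∧ H ≤ R := by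
  simp [above]

variable (p)

/-- Exchanging the order of summation. -/
theorem sum_swap (X H : Subgroup G) :
    ∑ g : G, (if g ∈ X then ∑ z ∈ (pSet p X g).filter (H ≤ ·), wt p X g z else 0) =
      ∑ z ∈ above p X H, shat p X z := by
  have h1 : ∀ g : G, (if g ∈ X then ∑ z ∈ (pSet p X g).filter (H ≤ ·), wt p X g z else 0) =
      ∑ z ∈ above p X H, if g ∈ X ∧ g ∈ normalizer (z : Set G) then wt p X g z else 0 := by
    intro g
    by_cases hg : g ∈ X
    · simp only [hg, if_true, true_and]
      rw [← Finset.sum_filter]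
      refine Finset.sum_congr ?_ fun _ _ => rfl
      ext z
      simp only [Finset.mem_filter, mem_pSet, mem_above]
      tauto
    · simp [hg]
  simp_rw [h1]
  rw [Finset.sum_comm]
  rfl

/-- The maximal `p`-subgroups of `X`. -/
noncomputable def maxSet (X : Subgroup G) : Finset (Subgroup G) :=
  (Set.toFinite {R : Subgroup G | R ≤ X ∧ IsPGroup p R ∧ MaxP p X R}).toFinset

variable {p}

theorem mem_maxSet {X R : Subgroup G} : R ∈ maxSet p X ↔ R ≤ X ∧ IsPGroup p R ∧ MaxP p X R := by
  simp [maxSet]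

variable (p)

/-- Sylow's theorem in `X`: the normalizers of the maximal `p`-subgroups of `X`. -/
theorem sum_maxSet (X : Subgroup G) :
    ∑ Q ∈ maxSet p X, ((Nat.card ↥(X ⊓ normalizer (Q : Set G)) : ℕ) : ℤ) = Nat.card X := by
  haveI : Fintype (Sylow p X) := Fintype.ofFinite _
  let f : Sylow p X → Subgroup G := fun S => (S : Subgroup X).map X.subtype
  have hfinj : Function.Injective f := by
    intro S T h
    have := map_injective X.subtype_injective h
    exact Sylow.ext this
  have hfX : ∀ S, f S ≤ X := fun S => map_subtype_le _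
  have hfp : ∀ S, IsPGroup p (f S) := fun S => S.isPGroup'.map _
  have hfmax : ∀ S, MaxP p X (f S) := by
    intro S Q hQX hQ hSQ
    have h1 : IsPGroup p (Q.subgroupOf X) := hQ.comap_of_injective _ X.subtype_injective
    have h2 : (S : Subgroup X) ≤ Q.subgroupOf X := by
      intro x hx
      exact mem_subgroupOf.mpr (hSQ ⟨x, hx, rfl⟩)
    have h3 := S.is_maximal' h1 h2
    intro q hq
    have : (⟨q, hQX hq⟩ : X) ∈ Q.subgroupOf X := mem_subgroupOf.mpr hq
    rw [h3] at this
    exact ⟨_, this, rfl⟩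
  have hsum : ∑ Q ∈ maxSet p X, ((Nat.card ↥(X ⊓ normalizer (Q : Set G)) : ℕ) : ℤ) =
      ∑ S : Sylow p X, ((Nat.card ↥(X ⊓ normalizer (f S : Set G)) : ℕ) : ℤ) := by
    symm
    refine Finset.sum_bij (fun S _ => f S) ?_ ?_ ?_ ?_
    · intro S _
      exact mem_maxSet.mpr ⟨hfX S, hfp S, hfmax S⟩
    · intro S _ T _ h
      exact hfinj h
    · intro Q hQ
      obtain ⟨hQX, hQp, hQm⟩ := mem_maxSet.mp hQ
      have h1 : IsPGroup p (Q.subgroupOf X) := hQp.comap_of_injective _ X.subtype_injective
      obtain ⟨S, hS⟩ := h1.exists_le_sylow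
      refine ⟨S, Finset.mem_univ _, ?_⟩
      have h2 : Q ≤ f S := by
        intro q hq
        exact ⟨⟨q, hQX hq⟩, hS (mem_subgroupOf.mpr hq), rfl⟩
      exact le_antisymm (hQm _ (hfX S) (hfp S) h2) h2
    · intro S _
      rfl
  rw [hsum]
  have hcard : ∀ S : Sylow p X, Nat.card ↥(X ⊓ normalizer (f S : Set G)) =
      Nat.card (normalizer ((S : Subgroup X) : Set X)) := by
    intro S
    have hmf : ∀ w : X, (w : G) ∈ f S ↔ w ∈ (S : Subgroup X) := by
      intro w
      constructor
      · rintro ⟨w', hw', he⟩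
        have : w' = w := Subtype.ext he
        exact this ▸ hw'
      · intro hw
        exact ⟨w, hw, rfl⟩
    have h1 : X ⊓ normalizer (f S : Set G) = (normalizer ((S : Subgroup X) : Set X)).map X.subtype := by
      ext x
      constructor
      · intro hx
        obtain ⟨hxX, hxN⟩ := Subgroup.mem_inf.mp hx
        refine ⟨⟨x, hxX⟩, mem_normalizer_iff.mpr fun y => ?_, rfl⟩
        have h := mem_normalizer_iff.mp hxN (y : G)
        exact (hmf y).symm.trans (h.trans (hmf (⟨x, hxX⟩ * y * (⟨x, hxX⟩ : X)⁻¹)))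
      · rintro ⟨y, hy, rfl⟩
        refine Subgroup.mem_inf.mpr ⟨y.2, mem_normalizer_iff.mpr fun w => ?_⟩
        by_cases hw : w ∈ X
        · have h := mem_normalizer_iff.mp hy ⟨w, hw⟩
          exact (hmf ⟨w, hw⟩).trans (h.trans (hmf (y * ⟨w, hw⟩ * y⁻¹)).symm)
        · have h1 : w ∉ f S := fun h => hw (hfX S h)
          have h2 : (y : G) * w * (y : G)⁻¹ ∉ f S := by
            intro h
            apply hw
            have h3 := hfX S h
            have h4 : w = (y : G)⁻¹ * ((y : G) * w * (y : G)⁻¹) * (y : G) := by group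
            rw [h4]
            exact X.mul_mem (X.mul_mem (X.inv_mem y.2) h3) y.2
          exact ⟨fun h => absurd h h1, fun h => absurd h h2⟩
    rw [h1]
    exact Nat.card_congr (Subgroup.equivMapOfInjective _ _ X.subtype_injective).toEquiv.symm
  have hmul : ∀ S : Sylow p X, Nat.card (Sylow p X) * Nat.card (normalizer ((S : Subgroup X) : Set X)) =
      Nat.card X := by
    intro S
    rw [Sylow.card_eq_index_normalizer S]
    exact Subgroup.index_mul_card _
  have hconst : ∀ S T : Sylow p X, Nat.card (normalizer ((S : Subgroup X) : Set X)) =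
      Nat.card (normalizer ((T : Subgroup X) : Set X)) := by
    intro S T
    have h1 := hmul S
    have h2 := hmul T
    have hpos : 0 < Nat.card (Sylow p X) := Nat.card_pos
    exact Nat.eq_of_mul_eq_mul_left hpos (h1.trans h2.symm)
  obtain ⟨S₀⟩ : Nonempty (Sylow p X) := inferInstance
  simp_rw [hcard, hconst _ S₀]
  rw [Finset.sum_const, Finset.card_univ, ← Nat.card_eq_fintype_card, nsmul_eq_mul]
  exact_mod_cast hmul S₀

/-- The value of the total weight. -/
theorem shat_eq (n : ℕ) : ∀ X R : Subgroup G, 2 * Nat.card X - Nat.card R ≤ n → R ≤ X →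
    IsPGroup p R → shat p X R =
      if MaxP p X R then ((Nat.card ↥(X ⊓ normalizer (R : Set G)) : ℕ) : ℤ) else 0 := by
  induction' n using Nat.strong_induction_on with n ih
  intro X R hn hRX hR
  by_cases hXN : X ≤ normalizer (R : Set G)
  · -- `R` is normal in `X`
    have hsum := sum_swap p X R
    have hleft : ∑ g : G, (if g ∈ X then ∑ z ∈ (pSet p X g).filter (R ≤ ·), wt p X g z else 0) =
        (Nat.card X : ℤ) := by
      have h1 : ∀ g : G, (if g ∈ X then ∑ z ∈ (pSet p X g).filter (R ≤ ·), wt p X g z else 0) =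
          if g ∈ X then 1 else 0 := by
        intro g
        by_cases hg : g ∈ X
        · simp only [hg, if_true]
          exact wt_spec p X g (mem_pSet.mpr ⟨hRX, hR, hXN hg⟩)
        · simp [hg]
      simp_rw [h1]
      rw [Finset.sum_boole, Nat.card_eq_fintype_card]
      congr 1
      rw [Fintype.card_subtype]
    rw [hleft] at hsum
    have hRmem : R ∈ above p X R := mem_above.mpr ⟨hRX, hR, le_rfl⟩
    rw [← Finset.add_sum_erase _ _ hRmem] at hsum
    have hcardle : ∀ z, R < z → z ≤ X → 2 * Nat.card X - Nat.card z < n := by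
      intro z hRz hzX
      have h1 : Nat.card R < Nat.card z := card_lt_of_lt hRz
      have h2 : Nat.card z ≤ Nat.card X := Subgroup.card_le_of_le hzX
      omega
    have hrest : ∑ z ∈ (above p X R).erase R, shat p X z =
        ∑ z ∈ (above p X R).erase R,
          if MaxP p X z then ((Nat.card ↥(X ⊓ normalizer (z : Set G)) : ℕ) : ℤ) else 0 := by
      refine Finset.sum_congr rfl fun z hz => ?_
      obtain ⟨hzne, hzm⟩ := Finset.mem_erase.mp hz
      obtain ⟨hzX, hzp, hRz⟩ := mem_above.mp hzm
      exact ih _ (hcardle z (lt_of_le_of_ne hRz (Ne.symm hzne)) hzX) X z le_rfl hzX hzp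
    rw [hrest] at hsum
    have hXinf : X ⊓ normalizer (R : Set G) = X := inf_eq_left.mpr hXN
    by_cases hmax : MaxP p X R
    · -- no proper overgroups
      have h0 : (above p X R).erase R = ∅ := by
        ext z
        simp only [Finset.mem_erase, mem_above, Finset.notMem_empty, iff_false, not_and]
        intro hne hzX hzp hRz
        exact hne (le_antisymm (hmax z hzX hzp hRz) hRz)
      rw [h0, Finset.sum_empty, add_zero] at hsum
      rw [if_pos hmax, hXinf, ← hsum]
    · rw [if_neg hmax]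
      have hkey : ∑ z ∈ (above p X R).erase R,
          (if MaxP p X z then ((Nat.card ↥(X ⊓ normalizer (z : Set G)) : ℕ) : ℤ) else 0) =
          ∑ Q ∈ maxSet p X, ((Nat.card ↥(X ⊓ normalizer (Q : Set G)) : ℕ) : ℤ) := by
        rw [← Finset.sum_filter]
        refine Finset.sum_congr ?_ fun _ _ => rfl
        ext z
        simp only [Finset.mem_filter, Finset.mem_erase, mem_above, mem_maxSet]
        constructor
        · rintro ⟨⟨_, hzX, hzp, _⟩, hzm⟩
          exact ⟨hzX, hzp, hzm⟩
        · rintro ⟨hzX, hzp, hzm⟩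
          refine ⟨⟨?_, hzX, hzp, ?_⟩, hzm⟩
          · rintro rfl
            exact hmax hzm
          · -- `R` is normal in `X`, so it lies in every maximal `p`-subgroup
            have hRn : (R.subgroupOf X).Normal :=
              (normal_subgroupOf_iff_le_normalizer hRX).mpr hXN
            have h1 : IsPGroup p ((R.subgroupOf X) ⊔ (z.subgroupOf X) : Subgroup X) :=
              IsPGroup.to_sup_of_normal_left' (hR.comap_of_injective _ X.subtype_injective)
                (hzp.comap_of_injective _ X.subtype_injective)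
                (by rw [normalizer_eq_top_iff.mpr hRn]; exact le_top)
            have h2 : ((R.subgroupOf X) ⊔ (z.subgroupOf X) : Subgroup X).map X.subtype ≤ z :=
              hzm _ (map_subtype_le _) (h1.map _) (by
                intro y hy
                exact ⟨⟨y, hzX hy⟩, (le_sup_right : z.subgroupOf X ≤ _)
                  (mem_subgroupOf.mpr hy), rfl⟩)
            intro r hr
            exact h2 ⟨⟨r, hRX hr⟩, (le_sup_left : R.subgroupOf X ≤ _)
              (mem_subgroupOf.mpr hr), rfl⟩
      rw [hkey, sum_maxSet] at hsum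
      linarith
  · -- `R` is not normal in `X`
    set X' := X ⊓ normalizer (R : Set G) with hX'
    have hlt : X' < X := lt_of_le_of_ne inf_le_left (fun h => hXN (inf_eq_left.mp h))
    have hcard : Nat.card X' < Nat.card X := card_lt_of_lt hlt
    have hRX' : R ≤ X' := le_inf hRX le_normalizer
    have hRcard : Nat.card R ≤ Nat.card X' := Subgroup.card_le_of_le hRX'
    have hshat : shat p X R = shat p X' R := by
      unfold shat
      refine Finset.sum_congr rfl fun g _ => ?_
      have hiff : (g ∈ X ∧ g ∈ normalizer (R : Set G)) ↔ (g ∈ X' ∧ g ∈ normalizer (R : Set G)) := by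
        rw [hX', Subgroup.mem_inf]
        tauto
      by_cases hg : g ∈ X ∧ g ∈ normalizer (R : Set G)
      · rw [if_pos hg, if_pos (hiff.mp hg)]
        exact wt_eq_of_inf p hRX hR hg.2
      · rw [if_neg hg, if_neg (fun h => hg (hiff.mpr h))]
    have hnlt : 2 * Nat.card X' - Nat.card R < n := by omega
    rw [hshat, ih _ hnlt X' R le_rfl hRX' hR]
    have hinf : X' ⊓ normalizer (R : Set G) = X' := inf_eq_left.mpr inf_le_right
    have hiffmax : MaxP p X' R ↔ MaxP p X R := by
      constructor
      · intro hm Q hQX hQ hRQ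
        by_contra hnot
        have hlt' : R < Q := lt_of_le_of_ne hRQ (fun e => hnot (e ▸ le_rfl))
        obtain ⟨b, hbQ, hbR, hbN⟩ := growth p hlt' hQ
        have h3 := hm (Q ⊓ normalizer (R : Set G)) (inf_le_inf_right _ hQX)
          (hQ.to_le inf_le_left) (le_inf hRQ le_normalizer)
        exact hbR (h3 (Subgroup.mem_inf.mpr ⟨hbQ, hbN⟩))
      · intro hm Q hQX hQ hRQ
        exact hm Q (hQX.trans inf_le_left) hQ hRQ
    simp only [hinf, hiffmax]

/-- The indicator function of the subnormalizer is a sum of weights. -/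
theorem sum_wt_eq (H : Subgroup G) (g : G) :
    ∑ z ∈ (pSet p ⊤ g).filter (H ≤ ·), wt p ⊤ g z =
      if ∃ R : Subgroup G, H ≤ R ∧ IsPGroup p R ∧ g ∈ normalizer (R : Set G) then 1 else 0 := by
  by_cases h : ∃ R : Subgroup G, H ≤ R ∧ IsPGroup p R ∧ g ∈ normalizer (R : Set G)
  · rw [if_pos h]
    obtain ⟨R₀, hHR₀, hR₀, hgR₀⟩ := h
    set M : Subgroup G := ⨅ R ∈ (pSet p ⊤ g).filter (H ≤ ·), R with hM
    have hR₀mem : R₀ ∈ (pSet p ⊤ g).filter (H ≤ ·) :=
      Finset.mem_filter.mpr ⟨mem_pSet.mpr ⟨le_top, hR₀, hgR₀⟩, hHR₀⟩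
    have hMle : M ≤ R₀ := iInf₂_le R₀ hR₀mem
    have hHM : H ≤ M := le_iInf₂ fun R hR => (Finset.mem_filter.mp hR).2
    have hMp : IsPGroup p M := hR₀.to_le hMle
    have hgM : g ∈ normalizer (M : Set G) := by
      rw [mem_normalizer_iff]
      intro x
      simp only [hM, SetLike.mem_coe, Subgroup.mem_iInf]
      constructor
      · intro hx R hR
        have hRm := (Finset.mem_filter.mp hR).1
        exact (mem_normalizer_iff.mp (mem_pSet.mp hRm).2.2 x).mp (hx R hR)
      · intro hx R hR
        have hRm := (Finset.mem_filter.mp hR).1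
        exact (mem_normalizer_iff.mp (mem_pSet.mp hRm).2.2 x).mpr (hx R hR)
    have hMmem : M ∈ pSet p ⊤ g := mem_pSet.mpr ⟨le_top, hMp, hgM⟩
    have heq : (pSet p ⊤ g).filter (H ≤ ·) = (pSet p ⊤ g).filter (M ≤ ·) := by
      ext R
      simp only [Finset.mem_filter]
      constructor
      · rintro ⟨hR, hHR⟩
        refine ⟨hR, iInf₂_le R ?_⟩
        exact Finset.mem_filter.mpr ⟨hR, hHR⟩
      · rintro ⟨hR, hMR⟩
        exact ⟨hR, hHM.trans hMR⟩
    rw [heq]
    exact wt_spec p ⊤ g hMmem
  · rw [if_neg h]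
    have h0 : (pSet p ⊤ g).filter (H ≤ ·) = ∅ := by
      ext R
      simp only [Finset.mem_filter, mem_pSet, Finset.notMem_empty, iff_false, not_and]
      rintro ⟨_, hR, hg⟩ hHR
      exact h ⟨R, hHR, hR, hg⟩
    rw [h0, Finset.sum_empty]

/-- Casolo's count, with the Sylow subgroups written as maximal `p`-subgroups of `⊤`. -/
theorem card_subnormalizer_aux (H : Subgroup G) (hH : IsPGroup p H) :
    ((Finset.univ.filter fun g : G =>
        ∃ R : Subgroup G, H ≤ R ∧ IsPGroup p R ∧ g ∈ normalizer (R : Set G)).card : ℤ) =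
      ∑ Q ∈ (maxSet p (⊤ : Subgroup G)).filter (H ≤ ·),
        ((Nat.card ↥((⊤ : Subgroup G) ⊓ normalizer (Q : Set G)) : ℕ) : ℤ) := by
  have h1 := sum_swap p (⊤ : Subgroup G) H
  simp only [Subgroup.mem_top, if_true] at h1
  simp_rw [sum_wt_eq p H] at h1
  rw [Finset.sum_boole] at h1
  rw [h1]
  have h2 : ∀ z ∈ above p (⊤ : Subgroup G) H, shat p ⊤ z =
      if MaxP p (⊤ : Subgroup G) z then
        ((Nat.card ↥((⊤ : Subgroup G) ⊓ normalizer (z : Set G)) : ℕ) : ℤ) else 0 := by
    intro z hz
    obtain ⟨hzX, hzp, _⟩ := mem_above.mp hz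
    exact shat_eq p _ ⊤ z le_rfl hzX hzp
  rw [Finset.sum_congr rfl h2, ← Finset.sum_filter]
  refine Finset.sum_congr ?_ fun _ _ => rfl
  ext z
  simp only [Finset.mem_filter, mem_above, mem_maxSet]
  tauto

end main

end group

section final

variable {G : Type*} [Group G] [Finite G] (p : ℕ) [Fact p.Prime]

theorem isSubnormal_of_le {L : Type*} [Group L] [Finite L] (B : Subgroup L)
    (hB : B.Normal) (hBp : IsPGroup p B) (A : Subgroup L) : A ≤ B → A.IsSubnormal := by
  refine WellFoundedGT.induction (motive := fun A : Subgroup L => A ≤ B → A.IsSubnormal) A ?_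
  intro A ih hAle
  by_cases h : A = B
  · subst h
    exact Normal.isSubnormal hB
  have hlt : A < B := lt_of_le_of_ne hAle h
  obtain ⟨b, hbB, hbA, hbN⟩ := growth p hlt hBp
  have hAA' : A ≤ normalizer (A : Set L) ⊓ B := le_inf le_normalizer hAle
  have hlt' : A < normalizer (A : Set L) ⊓ B :=
    lt_of_le_of_ne hAA' (fun e => hbA (e ▸ Subgroup.mem_inf.mpr ⟨hbN, hbB⟩))
  have h' := ih _ hlt' inf_le_right
  exact IsSubnormal.step A _ hAA' h' ((normal_subgroupOf_iff_le_normalizer hAA').mpr inf_le_left)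

theorem isSubnormal_iff (H : Subgroup G) (hH : IsPGroup p H) (g : G) :
    ((H).subgroupOf (H ⊔ Subgroup.zpowers g)).IsSubnormal ↔
      ∃ R : Subgroup G, H ≤ R ∧ IsPGroup p R ∧ g ∈ normalizer (R : Set G) := by
  set L : Subgroup G := H ⊔ Subgroup.zpowers g with hL
  have hHL : H ≤ L := le_sup_left
  have hgL : g ∈ L := (le_sup_right : zpowers g ≤ L) (mem_zpowers g)
  constructor
  · intro hs
    have hA : H.subgroupOf L ≤ Cfsg.pCore p L :=
      Cfsg.Agent.Lib.Components.subnormal_le_pCore hs (hH.comap_of_injective L.subtype L.subtype_injective)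
    refine ⟨(Cfsg.pCore p L).map L.subtype, fun h hh =>
      ⟨⟨h, hHL hh⟩, hA (mem_subgroupOf.mpr hh), rfl⟩, (Cfsg.Agent.Lib.Basic.pCore_isPGroup p).map _, ?_⟩
    apply mem_normalizer_of_conj_le'
    rintro w ⟨w', hw', rfl⟩
    exact ⟨(⟨g, hgL⟩ : L) * w' * (⟨g, hgL⟩ : L)⁻¹, (Cfsg.Agent.Lib.Basic.pCore_normal p).conj_mem w' hw' _, rfl⟩
  · rintro ⟨R, hHR, hRp, hgR⟩
    have hLN : L ≤ normalizer (R : Set G) :=
      sup_le (hHR.trans le_normalizer) ((Subgroup.zpowers_le).mpr hgR)
    refine isSubnormal_of_le p (R.subgroupOf L) ?_ (hRp.comap_of_injective _ L.subtype_injective) _ ?_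
    · constructor
      intro n hn x
      rw [mem_subgroupOf] at hn ⊢
      exact (mem_normalizer_iff.mp (hLN x.2) n).mp hn
    · intro x hx
      exact mem_subgroupOf.mpr (hHR (mem_subgroupOf.mp hx))

theorem card_normalizer_eq (P Q : Sylow p G) :
    Nat.card (normalizer ((Q : Subgroup G) : Set G)) =
      Nat.card (normalizer ((P : Subgroup G) : Set G)) := by
  have hmul : ∀ S : Sylow p G, Nat.card (Sylow p G) * Nat.card (normalizer ((S : Subgroup G) : Set G)) =
      Nat.card G := by
    intro S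
    rw [Sylow.card_eq_index_normalizer S]
    exact Subgroup.index_mul_card _
  have hpos : 0 < Nat.card (Sylow p G) := Nat.card_pos
  exact Nat.eq_of_mul_eq_mul_left hpos ((hmul Q).trans (hmul P).symm)

/-- **Casolo's theorem**: the size of the subnormalizer of a `p`-subgroup. -/
theorem card_subnormalizer (H : Subgroup G) (hH : IsPGroup p H) (P : Sylow p G) :
    Nat.card {g : G // ((H).subgroupOf (H ⊔ Subgroup.zpowers g)).IsSubnormal} =
      Nat.card {Q : Sylow p G // H ≤ (Q : Subgroup G)} *
        Nat.card (normalizer ((P : Subgroup G) : Set G)) := by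
  haveI := Fintype.ofFinite G
  have h1 := card_subnormalizer_aux p H hH
  have h2 : Nat.card {g : G // ((H).subgroupOf (H ⊔ Subgroup.zpowers g)).IsSubnormal} =
      (Finset.univ.filter fun g : G =>
        ∃ R : Subgroup G, H ≤ R ∧ IsPGroup p R ∧ g ∈ normalizer (R : Set G)).card := by
    rw [← Fintype.card_subtype, ← Nat.card_eq_fintype_card]
    exact Nat.card_congr (Equiv.subtypeEquivRight fun g => isSubnormal_iff p H hH g)
  have hmaxS : ∀ Q : Subgroup G, (Q ∈ maxSet p (⊤ : Subgroup G)) → ∃ S : Sylow p G, (S : Subgroup G) = Q := by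
    intro Q hQ
    obtain ⟨_, hQp, hQm⟩ := mem_maxSet.mp hQ
    exact ⟨⟨Q, hQp, fun {R} hR hle => le_antisymm (hQm R le_top hR hle) hle⟩, rfl⟩
  have hSmax : ∀ S : Sylow p G, (S : Subgroup G) ∈ maxSet p (⊤ : Subgroup G) := by
    intro S
    refine mem_maxSet.mpr ⟨le_top, S.isPGroup', ?_⟩
    intro R _ hR hle
    exact (S.is_maximal' hR hle).le
  have h3 : ∑ Q ∈ (maxSet p (⊤ : Subgroup G)).filter (H ≤ ·),
        ((Nat.card ↥((⊤ : Subgroup G) ⊓ normalizer (Q : Set G)) : ℕ) : ℤ) =
      ((((maxSet p (⊤ : Subgroup G)).filter (H ≤ ·)).card : ℕ) : ℤ) *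
        ((Nat.card (normalizer ((P : Subgroup G) : Set G)) : ℕ) : ℤ) := by
    rw [← nsmul_eq_mul, ← Finset.sum_const]
    refine Finset.sum_congr rfl fun Q hQ => ?_
    obtain ⟨S, rfl⟩ := hmaxS Q (Finset.mem_filter.mp hQ).1
    rw [top_inf_eq, card_normalizer_eq p P S]
  have h4 : ((maxSet p (⊤ : Subgroup G)).filter (H ≤ ·)).card =
      Nat.card {Q : Sylow p G // H ≤ (Q : Subgroup G)} := by
    rw [← Fintype.card_coe, ← Nat.card_eq_fintype_card]
    refine Nat.card_congr ?_
    refine ⟨fun R => ⟨(hmaxS R.1 (Finset.mem_filter.mp R.2).1).choose, ?_⟩,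
      fun Q => ⟨Q.1, Finset.mem_filter.mpr ⟨hSmax Q.1, Q.2⟩⟩, ?_, ?_⟩
    · rw [(hmaxS R.1 (Finset.mem_filter.mp R.2).1).choose_spec]
      exact (Finset.mem_filter.mp R.2).2
    · intro R
      apply Subtype.ext
      exact (hmaxS R.1 (Finset.mem_filter.mp R.2).1).choose_spec
    · intro Q
      apply Subtype.ext
      apply Sylow.ext
      exact (hmaxS Q.1.1 (hSmax Q.1)).choose_spec
  rw [h3, h4, ← h2] at h1
  exact_mod_cast h1

end final

end Cfsg.Agent.Lib.PGroups.Subnormalizer
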