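import Cfsg.Agent.Lib.PGroups.Subnormalizer
import Cfsg.Agent.Lib.OddLocal.Basic

/-!
# Subnormalizers along a normal series

Counting the elements conjugating a `p`-subgroup `H` into `P M`, `P` a Sylow `p`-subgroup,
as `M` runs through a normal series with `p`- and `p'`-factors.
-/

set_option autoImplicit false

namespace Cfsg.Agent.Lib.PGroups.Subnormalizer

open Subgroup Cfsg

variable {G : Type*} [Group G] [Finite G] {p : ℕ} [Fact p.Prime]

theorem card_of_fibers {A B : Type*} [Finite A] [Finite B] (f : A → B) (c : ℕ)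
    (hf : ∀ b, Nat.card {a // f a = b} = c) : Nat.card A = Nat.card B * c := by
  haveI := Fintype.ofFinite B
  have h1 := Nat.card_congr (Equiv.sigmaFiberEquiv f)
  rw [← h1, Nat.card_sigma]
  simp_rw [hf]
  rw [Finset.sum_const, Finset.card_univ, ← Nat.card_eq_fintype_card, smul_eq_mul]

/-- The number of elements conjugating `H` into `K`. -/
noncomputable def cnt (H K : Subgroup G) : ℕ :=
  Nat.card {g : G // H.map (MulAut.conj g).toMonoidHom ≤ K}

theorem map_conj_le_iff {H K : Subgroup G} {g : G} :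
    H.map (MulAut.conj g).toMonoidHom ≤ K ↔ ∀ h ∈ H, g * h * g⁻¹ ∈ K := by
  constructor
  · intro h x hx
    exact h ⟨x, hx, by simp⟩
  · rintro h _ ⟨x, hx, rfl⟩
    simpa using h x hx

theorem cnt_sylow (H : Subgroup G) (P : Sylow p G) :
    cnt H (P : Subgroup G) = Nat.card {Q : Sylow p G // H ≤ (Q : Subgroup G)} *
      Nat.card (normalizer ((P : Subgroup G) : Set G)) := by
  have hmem : ∀ a : {g : G // H.map (MulAut.conj g).toMonoidHom ≤ (P : Subgroup G)},
      H ≤ ((a.1⁻¹ • P : Sylow p G) : Subgroup G) := by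
    intro a x hx
    have h3 : a.1 * x * a.1⁻¹ ∈ (P : Subgroup G) := a.2 ⟨x, hx, by simp⟩
    rw [Sylow.coe_subgroup_smul]
    exact ⟨a.1 * x * a.1⁻¹, h3, by simp [mul_assoc]⟩
  refine card_of_fibers (fun a => (⟨a.1⁻¹ • P, hmem a⟩ : {Q : Sylow p G // H ≤ (Q : Subgroup G)})) _ ?_
  rintro ⟨Q, hHQ⟩
  obtain ⟨b, rfl⟩ := MulAction.exists_smul_eq G P Q
  refine Nat.card_congr ⟨fun a => ⟨a.1.1 * b, ?_⟩, fun n => ⟨⟨n.1 * b⁻¹, ?_⟩, ?_⟩, ?_, ?_⟩
  · have h := congrArg Subtype.val a.2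
    simp only at h
    have h4 : (a.1.1 * b) • P = P := by
      rw [mul_smul]
      have h' := congrArg (fun S => a.1.1 • S) h
      simp only [smul_inv_smul] at h'
      exact h'.symm
    exact Sylow.smul_eq_iff_mem_normalizer.mp h4
  · rintro _ ⟨x, hx, rfl⟩
    have h3 := hHQ hx
    rw [Sylow.coe_subgroup_smul] at h3
    obtain ⟨y, hy, he⟩ := h3
    have hy' : y = b⁻¹ * x * b := by
      have : b * y * b⁻¹ = x := by simpa using he
      rw [← this]; group
    subst hy'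
    have h5 := (mem_normalizer_iff.mp n.2 (b⁻¹ * x * b)).mp hy
    have h6 : (MulAut.conj (n.1 * b⁻¹)).toMonoidHom x = n.1 * (b⁻¹ * x * b) * n.1⁻¹ := by
      simp [mul_assoc]
    rw [h6]
    exact h5
  · apply Subtype.ext
    simp only
    rw [mul_inv_rev, inv_inv, mul_smul]
    have : n.1⁻¹ • P = P := Sylow.smul_eq_iff_mem_normalizer.mpr (inv_mem n.2)
    rw [this]
  · intro a
    apply Subtype.ext
    apply Subtype.ext
    simp
  · intro n
    apply Subtype.ext
    simp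

/-- The preimage in `M'` of the centralizer of `Y` in `M'/M`. -/
def relCent (M M' Y : Subgroup G) [hM : M.Normal] : Subgroup G where
  carrier := {u | u ∈ M' ∧ ∀ y ∈ Y, y * u * y⁻¹ * u⁻¹ ∈ M}
  mul_mem' := by
    rintro a b ⟨ha, ha'⟩ ⟨hb, hb'⟩
    refine ⟨mul_mem ha hb, fun y hy => ?_⟩
    have h1 := ha' y hy
    have h2 := hM.conj_mem _ (hb' y hy) a
    have h3 : y * (a * b) * y⁻¹ * (a * b)⁻¹ =
        (y * a * y⁻¹ * a⁻¹) * (a * (y * b * y⁻¹ * b⁻¹) * a⁻¹) := by group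
    rw [h3]
    exact mul_mem h1 h2
  one_mem' := ⟨one_mem _, fun y _ => by simpa using one_mem M⟩
  inv_mem' := by
    rintro a ⟨ha, ha'⟩
    refine ⟨inv_mem ha, fun y hy => ?_⟩
    have h2 := hM.conj_mem _ (inv_mem (ha' y hy)) a⁻¹
    have h3 : y * a⁻¹ * y⁻¹ * a⁻¹⁻¹ = a⁻¹ * (y * a * y⁻¹ * a⁻¹)⁻¹ * a⁻¹⁻¹ := by group
    rw [h3]
    exact h2

theorem le_relCent {M M' : Subgroup G} [hM : M.Normal] (hMM' : M ≤ M') (Y : Subgroup G) :
    M ≤ relCent M M' Y := by
  intro x hx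
  refine ⟨hMM' hx, fun y _ => ?_⟩
  exact mul_mem (hM.conj_mem x hx y) (inv_mem hx)

theorem card_dvd_relCent {M M' : Subgroup G} [hM : M.Normal] (hMM' : M ≤ M') (Y : Subgroup G) :
    Nat.card M ∣ Nat.card (relCent M M' Y) :=
  Subgroup.card_dvd_of_le (le_relCent hMM' Y)

/-- If `M'/M` is a `p`-group, then `M' ≤ P M`. -/
theorem le_sup_of_pow {M M' : Subgroup G} [hM : M.Normal] [hM' : M'.Normal] (P : Sylow p G)
    {m : ℕ} (hr : M.relIndex M' = p ^ m) : M' ≤ (P : Subgroup G) ⊔ M := by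
  let q := QuotientGroup.mk' M
  have hq : Function.Surjective q := QuotientGroup.mk'_surjective M
  let Q : Sylow p (G ⧸ M) := P.mapSurjective hq
  let f : M' →* G ⧸ M := q.comp M'.subtype
  have hker : f.ker = M.subgroupOf M' := by
    ext x
    simp [f, q, MonoidHom.mem_ker, mem_subgroupOf]
  have hrange : f.range = M'.map q := by
    rw [MonoidHom.range_comp, range_subtype]
  have hcard : Nat.card (M'.map q) = p ^ m := by
    rw [← hrange, ← Subgroup.index_ker, hker]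
    exact hr
  have hpg : IsPGroup p (M'.map q) := IsPGroup.of_card hcard
  haveI : (M'.map q).Normal := hM'.map q hq
  have hle := hpg.le_sylow_of_normal Q
  intro x hx
  have h1 : q x ∈ (Q : Subgroup (G ⧸ M)) := hle ⟨x, hx, rfl⟩
  obtain ⟨y, hy, he⟩ := h1
  have h2 : y⁻¹ * x ∈ M := by
    have := QuotientGroup.eq.mp he
    exact this
  have h3 : x = y * (y⁻¹ * x) := by group
  rw [h3]
  exact mul_mem ((le_sup_left : (P : Subgroup G) ≤ _) hy) ((le_sup_right : M ≤ _) h2)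

/-- If `M'/M` is a `p'`-group, then `M' ∩ P M ≤ M`. -/
theorem inf_sup_le {M M' : Subgroup G} [hM : M.Normal] (hMM' : M ≤ M') (P : Sylow p G)
    (hr : (M.relIndex M').Coprime p) : M' ⊓ ((P : Subgroup G) ⊔ M) ≤ M := by
  set I := M' ⊓ ((P : Subgroup G) ⊔ M) with hI
  have hMI : M ≤ I := le_inf hMM' le_sup_right
  have h1 : M.relIndex I * I.relIndex M' = M.relIndex M' :=
    relIndex_mul_relIndex M I M' hMI inf_le_left
  have h2 : M.relIndex I * I.relIndex ((P : Subgroup G) ⊔ M) = M.relIndex ((P : Subgroup G) ⊔ M) :=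
    relIndex_mul_relIndex M I _ hMI inf_le_right
  have h3 : M.relIndex ((P : Subgroup G) ⊔ M) = M.relIndex (P : Subgroup G) := relIndex_sup_right _ _
  have h4 : M.relIndex (P : Subgroup G) ∣ Nat.card (P : Subgroup G) := relIndex_dvd_card _ _
  obtain ⟨k, hk⟩ := IsPGroup.iff_card.mp P.isPGroup'
  have h5 : M.relIndex I ∣ p ^ k := by
    rw [← hk]
    exact (Dvd.intro _ h2).trans (h3 ▸ h4)
  have h6 : M.relIndex I ∣ M.relIndex M' := Dvd.intro _ h1
  have h7 : (M.relIndex I).Coprime (p ^ k) := Nat.Coprime.pow_right k (Nat.Coprime.coprime_dvd_left h6 hr)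
  have h8 : M.relIndex I = 1 := h7.eq_one_of_dvd h5
  exact relIndex_eq_one.mp h8

theorem exists_conj_into (M' : Subgroup G) [hM' : M'.Normal] (P : Sylow p G) (Y : Subgroup G)
    (hY : IsPGroup p Y) (hle : Y ≤ (P : Subgroup G) ⊔ M') :
    ∃ m ∈ M', ∀ y ∈ Y, m * y * m⁻¹ ∈ (P : Subgroup G) := by
  set L := (P : Subgroup G) ⊔ M' with hL
  have hPL : (P : Subgroup G) ≤ L := le_sup_left
  let PL : Sylow p L := P.subtype hPL
  have hYL : IsPGroup p (Y.subgroupOf L) := hY.comap_of_injective _ L.subtype_injective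
  obtain ⟨S, hS⟩ := hYL.exists_le_sylow
  obtain ⟨l, hl⟩ := MulAction.exists_smul_eq L PL S
  have hlmem : (l : G) ∈ ((M' ⊔ (P : Subgroup G) : Subgroup G) : Set G) := by
    rw [sup_comm]
    exact l.2
  rw [Subgroup.normal_mul] at hlmem
  obtain ⟨m, hm, x, hx, hmx⟩ := Set.mem_mul.mp hlmem
  refine ⟨m⁻¹, inv_mem hm, fun y hy => ?_⟩
  have h1 : (⟨y, hle hy⟩ : L) ∈ ((l • PL : Sylow p L) : Subgroup L) := by
    rw [hl]
    exact hS (mem_subgroupOf.mpr hy)
  rw [Sylow.coe_subgroup_smul, Subgroup.mem_pointwise_smul_iff_inv_smul_mem] at h1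
  have h2 : (l⁻¹ * ⟨y, hle hy⟩ * l : L) ∈ (PL : Subgroup L) := by
    simpa [MulAut.smul_def, MulAut.conj_apply] using h1
  have h3 : (l : G)⁻¹ * y * (l : G) ∈ (P : Subgroup G) := by
    have := h2
    rw [Sylow.coe_subtype, mem_subgroupOf] at this
    simpa using this
  have h4 : m⁻¹ * y * m⁻¹⁻¹ = x * ((l : G)⁻¹ * y * (l : G)) * x⁻¹ := by
    rw [← hmx]; group
  rw [h4]
  exact mul_mem (mul_mem hx h3) (inv_mem hx)

theorem count_fibre {M M' : Subgroup G} [hM : M.Normal] [hM' : M'.Normal] (hMM' : M ≤ M')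
    (P : Sylow p G) (hr : (M.relIndex M').Coprime p) (H : Subgroup G) (hH : IsPGroup p H) (g : G)
    (hg : H.map (MulAut.conj g).toMonoidHom ≤ (P : Subgroup G) ⊔ M') :
    Nat.card {m : M' // H.map (MulAut.conj ((m : G) * g)).toMonoidHom ≤ (P : Subgroup G) ⊔ M} =
      Nat.card (relCent M M' H) := by
  obtain ⟨m₀, hm₀, hY⟩ := exists_conj_into M' P _ (hH.map (MulAut.conj g).toMonoidHom) hg
  set g₀ := m₀ * g with hg₀
  have hP : ∀ h ∈ H, g₀ * h * g₀⁻¹ ∈ (P : Subgroup G) := by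
    intro h hh
    have := hY _ ⟨h, hh, rfl⟩
    have h2 : m₀ * (MulAut.conj g).toMonoidHom h * m₀⁻¹ = g₀ * h * g₀⁻¹ := by
      simp [hg₀]; group
    rwa [h2] at this
  have hKinf := inf_sup_le hMM' P hr
  have key : ∀ u ∈ M', (H.map (MulAut.conj ((g₀ * u * g₀⁻¹ * m₀) * g)).toMonoidHom ≤
      (P : Subgroup G) ⊔ M ↔ u ∈ relCent M M' H) := by
    intro u hu
    rw [map_conj_le_iff]
    constructor
    · intro h
      refine ⟨hu, fun y hy => ?_⟩
      have h1 := h y hy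
      have h2 : (g₀ * u * g₀⁻¹ * m₀) * g * y * ((g₀ * u * g₀⁻¹ * m₀) * g)⁻¹ =
          (g₀ * (u * y * u⁻¹ * y⁻¹) * g₀⁻¹) * (g₀ * y * g₀⁻¹) := by
        rw [hg₀]; group
      rw [h2] at h1
      have h3 : g₀ * (u * y * u⁻¹ * y⁻¹) * g₀⁻¹ ∈ (P : Subgroup G) ⊔ M := by
        have h4 := (le_sup_left : (P : Subgroup G) ≤ (P : Subgroup G) ⊔ M) (hP y hy)
        exact (Subgroup.mul_mem_cancel_right _ h4).mp h1
      have h5 : g₀ * (u * y * u⁻¹ * y⁻¹) * g₀⁻¹ ∈ M' := by
        apply hM'.conj_mem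
        have h6 := hM'.conj_mem _ (inv_mem hu) y
        have : u * y * u⁻¹ * y⁻¹ = u * (y * u⁻¹ * y⁻¹) := by group
        rw [this]
        exact mul_mem hu h6
      have h7 := hKinf (Subgroup.mem_inf.mpr ⟨h5, h3⟩)
      have h8 := hM.conj_mem _ h7 g₀⁻¹
      have h9 : g₀⁻¹ * (g₀ * (u * y * u⁻¹ * y⁻¹) * g₀⁻¹) * g₀⁻¹⁻¹ = u * y * u⁻¹ * y⁻¹ := by group
      rw [h9] at h8
      have h10 := inv_mem h8
      have h11 : (u * y * u⁻¹ * y⁻¹)⁻¹ = y * u * y⁻¹ * u⁻¹ := by group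
      rwa [h11] at h10
    · rintro ⟨_, hu'⟩ y hy
      have h1 := hu' y hy
      have h11 : (y * u * y⁻¹ * u⁻¹)⁻¹ = u * y * u⁻¹ * y⁻¹ := by group
      have h2 := hM.conj_mem _ (inv_mem h1) g₀
      rw [h11] at h2
      have h3 : (g₀ * u * g₀⁻¹ * m₀) * g * y * ((g₀ * u * g₀⁻¹ * m₀) * g)⁻¹ =
          (g₀ * (u * y * u⁻¹ * y⁻¹) * g₀⁻¹) * (g₀ * y * g₀⁻¹) := by
        rw [hg₀]; group
      rw [h3]
      exact mul_mem ((le_sup_right : M ≤ (P : Subgroup G) ⊔ M) h2)
        ((le_sup_left : (P : Subgroup G) ≤ (P : Subgroup G) ⊔ M) (hP y hy))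
  have hconj : ∀ u ∈ M', g₀ * u * g₀⁻¹ * m₀ ∈ M' := fun u hu =>
    mul_mem (hM'.conj_mem u hu g₀) hm₀
  have hconj' : ∀ m ∈ M', g₀⁻¹ * m * m₀⁻¹ * g₀ ∈ M' := by
    intro m hm
    have h1 := hM'.conj_mem _ (mul_mem hm (inv_mem hm₀)) g₀⁻¹
    have h2 : g₀⁻¹ * (m * m₀⁻¹) * g₀⁻¹⁻¹ = g₀⁻¹ * m * m₀⁻¹ * g₀ := by group
    rwa [h2] at h1
  have hinv : ∀ m : G, g₀ * (g₀⁻¹ * m * m₀⁻¹ * g₀) * g₀⁻¹ * m₀ = m := by
    intro m; group
  refine Nat.card_congr ⟨fun m => ⟨g₀⁻¹ * m.1 * m₀⁻¹ * g₀, ?_⟩,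
    fun u => ⟨⟨g₀ * u.1 * g₀⁻¹ * m₀, hconj _ u.2.1⟩, ?_⟩, ?_, ?_⟩
  · refine (key _ (hconj' _ m.1.2)).mp ?_
    rw [hinv]
    exact m.2
  · exact (key _ u.2.1).mpr u.2
  · intro m
    apply Subtype.ext
    apply Subtype.ext
    simp only
    exact hinv _
  · intro u
    apply Subtype.ext
    simp only
    group

theorem cnt_coprime {M M' : Subgroup G} [hM : M.Normal] [hM' : M'.Normal] (hMM' : M ≤ M')
    (P : Sylow p G) (hr : (M.relIndex M').Coprime p) (H : Subgroup G) (hH : IsPGroup p H) :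
    cnt H ((P : Subgroup G) ⊔ M) * Nat.card M' =
      cnt H ((P : Subgroup G) ⊔ M') * Nat.card (relCent M M' H) := by
  let Ω' := {g : G // H.map (MulAut.conj g).toMonoidHom ≤ (P : Subgroup G) ⊔ M'}
  let Ω := {g : G // H.map (MulAut.conj g).toMonoidHom ≤ (P : Subgroup G) ⊔ M}
  let pairs := {x : G × M' // H.map (MulAut.conj x.1).toMonoidHom ≤ (P : Subgroup G) ⊔ M' ∧
    H.map (MulAut.conj ((x.2 : G) * x.1)).toMonoidHom ≤ (P : Subgroup G) ⊔ M}
  have h1 : Nat.card pairs = Nat.card Ω' * Nat.card (relCent M M' H) := by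
    refine card_of_fibers (fun x : pairs => (⟨x.1.1, x.2.1⟩ : Ω')) _ ?_
    rintro ⟨g, hg⟩
    rw [← count_fibre hMM' P hr H hH g hg]
    refine Nat.card_congr ⟨fun a => ⟨a.1.1.2, ?_⟩, fun m => ⟨⟨(g, m.1), hg, m.2⟩, rfl⟩, ?_, ?_⟩
    · have h := congrArg Subtype.val a.2
      simp only at h
      have h2 := a.1.2.2
      rwa [h] at h2
    · intro a
      apply Subtype.ext
      apply Subtype.ext
      have h := congrArg Subtype.val a.2
      simp only at h
      exact Prod.ext h.symm rfl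
    · intro m
      rfl
  have h2 : Nat.card pairs = Nat.card Ω * Nat.card M' := by
    rw [← Nat.card_prod]
    have hle : (P : Subgroup G) ⊔ M ≤ (P : Subgroup G) ⊔ M' := sup_le_sup_left hMM' _
    refine Nat.card_congr ⟨fun x => (⟨(x.1.2 : G) * x.1.1, x.2.2⟩, x.1.2), fun y => ⟨(y.2.1⁻¹ * y.1.1, y.2), ?_, ?_⟩, ?_, ?_⟩
    · rw [map_conj_le_iff]
      intro h hh
      have h3 := map_conj_le_iff.mp y.1.2 h hh
      have h4 := hle h3
      have hm : (y.2 : G) ∈ (P : Subgroup G) ⊔ M' := (le_sup_right : M' ≤ _) y.2.2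
      have h5 : y.2.1⁻¹ * y.1.1 * h * (y.2.1⁻¹ * y.1.1)⁻¹ = y.2.1⁻¹ * (y.1.1 * h * y.1.1⁻¹) * y.2.1⁻¹⁻¹ := by group
      rw [h5]
      exact mul_mem (mul_mem (inv_mem hm) h4) (inv_mem (inv_mem hm))
    · simp only [mul_inv_cancel_left]
      exact y.1.2
    · intro x
      apply Subtype.ext
      apply Prod.ext
      · simp
      · rfl
    · intro y
      apply Prod.ext
      · apply Subtype.ext
        simp
      · rfl
  have h3 : cnt H ((P : Subgroup G) ⊔ M) = Nat.card Ω := rfl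
  have h4 : cnt H ((P : Subgroup G) ⊔ M') = Nat.card Ω' := rfl
  rw [h3, h4, ← h1, h2]

theorem cnt_pow {M M' : Subgroup G} [hM : M.Normal] [hM' : M'.Normal] (hMM' : M ≤ M')
    (P : Sylow p G) {m : ℕ} (hr : M.relIndex M' = p ^ m) (H : Subgroup G) :
    cnt H ((P : Subgroup G) ⊔ M) = cnt H ((P : Subgroup G) ⊔ M') := by
  have h : (P : Subgroup G) ⊔ M = (P : Subgroup G) ⊔ M' :=
    le_antisymm (sup_le_sup_left hMM' _) (sup_le le_sup_left (le_sup_of_pow P hr))
  rw [h]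

theorem series (H : Subgroup G) (hH : IsPGroup p H) (P : Sylow p G) (n : ℕ) (N : ℕ → Subgroup G)
    (hN : ∀ i, (N i).Normal) (h0 : N 0 = ⊥) (hn : N n = ⊤) (hmono : ∀ i < n, N i ≤ N (i + 1))
    (hfac : ∀ i < n, (∃ m : ℕ, (N i).relIndex (N (i + 1)) = p ^ m) ∨
      ((N i).relIndex (N (i + 1))).Coprime p) :
    cnt H (P : Subgroup G) = Nat.card (P : Subgroup G) *
      ∏ i ∈ Finset.range n, (if ((N i).relIndex (N (i + 1))).Coprime p then
        Nat.card {u : G // u ∈ N (i + 1) ∧ ∀ h ∈ H, h * u * h⁻¹ * u⁻¹ ∈ N i} / Nat.card (N i)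
        else 1) := by
  classical
  haveI := hN
  set C : ℕ → Prop := fun i => ((N i).relIndex (N (i + 1))).Coprime p with hC
  set r : ℕ → ℕ := fun i => (N i).relIndex (N (i + 1)) with hr
  set c : ℕ → ℕ := fun i =>
    Nat.card {u : G // u ∈ N (i + 1) ∧ ∀ h ∈ H, h * u * h⁻¹ * u⁻¹ ∈ N i} / Nat.card (N i) with hc
  set A : ℕ → ℕ := fun k => ∏ i ∈ Finset.range k, (if C i then r i else 1) with hA
  set B : ℕ → ℕ := fun k => ∏ i ∈ Finset.range k, (if C i then 1 else r i) with hB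
  set D : ℕ → ℕ := fun k => ∏ i ∈ Finset.range k, (if C i then c i else 1) with hD
  have hcard : ∀ i < n, Nat.card (N i) * r i = Nat.card (N (i + 1)) := fun i hi =>
    Cfsg.Agent.Lib.OddLocal.card_mul_relIndex (hmono i hi)
  have hcent : ∀ i, Nat.card {u : G // u ∈ N (i + 1) ∧ ∀ h ∈ H, h * u * h⁻¹ * u⁻¹ ∈ N i} =
      Nat.card (relCent (N i) (N (i + 1)) H) := fun i => rfl
  have hcdiv : ∀ i < n, Nat.card (N i) * c i = Nat.card (relCent (N i) (N (i + 1)) H) := by
    intro i hi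
    have h1 := card_dvd_relCent (hmono i hi) H
    rw [hc]
    simp only [hcent]
    exact Nat.mul_div_cancel' h1
  have hone : ∀ k ≤ n, cnt H ((P : Subgroup G) ⊔ N 0) * A k = cnt H ((P : Subgroup G) ⊔ N k) * D k := by
    intro k
    induction' k with k ih
    · intro _
      simp [hA, hD]
    · intro hk
      have hkn : k < n := hk
      have ih' := ih hkn.le
      have hAs : A (k + 1) = A k * (if C k then r k else 1) := Finset.prod_range_succ _ _
      have hDs : D (k + 1) = D k * (if C k then c k else 1) := Finset.prod_range_succ _ _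
      rw [hAs, hDs]
      by_cases hCk : C k
      · rw [if_pos hCk, if_pos hCk]
        have h1 := cnt_coprime (hmono k hkn) P hCk H hH
        rw [← hcard k hkn, ← hcdiv k hkn] at h1
        have hpos : 0 < Nat.card (N k) := Nat.card_pos
        have h2 : cnt H ((P : Subgroup G) ⊔ N k) * r k = cnt H ((P : Subgroup G) ⊔ N (k + 1)) * c k := by
          apply Nat.eq_of_mul_eq_mul_left hpos
          linarith [h1]
        calc cnt H ((P : Subgroup G) ⊔ N 0) * (A k * r k)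
            = (cnt H ((P : Subgroup G) ⊔ N 0) * A k) * r k := by ring
          _ = cnt H ((P : Subgroup G) ⊔ N k) * D k * r k := by rw [ih']
          _ = (cnt H ((P : Subgroup G) ⊔ N k) * r k) * D k := by ring
          _ = cnt H ((P : Subgroup G) ⊔ N (k + 1)) * c k * D k := by rw [h2]
          _ = _ := by ring
      · rw [if_neg hCk, if_neg hCk, mul_one, mul_one, ih']
        obtain ⟨m, hm⟩ := (hfac k hkn).resolve_right hCk
        rw [cnt_pow (hmono k hkn) P hm H]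
  have htwo : ∀ k ≤ n, Nat.card (N k) = A k * B k := by
    intro k
    induction' k with k ih
    · intro _
      simp [hA, hB, h0]
    · intro hk
      have hkn : k < n := hk
      have hAs : A (k + 1) = A k * (if C k then r k else 1) := Finset.prod_range_succ _ _
      have hBs : B (k + 1) = B k * (if C k then 1 else r k) := Finset.prod_range_succ _ _
      rw [← hcard k hkn, ih hkn.le, hAs, hBs]
      by_cases hCk : C k
      · rw [if_pos hCk, if_pos hCk]; ring
      · rw [if_neg hCk, if_neg hCk]; ring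
  have hthree : ∀ k ≤ n, (∃ b, B k = p ^ b) ∧ (A k).Coprime p := by
    intro k
    induction' k with k ih
    · intro _
      exact ⟨⟨0, by simp [hB]⟩, by simp [hA]⟩
    · intro hk
      have hkn : k < n := hk
      obtain ⟨⟨b, hb⟩, hAk⟩ := ih hkn.le
      have hAs : A (k + 1) = A k * (if C k then r k else 1) := Finset.prod_range_succ _ _
      have hBs : B (k + 1) = B k * (if C k then 1 else r k) := Finset.prod_range_succ _ _
      rw [hAs, hBs]
      by_cases hCk : C k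
      · rw [if_pos hCk, if_pos hCk, mul_one]
        exact ⟨⟨b, hb⟩, Nat.Coprime.mul_left hAk hCk⟩
      · rw [if_neg hCk, if_neg hCk, mul_one]
        obtain ⟨m, hm⟩ := (hfac k hkn).resolve_right hCk
        refine ⟨⟨b + m, ?_⟩, hAk⟩
        rw [hb, pow_add]
        exact congrArg _ hm
  have h1 := hone n le_rfl
  rw [h0, hn, sup_bot_eq] at h1
  have htop : cnt H ((P : Subgroup G) ⊔ ⊤) = Nat.card G := by
    rw [sup_top_eq]
    exact Nat.card_congr (Equiv.subtypeUnivEquiv fun g => le_top)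
  rw [htop] at h1
  have h2 := htwo n le_rfl
  rw [hn, Subgroup.card_top] at h2
  obtain ⟨⟨b, hb⟩, hAn⟩ := hthree n le_rfl
  have hApos : 0 < A n := by
    have : A n ≠ 0 := by
      intro h
      rw [h] at h2
      have := Nat.card_pos (α := G)
      omega
    omega
  have h3 : cnt H (P : Subgroup G) = B n * D n := by
    apply Nat.eq_of_mul_eq_mul_right hApos
    rw [h1, h2]
    ring
  have h4 : Nat.card (P : Subgroup G) = B n := by
    rw [Sylow.card_eq_multiplicity P, h2, hb]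
    have hA0 : A n ≠ 0 := hApos.ne'
    have hp : p.Prime := Fact.out
    rw [Nat.factorization_mul hA0 (pow_ne_zero _ hp.ne_zero), Finsupp.add_apply,
      Nat.factorization_eq_zero_of_not_dvd (fun hd => hp.one_lt.ne' (Nat.Coprime.eq_one_of_dvd hAn.symm hd)),
      hp.factorization_pow, Finsupp.single_eq_same, zero_add]
  rw [h3, h4]

end Cfsg.Agent.Lib.PGroups.Subnormalizer
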