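import Cfsg.Agent.Lib.Char.Linear

/-!
# A degree/norm lemma for characters of a finite abelian group

Used for a character-theoretic count with a T.I. abelian subgroup.
-/

set_option autoImplicit false
set_option linter.unusedSectionVars false

namespace Cfsg.Agent.Lib.PGroups

open Cfsg Cfsg.Agent.Lib.Char ComplexConjugate

/-- Rounding the average: the combinatorial heart. -/
theorem int_pattern {ι : Type*} [Fintype ι] [DecidableEq ι] (m : ℕ) (hι : Fintype.card ι = m)
    (hm : 6 ≤ m) (n : ι → ℕ) :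
    (2 * (m : ℤ) - 4 ≤ m * ∑ i, ((n i : ℤ)) ^ 2 - (∑ i, (n i : ℤ)) ^ 2) ∨
      (∃ q : ℤ, ∀ i, (n i : ℤ) = q) ∨
      ∃ (q : ℤ) (i₀ : ι) (e : ℤ), (e = 1 ∨ e = -1) ∧ ∀ i, (n i : ℤ) = q + if i = i₀ then e else 0 := by
  classical
  set f : ℤ := ∑ i, (n i : ℤ) with hf
  set Q : ℤ := ∑ i, ((n i : ℤ)) ^ 2 with hQ
  have hm0 : (0 : ℤ) < m := by exact_mod_cast (by omega : 0 < m)
  -- rounding
  obtain ⟨q, r, hfq, hr1, hr2⟩ : ∃ q r : ℤ, f = q * m + r ∧ -(m : ℤ) ≤ 2 * r ∧ 2 * r ≤ m := by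
    have h1 := Int.emod_add_mul_ediv f m
    have h2 := Int.emod_nonneg f hm0.ne'
    have h3 := Int.emod_lt_of_pos f hm0
    by_cases hcase : 2 * (f % m) ≤ m
    · exact ⟨f / m, f % m, by linarith, by linarith, hcase⟩
    · exact ⟨f / m + 1, f % m - m, by linarith, by linarith, by linarith⟩
  let d : ι → ℤ := fun i => (n i : ℤ) - q
  have hcard : ∑ _i : ι, (1 : ℤ) = m := by simp [hι]
  have hdsum : ∑ i, d i = r := by
    simp only [d, Finset.sum_sub_distrib, Finset.sum_const, Finset.card_univ, hι]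
    rw [← hf, hfq]
    simp
    ring
  set D : ℤ := ∑ i, (d i) ^ 2 with hD
  have hQD : Q = D + 2 * q * r + m * q ^ 2 := by
    have h1 : ∀ i, ((n i : ℤ)) ^ 2 = (d i) ^ 2 + 2 * q * d i + q ^ 2 := by
      intro i
      simp only [d]
      ring
    rw [hQ, Finset.sum_congr rfl (fun i _ => h1 i), Finset.sum_add_distrib, Finset.sum_add_distrib,
      ← Finset.mul_sum, hdsum, Finset.sum_const, Finset.card_univ, hι, ← hD]
    simp
  have hmain : (m : ℤ) * Q - f ^ 2 = m * D - r ^ 2 := by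
    rw [hQD, hfq]
    ring
  have habs : |r| ≤ D := by
    rw [← hdsum]
    refine (Finset.abs_sum_le_sum_abs _ _).trans (Finset.sum_le_sum fun i _ => ?_)
    have h := d i
    rcases le_or_gt 0 (d i) with h0 | h0
    · rw [abs_of_nonneg h0]
      nlinarith [Int.le_self_sq (d i)]
    · rw [abs_of_neg h0]
      nlinarith
  have hD0 : 0 ≤ D := Finset.sum_nonneg fun i _ => sq_nonneg _
  by_cases hgood : 2 * (m : ℤ) - 4 ≤ m * Q - f ^ 2
  · exact Or.inl hgood
  right
  rw [hmain] at hgood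
  push Not at hgood
  have hm6 : (6 : ℤ) ≤ m := by exact_mod_cast hm
  have hrabs : |r| ≤ 1 := by
    by_contra hh
    push Not at hh
    have hr2' : 2 ≤ |r| := by omega
    have hr3 : 2 * |r| ≤ m := by
      rcases abs_cases r with ⟨h, _⟩ | ⟨h, _⟩ <;> rw [h] <;> linarith
    have h1 : r ^ 2 = |r| ^ 2 := (sq_abs r).symm
    have h2 : (m : ℤ) * |r| ≤ m * D := by
      apply mul_le_mul_of_nonneg_left habs hm0.le
    nlinarith
  have hr4 : r ^ 2 ≤ 1 := by
    have h1 : r ^ 2 = |r| ^ 2 := (sq_abs r).symm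
    have h2 : 0 ≤ |r| := abs_nonneg r
    nlinarith
  have hD2 : D ≤ 1 := by
    by_contra hh
    push Not at hh
    have h1 : 2 ≤ D := by omega
    nlinarith
  have hsq : ∀ i, (d i) ^ 2 ≤ D := fun i =>
    Finset.single_le_sum (f := fun i => (d i) ^ 2) (fun j _ => sq_nonneg _) (Finset.mem_univ i)
  have hD01 : D = 0 ∨ D = 1 := by omega
  rcases hD01 with h0 | h1
  · left
    refine ⟨q, fun i => ?_⟩
    have h2 := hsq i
    rw [h0] at h2
    have h3 : d i = 0 := by
      have := sq_nonneg (d i)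
      exact pow_eq_zero_iff (two_ne_zero) |>.mp (le_antisymm h2 this)
    simp only [d] at h3
    linarith
  · right
    obtain ⟨i₀, hi₀⟩ : ∃ i₀, d i₀ ≠ 0 := by
      by_contra hall
      push Not at hall
      have : D = 0 := by
        rw [hD]
        exact Finset.sum_eq_zero fun i _ => by rw [hall i]; norm_num
      omega
    have hpos : 1 ≤ (d i₀) ^ 2 := by
      have : 0 < (d i₀) ^ 2 := by positivity
      omega
    have hsplit : D = (d i₀) ^ 2 + ∑ i ∈ Finset.univ.erase i₀, (d i) ^ 2 := by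
      rw [hD]
      exact (Finset.add_sum_erase _ (fun i => d i ^ 2) (Finset.mem_univ i₀)).symm
    have hrest : ∑ i ∈ Finset.univ.erase i₀, (d i) ^ 2 = 0 := by
      have : 0 ≤ ∑ i ∈ Finset.univ.erase i₀, (d i) ^ 2 := Finset.sum_nonneg fun i _ => sq_nonneg _
      omega
    have hzero : ∀ i, i ≠ i₀ → d i = 0 := by
      intro i hi
      have h2 := (Finset.sum_eq_zero_iff_of_nonneg (fun j _ => sq_nonneg (d j))).mp hrest i
        (Finset.mem_erase.mpr ⟨hi, Finset.mem_univ i⟩)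
      exact pow_eq_zero_iff (two_ne_zero) |>.mp h2
    have hsqe : (d i₀) ^ 2 = 1 := by omega
    refine ⟨q, i₀, d i₀, ?_, fun i => ?_⟩
    · have h5 : (d i₀ - 1) * (d i₀ + 1) = 0 := by nlinarith
      rcases mul_eq_zero.mp h5 with h6 | h6
      · left; linarith
      · right; linarith
    · by_cases hi : i = i₀
      · subst hi
        simp [d]
      · rw [if_neg hi]
        have := hzero i hi
        simp only [d] at this
        linarith

theorem int_case1 (m f : ℤ) (hm : 6 ≤ m) (hf : 1 ≤ f) (E : f * (f + m * (m - 1)) = m ^ 2 - m + 1) :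
    f = 1 := by
  by_contra h
  have h2 : 2 ≤ f := by omega
  have h3 : 0 ≤ m * (m - 1) := by nlinarith
  nlinarith

theorem int_case2 (m f q : ℤ) (hm : 6 ≤ m) (hf : 1 ≤ f) (hfq : f = q * m - 1)
    (E : f * (f - m * (m - 1)) = m ^ 2 - m + 1) : False := by
  have h1 : (f - (m ^ 2 - m + 1)) * (f + 1) = 0 := by nlinarith
  have h2 : f - (m ^ 2 - m + 1) = 0 := by
    rcases mul_eq_zero.mp h1 with h | h
    · exact h
    · omega
  have h3 : m * (q - m + 1) = 2 := by nlinarith
  have h4 : q - m + 1 ≤ 0 ∨ 1 ≤ q - m + 1 := by omega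
  rcases h4 with h | h <;> nlinarith

theorem int_case3 (m f q : ℤ) (hm : 6 ≤ m) (hf : 1 ≤ f) (hfq : f = q * m + 1)
    (E : f * (f - m) = m ^ 2 - m + 1) : False := by
  subst hfq
  have h1 : m * (m * (q ^ 2 - q - 1) + 2 * q) = 0 := by nlinarith
  have h2 : m * (q ^ 2 - q - 1) + 2 * q = 0 := by
    rcases mul_eq_zero.mp h1 with h | h
    · omega
    · exact h
  have hq : 0 ≤ q := by
    by_contra h
    have : q ≤ -1 := by omega
    nlinarith
  have h3 : q = 0 ∨ q = 1 ∨ 2 ≤ q := by omega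
  rcases h3 with h | h | h
  · subst h; nlinarith
  · subst h; nlinarith
  · nlinarith

theorem int_case4 (m f q : ℤ) (hm : 6 ≤ m) (hf : 1 ≤ f) (hfq : f = q * m - 1)
    (E : f * (f + m) = m ^ 2 - m + 1) : False := by
  subst hfq
  have h1 : m * (m * (q ^ 2 + q - 1) - 2 * q) = 0 := by nlinarith
  have h2 : m * (q ^ 2 + q - 1) - 2 * q = 0 := by
    rcases mul_eq_zero.mp h1 with h | h
    · omega
    · exact h
  have hq : 1 ≤ q := by
    by_contra h
    have : q ≤ 0 := by omega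
    nlinarith
  have h3 : q = 1 ∨ 2 ≤ q := by omega
  rcases h3 with h | h
  · subst h; nlinarith
  · nlinarith

/-- **The norm bound.**  `C` abelian of order `m ≥ 6`, `h` a character of `C` of degree `f`, such that
`f (f + m A) = (m² - m + 1) τ²` where `A = ∑_{x ≠ 1} h x`, `τ = h t` for an involution `t`.  Then either
`h` is identically one, or `∑_{x ≠ 1} |h x|² ≥ 2 m - 4`. -/
theorem norm_bound_of_relation {C : Type*} [Group C] [Fintype C] [DecidableEq C]
    (hC : ∀ a b : C, a * b = b * a)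
    (m : ℕ) (hm : Nat.card C = m) (hm6 : 6 ≤ m) (h : C → ℂ) (hh : IsCharacter C h) (t : C)
    (ht : t * t = 1) (ht1 : t ≠ 1) (f : ℕ) (hf : h 1 = f) (hf0 : f ≠ 0)
    (hR : (f : ℂ) * ((f : ℂ) + m * ∑ x ∈ Finset.univ.erase (1 : C), h x) =
      ((m : ℂ) ^ 2 - m + 1) * (h t * h t)) :
    (∀ x, h x = 1) ∨ (2 * (m : ℝ) - 4 ≤ ∑ x ∈ Finset.univ.erase (1 : C), ‖h x‖ ^ 2) := by
  classical
  obtain ⟨n, hn⟩ := IsCharacter.exists_nat_coeffs hh
  have hdeg := (comm_iff_irr_degree_one (G := C)).mp hC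
  have hcardι : Fintype.card (IrrCharacter C) = m := by
    have h1 := sum_irr_degree_sq (G := C)
    simp only [hdeg, one_pow, Finset.sum_const, Finset.card_univ, nsmul_eq_mul, mul_one] at h1
    rw [← hm]
    exact_mod_cast h1
  have hval : ∀ x, h x = ∑ ψ : IrrCharacter C, (n ψ : ℂ) * (ψ : C → ℂ) x := by
    intro x
    rw [hn]
    simp
  have hcol : ∀ x : C, x ≠ 1 → ∑ ψ : IrrCharacter C, (ψ : C → ℂ) x = 0 := by
    intro x hx
    have h1 := sum_irr_degree_mul_apply x
    rw [if_neg hx] at h1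
    simpa [hdeg] using h1
  have horth : ∀ ψ ψ' : IrrCharacter C, ∑ x : C, (ψ : C → ℂ) x * conj ((ψ' : C → ℂ) x) =
      if ψ = ψ' then (m : ℂ) else 0 := by
    intro ψ ψ'
    have h1 := classInner_irr ψ.2 ψ'.2
    have hm0 : (m : ℂ) ≠ 0 := by exact_mod_cast (by omega : m ≠ 0)
    rw [classInner, hm] at h1
    have h2 : ∑ x : C, (ψ : C → ℂ) x * conj ((ψ' : C → ℂ) x) =
        (m : ℂ) * ((m : ℂ)⁻¹ * ∑ x : C, (ψ : C → ℂ) x * conj ((ψ' : C → ℂ) x)) := by
      rw [← mul_assoc, mul_inv_cancel₀ hm0, one_mul]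
    rw [h2, h1]
    by_cases he : ψ = ψ'
    · simp [he]
    · have : (ψ : C → ℂ) ≠ ψ' := fun h => he (Subtype.ext h)
      simp [he, this]
  -- the total norm
  have hnorm : ∑ x : C, h x * conj (h x) = (m : ℂ) * ∑ ψ : IrrCharacter C, (n ψ : ℂ) ^ 2 := by
    have h1 : ∀ x, h x * conj (h x) = ∑ ψ : IrrCharacter C, ∑ ψ' : IrrCharacter C,
        (n ψ : ℂ) * (n ψ' : ℂ) * ((ψ : C → ℂ) x * conj ((ψ' : C → ℂ) x)) := by
      intro x
      rw [hval x, map_sum, Finset.sum_mul_sum]
      refine Finset.sum_congr rfl fun ψ _ => Finset.sum_congr rfl fun ψ' _ => ?_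
      rw [map_mul, map_natCast]
      ring
    simp only [h1]
    rw [Finset.sum_comm]
    rw [Finset.mul_sum]
    refine Finset.sum_congr rfl fun ψ _ => ?_
    rw [Finset.sum_comm]
    simp only [← Finset.mul_sum, horth]
    rw [Finset.sum_eq_single ψ]
    · simp; ring
    · intro b _ hb
      simp [Ne.symm hb]
    · simp
  have hfn : (f : ℂ) = ∑ ψ : IrrCharacter C, (n ψ : ℂ) := by
    rw [← hf, hval 1]
    simp [hdeg]
  have hfz : (f : ℤ) = ∑ ψ : IrrCharacter C, (n ψ : ℤ) := by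
    have : (f : ℂ) = ((∑ ψ : IrrCharacter C, (n ψ : ℕ) : ℕ) : ℂ) := by
      rw [hfn]; push_cast; rfl
    have h2 : f = ∑ ψ : IrrCharacter C, n ψ := by exact_mod_cast this
    rw [h2]; push_cast; rfl
  -- the sum of squares over `x ≠ 1`
  have hS : (∑ x ∈ Finset.univ.erase (1 : C), ‖h x‖ ^ 2 : ℝ) =
      ((m * ∑ ψ : IrrCharacter C, (n ψ : ℤ) ^ 2 - (∑ ψ : IrrCharacter C, (n ψ : ℤ)) ^ 2 : ℤ) : ℝ) := by
    have h1 : ∑ x : C, ‖h x‖ ^ 2 = (m : ℝ) * ∑ ψ : IrrCharacter C, (n ψ : ℝ) ^ 2 := by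
      apply Complex.ofReal_injective
      push_cast
      simp only [← Complex.mul_conj', hnorm]
    rw [Finset.sum_erase_eq_sub (Finset.mem_univ (1 : C)), h1, hf, Complex.norm_natCast, ← hfz]
    push_cast
    rfl
  -- the values in the exceptional patterns
  have hsum1 : ∑ ψ : IrrCharacter C, (ψ : C → ℂ) 1 = (m : ℂ) := by
    simp [hdeg, hcardι]
  rcases int_pattern m hcardι hm6 n with h1 | ⟨q, hq⟩ | ⟨q, i₀, e, he, hqe⟩
  · right
    rw [hS]
    exact_mod_cast h1
  · exfalso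
    have hnq : ∀ ψ, (n ψ : ℂ) = (q : ℂ) := fun ψ => by exact_mod_cast hq ψ
    have hzero : ∀ x, x ≠ 1 → h x = 0 := by
      intro x hx
      rw [hval x]
      simp only [hnq]
      rw [← Finset.mul_sum, hcol x hx, mul_zero]
    rw [hzero t ht1, Finset.sum_eq_zero (fun x hx => hzero x (Finset.ne_of_mem_erase hx))] at hR
    simp at hR
    exact hf0 hR
  · left
    have hnq : ∀ ψ, (n ψ : ℂ) = (q : ℂ) + if ψ = i₀ then (e : ℂ) else 0 := by
      intro ψ
      have := hqe ψ
      by_cases hψ : ψ = i₀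
      · rw [if_pos hψ] at this ⊢
        exact_mod_cast this
      · rw [if_neg hψ] at this ⊢
        exact_mod_cast this
    have hx : ∀ x, h x = (q : ℂ) * (∑ ψ : IrrCharacter C, (ψ : C → ℂ) x) + e * (i₀ : C → ℂ) x := by
      intro x
      rw [hval x]
      simp only [hnq, add_mul, Finset.sum_add_distrib, ← Finset.mul_sum, ite_mul, zero_mul]
      rw [Finset.sum_ite_eq' Finset.univ i₀]
      simp
    have hx1 : ∀ x, x ≠ 1 → h x = e * (i₀ : C → ℂ) x := by
      intro x hx'
      rw [hx x, hcol x hx', mul_zero, zero_add]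
    have hfq : (f : ℤ) = q * m + e := by
      rw [hfz]
      simp only [hqe, Finset.sum_add_distrib, Finset.sum_const, Finset.card_univ, hcardι]
      rw [Finset.sum_ite_eq' Finset.univ i₀]
      simp [mul_comm]
    have hf1 : (1 : ℤ) ≤ f := by exact_mod_cast Nat.pos_of_ne_zero hf0
    have hm6' : (6 : ℤ) ≤ m := by exact_mod_cast hm6
    have hee : (e : ℂ) * e = 1 := by
      rcases he with rfl | rfl <;> simp
    obtain ⟨lam, hlam⟩ := IsCharacter.exists_monoidHom (IsIrrCharacter.isCharacter i₀.2) (hdeg i₀)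
    have hψt : (i₀ : C → ℂ) t * (i₀ : C → ℂ) t = 1 := by
      rw [hlam]
      show ((lam t : ℂˣ) : ℂ) * ((lam t : ℂˣ) : ℂ) = 1
      rw [← Units.val_mul, ← map_mul, ht, map_one, Units.val_one]
    have hτ : h t * h t = 1 := by
      rw [hx1 t ht1]
      calc (e : ℂ) * (i₀ : C → ℂ) t * (e * (i₀ : C → ℂ) t)
          = (e * e) * ((i₀ : C → ℂ) t * (i₀ : C → ℂ) t) := by ring
        _ = 1 := by rw [hee, hψt, one_mul]
    have hA : ∑ x ∈ Finset.univ.erase (1 : C), h x = e * (∑ x : C, (i₀ : C → ℂ) x - 1) := by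
      rw [Finset.sum_congr rfl (fun x hx' => hx1 x (Finset.ne_of_mem_erase hx')), ← Finset.mul_sum,
        Finset.sum_erase_eq_sub (Finset.mem_univ (1 : C)), hdeg i₀]
    let triv : IrrCharacter C := ⟨fun _ => 1, isIrrCharacter_one⟩
    have hsum : ∑ x : C, (i₀ : C → ℂ) x = if i₀ = triv then (m : ℂ) else 0 := by
      have := horth i₀ triv
      simpa [triv] using this
    by_cases htriv : i₀ = triv
    · rw [if_pos htriv] at hsum
      rw [hA, hsum, hτ, mul_one] at hR
      have hE : (f : ℤ) * ((f : ℤ) + m * (e * ((m : ℤ) - 1))) = (m : ℤ) ^ 2 - m + 1 := by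
        exact_mod_cast hR
      rcases he with he1 | he1
      · rw [he1] at hE hfq
        have hE' : (f : ℤ) * ((f : ℤ) + m * ((m : ℤ) - 1)) = (m : ℤ) ^ 2 - m + 1 := by
          rw [← hE]; ring
        have h5 := int_case1 m f hm6' hf1 hE'
        intro x
        have hq0 : q = 0 := by
          have h6 : q * (m : ℤ) = 0 := by omega
          rcases mul_eq_zero.mp h6 with h7 | h7
          · exact h7
          · omega
        have h8 : (q : ℂ) = 0 := by simp [hq0]
        have h9 : (i₀ : C → ℂ) x = 1 := by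
          rw [htriv]
        rw [hx x, h8, zero_mul, zero_add, h9, mul_one, he1]
        simp
      · rw [he1] at hE hfq
        exfalso
        refine int_case2 m f q hm6' hf1 (by rw [hfq]; ring) ?_
        rw [← hE]; ring
    · rw [if_neg htriv] at hsum
      exfalso
      rw [hA, hsum, hτ, mul_one] at hR
      have hE : (f : ℤ) * ((f : ℤ) + m * (e * (0 - 1))) = (m : ℤ) ^ 2 - m + 1 := by
        exact_mod_cast hR
      rcases he with he1 | he1
      · rw [he1] at hE hfq
        refine int_case3 m f q hm6' hf1 hfq ?_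
        rw [← hE]; ring
      · rw [he1] at hE hfq
        refine int_case4 m f q hm6' hf1 (by rw [hfq]; ring) ?_
        rw [← hE]; ring

end Cfsg.Agent.Lib.PGroups
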