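import Cfsg.Agent.Lib.PGroups.TIChar
import Cfsg.Agent.Lib.Char.ClassSum

/-!
# A character-theoretic contradiction for a T.I. abelian subgroup whose normalizer is a centralizer
of an involution, all involutions being conjugate and products of involutions lying in conjugates of
the subgroup.
-/

set_option autoImplicit false
set_option linter.unusedSectionVars false

namespace Cfsg.Agent.Lib.PGroups

open Cfsg Cfsg.Agent.Lib.Char ComplexConjugate

universe u

/-- The package of group-theoretic facts. -/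
structure TIData (G : Type u) [Group G] (C N : Subgroup G) (t : G) (m : ℕ) : Prop where
  hm6 : 6 ≤ m
  cardC : Nat.card C = m
  cardN : Nat.card N = 2 * m
  hCN : C ≤ N
  htC : t ∈ C
  ht2 : t * t = 1
  ht1 : t ≠ 1
  comm : ∀ x ∈ C, ∀ y ∈ C, x * y = y * x
  invol : ∀ x ∈ C, x * x = 1 → x = 1 ∨ x = t
  centr : ∀ g : G, g * t = t * g ↔ g ∈ N
  ti : ∀ g : G, ∀ x ∈ C, x ≠ 1 → g * x * g⁻¹ ∈ C → g ∈ N
  nnorm : ∀ g ∈ N, ∀ x ∈ C, g * x * g⁻¹ ∈ C
  ninv : ∀ z ∈ N, z ∉ C → ∀ x ∈ C, z * x * z⁻¹ = x⁻¹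
  nsq : ∀ z ∈ N, z ∉ C → z * z = 1
  allconj : ∀ a : G, a * a = 1 → a ≠ 1 → IsConj t a
  prod : ∀ a b : G, a * a = 1 → b * b = 1 → a ≠ 1 → b ≠ 1 → a ≠ b → ∃ g : G, g⁻¹ * (a * b) * g ∈ C
  simple : ∀ L : Subgroup G, L.Normal → L = ⊥ ∨ L = ⊤

namespace TIData

open scoped Classical

variable {G : Type u} [Group G] [Fintype G] {C N : Subgroup G} {t : G} {m : ℕ}
variable (D : TIData G C N t m)

/-- The class of the involution as a finset. -/
noncomputable def K (t : G) : Finset G := by
  classical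
  exact Finset.univ.filter (fun a => IsConj t a)

include D

theorem mem_K {a : G} : a ∈ K t ↔ IsConj t a := by
  classical
  simp [K]

theorem mem_K' {a : G} : a ∈ K t ↔ a * a = 1 ∧ a ≠ 1 := by
  classical
  rw [D.mem_K]
  constructor
  · intro h
    obtain ⟨c, hc⟩ := isConj_iff.mp h
    rw [← hc]
    constructor
    · have : c * t * c⁻¹ * (c * t * c⁻¹) = c * (t * t) * c⁻¹ := by group
      rw [this, D.ht2]
      group
    · intro h1
      apply D.ht1
      have : t = c⁻¹ * (c * t * c⁻¹) * c := by group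
      rw [this, h1]
      group
  · rintro ⟨h1, h2⟩
    exact D.allconj a h1 h2

theorem centralizer_t : Subgroup.centralizer ({t} : Set G) = N := by
  ext g
  rw [Subgroup.mem_centralizer_singleton_iff, D.centr]

theorem card_K_mul : (K t).card * (2 * m) = Nat.card G := by
  classical
  have h := card_conj_mul_card_centralizer t
  rw [D.centralizer_t, D.cardN] at h
  rw [← h]
  congr 1
  rw [Nat.card_eq_fintype_card, Fintype.card_subtype]
  rfl

theorem K_conj {a : G} (h : a ∈ K t) (g : G) : g * a * g⁻¹ ∈ K t := by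
  rw [D.mem_K] at h ⊢
  exact h.trans (isConj_iff.mpr ⟨g, rfl⟩)

/-- number of ways of writing `x` as a product of two involutions -/
noncomputable def nu (t x : G) : ℕ := ((K t).filter (fun a => a * x ∈ K t)).card

/-- the number of conjugates of `C` containing `x`, times `|N|` -/
noncomputable def ww (C : Subgroup G) (x : G) : ℕ := (Finset.univ.filter (fun g : G => g⁻¹ * x * g ∈ C)).card

omit D in
theorem nu_one : nu t 1 = (K t).card := by
  unfold nu
  congr 1
  exact Finset.filter_true_of_mem (fun a ha => by simpa using ha)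

omit D in
theorem card_filter_subgroup (H : Subgroup G) :
    (Finset.univ.filter (fun g : G => g ∈ H)).card = Nat.card H := by
  rw [Nat.card_eq_fintype_card, Fintype.card_subtype]

theorem nu_of_mem {x : G} (hx : x ∈ C) (hx1 : x ≠ 1) : nu t x = m := by
  have hset : (K t).filter (fun a => a * x ∈ K t) =
      Finset.univ.filter (fun a : G => a ∈ N) \ Finset.univ.filter (fun a : G => a ∈ C) := by
    ext a
    simp only [Finset.mem_filter, Finset.mem_sdiff, Finset.mem_univ, true_and, not_and]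
    constructor
    · rintro ⟨ha, hax⟩
      obtain ⟨ha1, ha2⟩ := (D.mem_K').mp ha
      obtain ⟨hb1, hb2⟩ := (D.mem_K').mp hax
      have hainv : a⁻¹ = a := inv_eq_of_mul_eq_one_left ha1
      have h1 : a * x * a⁻¹ = x⁻¹ := by
        rw [hainv]
        have h2 : a * x * (a * x) = 1 := hb1
        calc a * x * a = x⁻¹ * (x * (a * x * a)) := by group
          _ = x⁻¹ * ((x * a) * (x * a)) := by group
          _ = x⁻¹ * (x * (a * x * (a * x)) * x⁻¹) := by group
          _ = x⁻¹ := by rw [h2]; group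
      have haN : a ∈ N := D.ti a x hx hx1 (by rw [h1]; exact inv_mem hx)
      refine ⟨haN, fun haC => ?_⟩
      rcases D.invol a haC ha1 with h | h
      · exact ha2 h
      · subst h
        have h3 : x * x = 1 := by
          have h4 := D.comm a haC x hx
          have h5 : a * x * (a * x) = 1 := hb1
          calc x * x = (a * a) * (x * x) := by rw [ha1, one_mul]
            _ = a * (a * x) * x := by group
            _ = a * (x * a) * x := by rw [h4]
            _ = a * x * (a * x) := by group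
            _ = 1 := h5
        rcases D.invol x hx h3 with h6 | h6
        · exact hx1 h6
        · subst h6
          exact hb2 ha1
    · rintro ⟨haN, haC⟩
      have haC' : a ∉ C := haC
      have h1 : a ∈ K t := (D.mem_K').mpr ⟨D.nsq a haN haC', fun h => haC' (h ▸ one_mem C)⟩
      refine ⟨h1, ?_⟩
      have hax : a * x ∈ N := N.mul_mem haN (D.hCN hx)
      have haxC : a * x ∉ C := fun h => haC' (by
        have := C.mul_mem h (C.inv_mem hx)
        simpa using this)
      exact (D.mem_K').mpr ⟨D.nsq _ hax haxC, fun h => haxC (h ▸ one_mem C)⟩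
  unfold nu
  rw [hset, Finset.card_sdiff_of_subset, card_filter_subgroup, card_filter_subgroup, D.cardN, D.cardC]
  · omega
  · intro a ha
    simp only [Finset.mem_filter, Finset.mem_univ, true_and] at ha ⊢
    exact D.hCN ha

theorem nu_conj (g x : G) : nu t (g * x * g⁻¹) = nu t x := by
  unfold nu
  refine Finset.card_bij (fun a _ => g⁻¹ * a * g) ?_ ?_ ?_
  · intro a ha
    obtain ⟨h1, h2⟩ := Finset.mem_filter.mp ha
    refine Finset.mem_filter.mpr ⟨?_, ?_⟩
    · simpa using D.K_conj h1 g⁻¹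
    · have h3 := D.K_conj h2 g⁻¹
      have h4 : g⁻¹ * (a * (g * x * g⁻¹)) * g⁻¹⁻¹ = g⁻¹ * a * g * x := by group
      rwa [h4] at h3
  · intro a _ b _ h
    have h1 : g⁻¹ * a = g⁻¹ * b := mul_right_cancel h
    exact mul_left_cancel h1
  · intro a ha
    obtain ⟨h1, h2⟩ := Finset.mem_filter.mp ha
    refine ⟨g * a * g⁻¹, Finset.mem_filter.mpr ⟨D.K_conj h1 g, ?_⟩, by group⟩
    have h3 := D.K_conj h2 g
    have h4 : g * (a * x) * g⁻¹ = g * a * g⁻¹ * (g * x * g⁻¹) := by group
    rwa [h4] at h3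

theorem nu_zero {x : G} (hx1 : x ≠ 1) (hx : ∀ g : G, g⁻¹ * x * g ∉ C) : nu t x = 0 := by
  unfold nu
  rw [Finset.card_eq_zero, Finset.filter_eq_empty_iff]
  intro a ha hax
  obtain ⟨ha1, ha2⟩ := (D.mem_K').mp ha
  obtain ⟨hb1, hb2⟩ := (D.mem_K').mp hax
  have hne : a ≠ a * x := fun h => hx1 (by
    have : a * 1 = a * x := by rw [mul_one]; exact h
    exact (mul_left_cancel this).symm)
  obtain ⟨g, hg⟩ := D.prod a (a * x) ha1 hb1 ha2 hb2 hne
  have h3 : a * (a * x) = x := by rw [← mul_assoc, ha1, one_mul]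
  rw [h3] at hg
  exact hx g hg

theorem ww_of_mem {x : G} (hx : x ∈ C) (hx1 : x ≠ 1) : ww C x = 2 * m := by
  unfold ww
  have hset : Finset.univ.filter (fun g : G => g⁻¹ * x * g ∈ C) =
      Finset.univ.filter (fun g : G => g ∈ N) := by
    ext g
    simp only [Finset.mem_filter, Finset.mem_univ, true_and]
    constructor
    · intro h
      have h1 := D.ti g⁻¹ x hx hx1 (by simpa using h)
      simpa using N.inv_mem h1
    · intro h
      have h1 := D.nnorm g⁻¹ (N.inv_mem h) x hx
      simpa using h1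
  rw [hset, card_filter_subgroup, D.cardN]

omit D in
theorem ww_conj (g x : G) : ww C (g * x * g⁻¹) = ww C x := by
  unfold ww
  refine Finset.card_bij (fun a _ => g⁻¹ * a) ?_ ?_ ?_
  · intro a ha
    have h1 := (Finset.mem_filter.mp ha).2
    refine Finset.mem_filter.mpr ⟨Finset.mem_univ _, ?_⟩
    have h2 : (g⁻¹ * a)⁻¹ * x * (g⁻¹ * a) = a⁻¹ * (g * x * g⁻¹) * a := by group
    rwa [h2]
  · intro a _ b _ h
    exact mul_left_cancel h
  · intro a ha
    have h1 := (Finset.mem_filter.mp ha).2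
    refine ⟨g * a, Finset.mem_filter.mpr ⟨Finset.mem_univ _, ?_⟩, by group⟩
    have h2 : (g * a)⁻¹ * (g * x * g⁻¹) * (g * a) = a⁻¹ * x * a := by group
    rwa [h2]

theorem ww_eq_two_mul_nu {x : G} (hx1 : x ≠ 1) : ww C x = 2 * nu t x := by
  by_cases h : ∃ g : G, g⁻¹ * x * g ∈ C
  · obtain ⟨g, hg⟩ := h
    have hx0 : g⁻¹ * x * g ≠ 1 := by
      intro h
      apply hx1
      have : x = g * (g⁻¹ * x * g) * g⁻¹ := by group
      rw [this, h]
      group
    have hx' : x = g * (g⁻¹ * x * g) * g⁻¹ := by group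
    rw [hx', ww_conj, D.nu_conj, D.ww_of_mem hg hx0, D.nu_of_mem hg hx0]
  · push Not at h
    rw [D.nu_zero hx1 h]
    unfold ww
    simp [Finset.filter_eq_empty_iff, h]

/-- the sum over nonidentity elements of `C` -/
noncomputable def aSum (C : Subgroup G) (F : G → ℂ) : ℂ :=
  ∑ x ∈ Finset.univ.filter (fun x : G => x ∈ C ∧ x ≠ 1), F x

omit D in
theorem sum_ww (F : G → ℂ) (hF : IsClassFunction G F) :
    ∑ x ∈ Finset.univ.erase (1 : G), (ww C x : ℂ) * F x = (Nat.card G : ℂ) * aSum C F := by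
  have h1 : ∀ x, (ww C x : ℂ) = ∑ g : G, if g⁻¹ * x * g ∈ C then (1 : ℂ) else 0 := by
    intro x
    unfold ww
    rw [Finset.sum_boole]
  have hA : aSum C F = ∑ a ∈ Finset.univ.erase (1 : G), if a ∈ C then F a else 0 := by
    unfold aSum
    rw [← Finset.sum_filter]
    congr 1
    ext a
    simp [and_comm]
  have h2 : ∀ g : G, ∑ x ∈ Finset.univ.erase (1 : G), (if g⁻¹ * x * g ∈ C then (1 : ℂ) else 0) * F x =
      aSum C F := by
    intro g
    rw [hA]
    have h3 : ∀ x : G, (if g⁻¹ * x * g ∈ C then (1 : ℂ) else 0) * F x =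
        if g⁻¹ * x * g ∈ C then F (g⁻¹ * x * g) else 0 := by
      intro x
      split_ifs
      · rw [one_mul]
        have := hF x g⁻¹
        simpa using this.symm
      · rw [zero_mul]
    simp only [h3]
    refine Finset.sum_bij (fun x _ => g⁻¹ * x * g) ?_ ?_ ?_ ?_
    · intro x hx
      refine Finset.mem_erase.mpr ⟨?_, Finset.mem_univ _⟩
      intro h
      apply Finset.ne_of_mem_erase hx
      have : x = g * (g⁻¹ * x * g) * g⁻¹ := by group
      rw [this, h]
      group
    · intro a _ b _ h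
      have h4 : g⁻¹ * a = g⁻¹ * b := mul_right_cancel h
      exact mul_left_cancel h4
    · intro b hb
      refine ⟨g * b * g⁻¹, Finset.mem_erase.mpr ⟨?_, Finset.mem_univ _⟩, by group⟩
      intro h
      apply Finset.ne_of_mem_erase hb
      have : b = g⁻¹ * (g * b * g⁻¹) * g := by group
      rw [this, h]
      group
    · intro x _
      rfl
  simp only [h1, Finset.sum_mul]
  rw [Finset.sum_comm]
  simp only [h2]
  rw [Finset.sum_const, Finset.card_univ, Nat.card_eq_fintype_card, nsmul_eq_mul]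

theorem sum_pairs (F : G → ℂ) :
    ∑ a ∈ K t, ∑ b ∈ K t, F (a * b) = ∑ x : G, (nu t x : ℂ) * F x := by
  have h1 : ∀ a ∈ K t, ∑ b ∈ K t, F (a * b) =
      ∑ x : G, (if a * x ∈ K t then (1 : ℂ) else 0) * F x := by
    intro a ha
    have hainv : a⁻¹ = a := inv_eq_of_mul_eq_one_left ((D.mem_K').mp ha).1
    have h2 : ∀ x : G, (if a * x ∈ K t then (1 : ℂ) else 0) * F x =
        if a * x ∈ K t then F x else 0 := by
      intro x
      split_ifs <;> simp
    simp only [h2]
    rw [← Finset.sum_filter]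
    refine Finset.sum_bij (fun b _ => a⁻¹ * b) ?_ ?_ ?_ ?_
    · intro b hb
      simpa using hb
    · intro b _ c _ h
      exact mul_left_cancel h
    · intro x hx
      refine ⟨a * x, (Finset.mem_filter.mp hx).2, by group⟩
    · intro b _
      rw [hainv]
  rw [Finset.sum_congr rfl h1, Finset.sum_comm]
  refine Finset.sum_congr rfl fun x _ => ?_
  rw [← Finset.sum_mul]
  congr 1
  unfold nu
  rw [Finset.sum_boole]

theorem sum_pairs_eq (F : G → ℂ) (hF : IsClassFunction G F) :
    ∑ a ∈ K t, ∑ b ∈ K t, F (a * b) = ((K t).card : ℂ) * (F 1 + m * aSum C F) := by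
  rw [D.sum_pairs, ← Finset.add_sum_erase _ _ (Finset.mem_univ (1 : G)), nu_one]
  have h1 := sum_ww (C := C) F hF
  have h2 : ∑ x ∈ Finset.univ.erase (1 : G), (ww C x : ℂ) * F x =
      2 * ∑ x ∈ Finset.univ.erase (1 : G), (nu t x : ℂ) * F x := by
    rw [Finset.mul_sum]
    refine Finset.sum_congr rfl fun x hx => ?_
    rw [D.ww_eq_two_mul_nu (Finset.ne_of_mem_erase hx)]
    push_cast
    ring
  rw [h2, ← D.card_K_mul] at h1
  push_cast at h1
  have h3 : ∑ x ∈ Finset.univ.erase (1 : G), (nu t x : ℂ) * F x = (K t).card * (m * aSum C F) := by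
    have h4 : (2 : ℂ) ≠ 0 := two_ne_zero
    apply mul_left_cancel₀ h4
    rw [h1]
    ring
  rw [h3]
  ring

theorem card_filter_C : (Finset.univ.filter (fun x : G => x ∈ C ∧ x ≠ 1)).card = m - 1 := by
  have h1 : Finset.univ.filter (fun x : G => x ∈ C ∧ x ≠ 1) =
      (Finset.univ.filter (fun x : G => x ∈ C)).erase 1 := by
    ext x
    simp [and_comm]
  rw [h1, Finset.card_erase_of_mem (by simp [one_mem]), card_filter_subgroup, D.cardC]

theorem t_mem_K : t ∈ K t := (D.mem_K).mpr (IsConj.refl t)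

theorem card_K_eq : ((K t).card : ℤ) = (m : ℤ) ^ 2 - m + 1 := by
  have h1 := D.sum_pairs_eq (fun _ => (1 : ℂ)) (fun _ _ => rfl)
  have h2 : aSum C (fun _ => (1 : ℂ)) = ((m - 1 : ℕ) : ℂ) := by
    unfold aSum
    rw [Finset.sum_const, D.card_filter_C]
    simp
  rw [h2] at h1
  simp only [Finset.sum_const, nsmul_eq_mul, mul_one] at h1
  have hm1 : 1 ≤ m := by have := D.hm6; omega
  have h3 : ((K t).card : ℂ) ≠ 0 := by
    exact_mod_cast (Finset.card_pos.mpr ⟨t, D.t_mem_K⟩).ne'
  have h4 := mul_left_cancel₀ h3 h1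
  have h5 : (((K t).card : ℤ) : ℂ) = (((m : ℤ) ^ 2 - m + 1 : ℤ) : ℂ) := by
    push_cast at h4 ⊢
    rw [h4, Nat.cast_sub hm1]
    push_cast
    ring
  exact_mod_cast h5

/-- The class-sum relation. -/
theorem relation {χ : G → ℂ} (hχ : IsIrrCharacter G χ) :
    χ 1 * (χ 1 + m * aSum C χ) = ((m : ℂ) ^ 2 - m + 1) * (χ t * χ t) := by
  have hcl := IsCharacter.isClassFunction (IsIrrCharacter.isCharacter hχ)
  have h1 := D.sum_pairs_eq χ hcl
  have hKc : (((K t).card : ℤ) : ℂ) = (((m : ℤ) ^ 2 - m + 1 : ℤ) : ℂ) := by rw [D.card_K_eq]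
  have hKc' : ((K t).card : ℂ) = (m : ℂ) ^ 2 - m + 1 := by
    push_cast at hKc
    exact hKc
  have h0 : ((K t).card : ℂ) ≠ 0 := by
    exact_mod_cast (Finset.card_pos.mpr ⟨t, D.t_mem_K⟩).ne'
  have h2 : ∀ z ∈ K t, χ 1 * ∑ x ∈ K t, χ (x * z) = ((K t).card : ℂ) * (χ t * χ t) := by
    intro z hz
    have h3 := IsIrrCharacter.sum_class_mul hχ t z
    have h4 : ∑ x ∈ K t, χ (x * z) = ∑ x : {x : G // IsConj t x}, χ (x * z) :=
      Finset.sum_subtype (K t) (fun x => D.mem_K) (fun x => χ (x * z))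
    have h5 : Nat.card {x : G // IsConj t x} = (K t).card := by
      rw [Nat.card_eq_fintype_card, Fintype.card_subtype]
      rfl
    have h6 : χ z = χ t := IsClassFunction.congr_isConj hcl ((D.mem_K).mp hz).symm
    rw [h4, h3, h5, h6]
    ring
  have h3 : χ 1 * ∑ z ∈ K t, ∑ x ∈ K t, χ (x * z) = ((K t).card : ℂ) * (((K t).card : ℂ) * (χ t * χ t)) := by
    rw [Finset.mul_sum, Finset.sum_congr rfl h2, Finset.sum_const, nsmul_eq_mul]
  rw [Finset.sum_comm, h1] at h3
  apply mul_left_cancel₀ h0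
  rw [hKc'] at h3 ⊢
  linear_combination h3

omit D in
theorem sum_erase_subtype {β : Type*} [AddCommMonoid β] (F : G → β) :
    ∑ x ∈ Finset.univ.erase (1 : C), F x =
      ∑ x ∈ Finset.univ.filter (fun x : G => x ∈ C ∧ x ≠ 1), F x := by
  refine Finset.sum_bij (fun x _ => (x : G)) ?_ ?_ ?_ ?_
  · intro x hx
    refine Finset.mem_filter.mpr ⟨Finset.mem_univ _, x.2, fun h => ?_⟩
    exact (Finset.ne_of_mem_erase hx) (Subtype.ext h)
  · intro a _ b _ h
    exact Subtype.ext h
  · intro b hb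
    obtain ⟨-, h1, h2⟩ := Finset.mem_filter.mp hb
    exact ⟨⟨b, h1⟩, Finset.mem_erase.mpr ⟨fun h => h2 (congrArg Subtype.val h), Finset.mem_univ _⟩, rfl⟩
  · intro _ _
    rfl

/-- The norm on `C` of a nontrivial irreducible character is large. -/
theorem norm_large {χ : G → ℂ} (hχ : IsIrrCharacter G χ) (hne : χ ≠ fun _ => 1) :
    2 * (m : ℝ) - 4 ≤ ∑ x ∈ Finset.univ.filter (fun x : G => x ∈ C ∧ x ≠ 1), ‖χ x‖ ^ 2 := by
  obtain ⟨f, hf⟩ := IsCharacter.apply_one (IsIrrCharacter.isCharacter hχ)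
  have hf0 : f ≠ 0 := by
    intro h
    apply IsIrrCharacter.apply_one_ne_zero hχ
    rw [hf, h]
    simp
  have hR := D.relation hχ
  have hC : ∀ a b : C, a * b = b * a := fun a b => Subtype.ext (D.comm a a.2 b b.2)
  have hrel : (f : ℂ) * ((f : ℂ) + m * ∑ x ∈ Finset.univ.erase (1 : C), χ x) =
      ((m : ℂ) ^ 2 - m + 1) * (χ t * χ t) := by
    rw [sum_erase_subtype χ, ← hf]
    exact hR
  have h1 := norm_bound_of_relation hC m D.cardC D.hm6 (fun x : C => χ x)
    (IsCharacter.comp (IsIrrCharacter.isCharacter hχ) C.subtype) ⟨t, D.htC⟩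
    (Subtype.ext D.ht2) (fun h => D.ht1 (congrArg Subtype.val h)) f hf hf0 hrel
  rcases h1 with h1 | h1
  · exfalso
    apply hne
    have h2 : χ 1 = 1 := h1 1
    obtain ⟨lam, hlam⟩ := IsCharacter.exists_monoidHom (IsIrrCharacter.isCharacter hχ) h2
    have h3 : lam t = 1 := by
      apply Units.ext
      have : χ t = 1 := h1 ⟨t, D.htC⟩
      rw [hlam] at this
      exact this
    have h4 : t ∈ lam.ker := h3
    rcases D.simple lam.ker inferInstance with h5 | h5
    · rw [h5] at h4
      exact absurd (Subgroup.mem_bot.mp h4) D.ht1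
    · funext g
      have h6 : g ∈ lam.ker := by rw [h5]; trivial
      have h7 : lam g = 1 := h6
      rw [hlam]
      show ((lam g : ℂˣ) : ℂ) = 1
      rw [h7, Units.val_one]
  · have h8 := sum_erase_subtype (C := C) (fun x : G => ‖χ x‖ ^ 2)
    rw [← h8]
    exact h1

theorem centralizer_of_mem {x : G} (hx : x ∈ C) (hx1 : x ≠ 1) (hxt : x ≠ t) :
    Subgroup.centralizer ({x} : Set G) = C := by
  ext g
  rw [Subgroup.mem_centralizer_singleton_iff]
  constructor
  · intro h
    have h1 : g * x * g⁻¹ = x := by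
      rw [h]
      group
    have h2 : g ∈ N := D.ti g x hx hx1 (by rw [h1]; exact hx)
    by_contra hg
    have h3 := D.ninv g h2 hg x hx
    rw [h1] at h3
    have h4 : x * x = 1 := by
      nth_rewrite 1 [h3]
      group
    rcases D.invol x hx h4 with h5 | h5
    · exact hx1 h5
    · exact hxt h5
  · intro h
    exact D.comm g h x hx

/-- Second orthogonality summed over `C`. -/
theorem sum_norm_all :
    ∑ χ : IrrCharacter G, ∑ x ∈ Finset.univ.filter (fun x : G => x ∈ C ∧ x ≠ 1),
      ‖(χ : G → ℂ) x‖ ^ 2 = (m : ℝ) ^ 2 := by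
  rw [Finset.sum_comm]
  have h1 : ∀ x : G, ∑ χ : IrrCharacter G, ‖(χ : G → ℂ) x‖ ^ 2 =
      (Nat.card (Subgroup.centralizer ({x} : Set G)) : ℝ) := by
    intro x
    have h2 := sum_irr_mul_conj_of_isConj (IsConj.refl x)
    apply Complex.ofReal_injective
    push_cast
    rw [← h2]
    refine Finset.sum_congr rfl fun χ _ => ?_
    rw [Complex.mul_conj']
  simp only [h1]
  have h3 : ∀ x ∈ Finset.univ.filter (fun x : G => x ∈ C ∧ x ≠ 1),
      (Nat.card (Subgroup.centralizer ({x} : Set G)) : ℝ) = (m : ℝ) + if x = t then (m : ℝ) else 0 := by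
    intro x hx
    obtain ⟨-, h4, h5⟩ := Finset.mem_filter.mp hx
    by_cases hxt : x = t
    · subst hxt
      rw [D.centralizer_t, D.cardN, if_pos rfl]
      push_cast
      ring
    · rw [D.centralizer_of_mem h4 h5 hxt, D.cardC, if_neg hxt, add_zero]
  rw [Finset.sum_congr rfl h3, Finset.sum_add_distrib, Finset.sum_const, D.card_filter_C,
    Finset.sum_ite_eq']
  have htm : t ∈ Finset.univ.filter (fun x : G => x ∈ C ∧ x ≠ 1) :=
    Finset.mem_filter.mpr ⟨Finset.mem_univ _, D.htC, D.ht1⟩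
  rw [if_pos htm, nsmul_eq_mul]
  have hm1 : 1 ≤ m := by have := D.hm6; omega
  rw [Nat.cast_sub hm1]
  push_cast
  ring

/-- There are at least `m / 2 + 2` conjugacy classes. -/
theorem card_classes : m + 4 ≤ 2 * Nat.card (ConjClasses G) := by
  have hm6 := D.hm6
  -- an element outside all conjugates of `C`
  have hKc := D.card_K_eq
  have hK1 : (K t).card ≠ 1 := by
    intro h
    rw [h] at hKc
    push_cast at hKc
    have h6 : (6 : ℤ) ≤ m := by exact_mod_cast hm6
    nlinarith
  obtain ⟨y, hy⟩ : ∃ y : G, ∀ x ∈ C, ¬ IsConj y x := by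
    obtain ⟨r, hr, hrd⟩ := Nat.exists_prime_and_dvd hK1
    haveI : Fact r.Prime := ⟨hr⟩
    have hdG : r ∣ Nat.card G := by
      rw [← D.card_K_mul]
      exact hrd.trans (Nat.dvd_mul_right _ _)
    obtain ⟨y, hyo⟩ := exists_prime_orderOf_dvd_card' r hdG
    refine ⟨y, fun x hx hc => ?_⟩
    have h1 : orderOf y = orderOf x := by
      obtain ⟨c, rfl⟩ := isConj_iff.mp hc
      rw [← MulAut.conj_apply, MulEquiv.orderOf_eq]
    have h2 : orderOf x ∣ m := by
      rw [← D.cardC]
      have := Subgroup.orderOf_dvd_natCard C hx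
      exact this
    have h3 : r ∣ m := by rw [← hyo, h1]; exact h2
    have h4 : (r : ℤ) ∣ (K t).card := by exact_mod_cast hrd
    have h5 : (r : ℤ) ∣ m := by exact_mod_cast h3
    rw [hKc] at h4
    have h6 : (r : ℤ) ∣ 1 := by
      have h7 : (1 : ℤ) = ((m : ℤ) ^ 2 - m + 1) - m * (m - 1) := by ring
      rw [h7]
      exact dvd_sub h4 (h5.mul_right _)
    have h8 : r ∣ 1 := by exact_mod_cast h6
    exact hr.one_lt.ne' (Nat.dvd_one.mp h8)
  have hfinCC : Finite (ConjClasses G) := inferInstance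
  haveI := Fintype.ofFinite (ConjClasses G)
  let s : Finset G := Finset.univ.filter (fun x : G => x ∈ C ∧ x ≠ 1 ∧ x ≠ t)
  have hscard : s.card = m - 2 := by
    have h1 : s = (Finset.univ.filter (fun x : G => x ∈ C ∧ x ≠ 1)).erase t := by
      ext x
      simp only [s, Finset.mem_filter, Finset.mem_erase, Finset.mem_univ, true_and]
      tauto
    rw [h1, Finset.card_erase_of_mem (Finset.mem_filter.mpr ⟨Finset.mem_univ _, D.htC, D.ht1⟩),
      D.card_filter_C]
    omega
  let cc : G → ConjClasses G := ConjClasses.mk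
  let T : Finset (ConjClasses G) := s.image cc
  have hTbound : s.card ≤ 2 * T.card := by
    refine Finset.card_le_mul_card_image s 2 ?_
    intro c hc
    obtain ⟨x, hx, rfl⟩ := Finset.mem_image.mp hc
    have hsub : s.filter (fun y => cc y = cc x) ⊆ {x, x⁻¹} := by
      intro y hy
      obtain ⟨hy1, hy2⟩ := Finset.mem_filter.mp hy
      obtain ⟨-, hyC, hy1', -⟩ := Finset.mem_filter.mp hy1
      obtain ⟨-, hxC, hx1, -⟩ := Finset.mem_filter.mp hx
      have hc' : IsConj x y := (ConjClasses.mk_eq_mk_iff_isConj).mp hy2.symm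
      obtain ⟨g, rfl⟩ := isConj_iff.mp hc'
      have hgN : g ∈ N := D.ti g x hxC hx1 hyC
      by_cases hgC : g ∈ C
      · have : g * x * g⁻¹ = x := by rw [D.comm g hgC x hxC]; group
        simp [this]
      · have := D.ninv g hgN hgC x hxC
        simp [this]
    exact (Finset.card_le_card hsub).trans Finset.card_le_two
  have h1T : cc 1 ∉ T := by
    intro h
    obtain ⟨x, hx, hxe⟩ := Finset.mem_image.mp h
    obtain ⟨-, -, hx1, -⟩ := Finset.mem_filter.mp hx
    have hc' : IsConj 1 x := (ConjClasses.mk_eq_mk_iff_isConj).mp hxe.symm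
    exact hx1 (isConj_one_right.mp hc')
  have htT : cc t ∉ T := by
    intro h
    obtain ⟨x, hx, hxe⟩ := Finset.mem_image.mp h
    obtain ⟨-, hxC, -, hxt⟩ := Finset.mem_filter.mp hx
    have hc' : IsConj t x := (ConjClasses.mk_eq_mk_iff_isConj).mp hxe.symm
    obtain ⟨g, rfl⟩ := isConj_iff.mp hc'
    have hgN : g ∈ N := D.ti g t D.htC D.ht1 hxC
    have := (D.centr g).mpr hgN
    apply hxt
    rw [this]
    group
  have hyT : cc y ∉ T := by
    intro h
    obtain ⟨x, hx, hxe⟩ := Finset.mem_image.mp h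
    obtain ⟨-, hxC, -, -⟩ := Finset.mem_filter.mp hx
    have hc' : IsConj y x := (ConjClasses.mk_eq_mk_iff_isConj).mp hxe.symm
    exact hy x hxC hc'
  have h1t : cc 1 ≠ cc t := by
    intro h
    have hc' : IsConj 1 t := (ConjClasses.mk_eq_mk_iff_isConj).mp h
    exact D.ht1 (isConj_one_right.mp hc')
  have h1y : cc 1 ≠ cc y := by
    intro h
    have hc' : IsConj y 1 := (ConjClasses.mk_eq_mk_iff_isConj).mp h.symm
    exact hy 1 (one_mem C) hc'
  have hty : cc t ≠ cc y := by
    intro h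
    have hc' : IsConj y t := (ConjClasses.mk_eq_mk_iff_isConj).mp h.symm
    exact hy t D.htC hc'
  have hcard : T.card + 3 ≤ Fintype.card (ConjClasses G) := by
    have h2 : (insert (cc 1) (insert (cc t) (insert (cc y) T))).card = T.card + 3 := by
      rw [Finset.card_insert_of_notMem, Finset.card_insert_of_notMem, Finset.card_insert_of_notMem hyT]
      · simp only [Finset.mem_insert, not_or]
        exact ⟨hty, htT⟩
      · simp only [Finset.mem_insert, not_or]
        exact ⟨h1t, h1y, h1T⟩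
    rw [← h2]
    exact Finset.card_le_univ _
  rw [Nat.card_eq_fintype_card]
  omega

/-- **The contradiction.** -/
theorem false_of : False := by
  have hm6 := D.hm6
  let triv : IrrCharacter G := ⟨fun _ => 1, isIrrCharacter_one⟩
  have hsum := D.sum_norm_all
  rw [← Finset.add_sum_erase _ _ (Finset.mem_univ triv)] at hsum
  have htriv : ∑ x ∈ Finset.univ.filter (fun x : G => x ∈ C ∧ x ≠ 1), ‖(triv : G → ℂ) x‖ ^ 2 =
      (m : ℝ) - 1 := by
    have : ∀ x, ‖(triv : G → ℂ) x‖ ^ 2 = 1 := fun x => by simp [triv]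
    simp only [this]
    rw [Finset.sum_const, D.card_filter_C, nsmul_eq_mul, mul_one, Nat.cast_sub (by omega)]
    simp
  rw [htriv] at hsum
  have hlow : ((Finset.univ.erase triv).card : ℝ) * (2 * (m : ℝ) - 4) ≤
      ∑ χ ∈ Finset.univ.erase triv, ∑ x ∈ Finset.univ.filter (fun x : G => x ∈ C ∧ x ≠ 1),
        ‖(χ : G → ℂ) x‖ ^ 2 := by
    rw [← nsmul_eq_mul]
    refine Finset.card_nsmul_le_sum _ _ _ fun χ hχ => ?_
    refine D.norm_large χ.2 fun h => ?_
    exact (Finset.ne_of_mem_erase hχ) (Subtype.ext h)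
  have hk := D.card_classes
  rw [← card_irr_eq_card_conjClasses, Nat.card_eq_fintype_card] at hk
  have hcard : (Finset.univ.erase triv).card + 1 = Fintype.card (IrrCharacter G) := by
    rw [Finset.card_erase_of_mem (Finset.mem_univ _), Finset.card_univ]
    have : 0 < Fintype.card (IrrCharacter G) := Fintype.card_pos_iff.mpr ⟨triv⟩
    omega
  have hk2 : m + 2 ≤ 2 * (Finset.univ.erase triv).card := by omega
  have hk3 : (m : ℝ) + 2 ≤ 2 * ((Finset.univ.erase triv).card : ℝ) := by exact_mod_cast hk2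
  have hm6' : (6 : ℝ) ≤ m := by exact_mod_cast hm6
  nlinarith

end TIData

end Cfsg.Agent.Lib.PGroups
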