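import Mathlib
import Cfsg.Agent.Lib.PGroups.CoverCount
import Cfsg.Agent.Lib.PGroups.CycSub2
import Cfsg.Agent.Lib.OddLocal.Sup

/-! Groups whose nontrivial class sizes all equal one number `n`. -/

set_option autoImplicit false

namespace Cfsg.Agent.Lib.PGroups.TwoClass

open Subgroup Cfsg.Agent.Lib.PGroups Cfsg.Agent.Lib.OddLocal

variable {G : Type*} [Group G] [Finite G]

/-- The centralizer of a single element. -/
abbrev Cn (x : G) : Subgroup G := centralizer ({x} : Set G)

theorem mem_Cn {x g : G} : g ∈ Cn x ↔ g * x = x * g := mem_centralizer_singleton_iff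

theorem mem_center_of_idx {x : G} (hx : (Cn x).index = 1) (g : G) : g * x = x * g := by
  have : Cn x = ⊤ := Subgroup.index_eq_one.mp hx
  have h2 : g ∈ Cn x := by rw [this]; trivial
  exact mem_Cn.mp h2

theorem idx_of_central {x : G} (hx : ∀ g : G, g * x = x * g) : (Cn x).index = 1 := by
  rw [Subgroup.index_eq_one, eq_top_iff]
  intro g _
  exact mem_Cn.mpr (hx g)

theorem card_Cn_mul (x : G) : Nat.card (Cn x) * (Cn x).index = Nat.card G :=
  Subgroup.card_mul_index _

section
variable {n : ℕ} (h : ∀ x : G, (Cn x).index = 1 ∨ (Cn x).index = n)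

include h in
theorem Cn_eq_of_le {x y : G} (hx : (Cn x).index = n) (hy : (Cn y).index = n)
    (hle : Cn x ≤ Cn y) : Cn x = Cn y := by
  have h1 := card_Cn_mul x
  have h2 := card_Cn_mul y
  rw [hx] at h1
  rw [hy] at h2
  have hn : 0 < n := by
    rcases Nat.eq_zero_or_pos n with h0 | h0
    · subst h0; simp at h1; exact absurd h1.symm Nat.card_pos.ne'
    · exact h0
  have h3 : Nat.card (Cn x) = Nat.card (Cn y) := by
    apply Nat.eq_of_mul_eq_mul_right hn
    rw [h1, h2]
  exact Subgroup.eq_of_le_of_card_ge hle h3.ge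

theorem card_Cn_eq {x y : G} (hx : (Cn x).index = n) (hy : (Cn y).index = n) :
    Nat.card (Cn x) = Nat.card (Cn y) := by
  have h1 := card_Cn_mul x
  have h2 := card_Cn_mul y
  rw [hx] at h1
  rw [hy] at h2
  have hn : 0 < n := by
    rcases Nat.eq_zero_or_pos n with h0 | h0
    · subst h0; simp at h1; exact absurd h1.symm Nat.card_pos.ne'
    · exact h0
  apply Nat.eq_of_mul_eq_mul_right hn
  rw [h1, h2]

include h in
/-- Commuting noncentral elements of coprime orders have the same centralizer. -/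
theorem Cn_eq_of_coprime {x w : G} (hc : Commute x w)
    (hcop : (orderOf x).Coprime (orderOf w)) (hn : 1 < n) (hx : (Cn x).index = n)
    (hw : (Cn w).index = n) : Cn x = Cn w := by
  have h1 := centralizer_mul_of_coprime hc hcop
  have hle1 : Cn (x * w) ≤ Cn x := by unfold Cn; rw [h1]; exact inf_le_left
  have hle2 : Cn (x * w) ≤ Cn w := by unfold Cn; rw [h1]; exact inf_le_right
  have hxw : (Cn (x * w)).index = n := by
    rcases h (x * w) with h2 | h2
    · exfalso
      have h3 : Cn (x * w) = ⊤ := Subgroup.index_eq_one.mp h2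
      have h4 : Cn x = ⊤ := top_le_iff.mp (h3 ▸ hle1)
      rw [h4, Subgroup.index_top] at hx
      omega
    · exact h2
  rw [← Cn_eq_of_le h hxw hx hle1, Cn_eq_of_le h hxw hw hle2]

theorem idx_eq_one_of_sylow {r : ℕ} [Fact r.Prime] (hrn : r ∣ n) (R : Sylow r G) {y : G}
    (hr : ∀ g ∈ (R : Subgroup G), g * y = y * g) (hidx : (Cn y).index = 1 ∨ (Cn y).index = n) :
    (Cn y).index = 1 := by
  rcases hidx with h1 | h1
  · exact h1
  · exfalso
    have hle : (R : Subgroup G) ≤ Cn y := fun g hg => mem_Cn.mpr (hr g hg)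
    have hd : (Cn y).index ∣ (R : Subgroup G).index := Subgroup.index_dvd_of_le hle
    rw [h1] at hd
    exact R.not_dvd_index (hrn.trans hd)

include h in
/-- A Sylow subgroup for a prime not dividing `n` is central. -/
theorem central_of_not_dvd {q : ℕ} [Fact q.Prime] (hq : ¬ q ∣ n) (Q : Sylow q G) {y : G}
    (hy : y ∈ (Q : Subgroup G)) (g : G) : g * y = y * g := by
  have htop : centralizer ((Q : Subgroup G) : Set G) = ⊤ := by
    by_contra hne
    have h1 := ncard_conjUnion_lt _ hne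
    have h2 : conjUnion (centralizer ((Q : Subgroup G) : Set G)) = Set.univ := by
      ext x
      simp only [Set.mem_univ, iff_true]
      apply mem_conjUnion_centralizer_sylow
      rcases h x with h3 | h3
      · rw [h3]; exact (Fact.out : q.Prime).one_lt.ne' ∘ Nat.dvd_one.mp
      · rw [h3]; exact hq
    rw [h2, Set.ncard_univ] at h1
    exact lt_irrefl _ h1
  have h3 : g ∈ centralizer ((Q : Subgroup G) : Set G) := by rw [htop]; trivial
  exact (mem_centralizer_iff.mp h3 y hy).symm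

/-- A Sylow subgroup of a subgroup, containing a given `s`-subgroup. -/
theorem exists_sylow_le {s : ℕ} [Fact s.Prime] {K U : Subgroup G} (hUK : U ≤ K)
    (hU : IsPGroup s U) : ∃ T : Subgroup G, U ≤ T ∧ T ≤ K ∧ IsPGroup s T ∧ ¬ s ∣ T.relIndex K := by
  have hU' : IsPGroup s (U.subgroupOf K) := by
    intro x
    obtain ⟨k, hk⟩ := hU ⟨(x : G), mem_subgroupOf.mp x.2⟩
    refine ⟨k, ?_⟩
    apply Subtype.ext
    apply Subtype.ext
    have := congrArg (fun z : U => ((z : G))) hk
    simpa using this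
  obtain ⟨S, hS⟩ := hU'.exists_le_sylow
  refine ⟨(S : Subgroup K).map K.subtype, ?_, ?_, ?_, ?_⟩
  · intro u hu
    exact ⟨⟨u, hUK hu⟩, hS (mem_subgroupOf.mpr hu), rfl⟩
  · exact Subgroup.map_subtype_le _
  · exact (S.isPGroup').map K.subtype
  · have e : ((S : Subgroup K).map K.subtype).relIndex K = (S : Subgroup K).index := by
      show (comap K.subtype (map K.subtype (S : Subgroup K))).index = _
      rw [comap_map_eq_self_of_injective K.subtype_injective]
    rw [e]
    exact S.not_dvd_index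

/-- The order of an `s`-subgroup of `L` is at most that of a Sylow `s`-subgroup of `K`, when
`|L| = |K|`. -/
theorem card_le_of_sylow {s : ℕ} [hs : Fact s.Prime] {T K V L : Subgroup G} (hTK : T ≤ K)
    (hT : ¬ s ∣ T.relIndex K) (hVL : V ≤ L) (hV : IsPGroup s V)
    (hc : Nat.card L = Nat.card K) : Nat.card V ≤ Nat.card T := by
  obtain ⟨a, ha⟩ := IsPGroup.iff_card.mp hV
  have h1 : Nat.card V ∣ Nat.card L := Subgroup.card_dvd_of_le hVL
  have h2 : Nat.card T * T.relIndex K = Nat.card K := card_mul_relIndex hTK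
  rw [hc, ← h2] at h1
  have h3 : (Nat.card V).Coprime (T.relIndex K) := by
    rw [ha]
    exact Nat.Coprime.pow_left _ ((Nat.Prime.coprime_iff_not_dvd hs.out).mpr hT)
  exact Nat.le_of_dvd Nat.card_pos (h3.dvd_of_dvd_mul_right h1)

include h in
/-- A noncentral element centralizes a noncentral `s`-element, for each prime `s` dividing `n`. -/
theorem exists_nc_pelement {s : ℕ} [hs : Fact s.Prime] (hn : 1 < n) (hsn : s ∣ n) {x : G}
    (hx : (Cn x).index = n) :
    ∃ w ∈ Cn x, (Cn w).index = n ∧ ∃ k : ℕ, w ^ s ^ k = 1 := by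
  by_contra hno
  push_neg at hno
  obtain ⟨T, -, hTK, hT, hTi⟩ := exists_sylow_le (s := s) (K := Cn x) (U := ⊥) bot_le
    IsPGroup.of_bot
  have hTc : ∀ t ∈ T, ∀ g : G, g * t = t * g := by
    intro t ht g
    have h1 : (Cn t).index = 1 := by
      rcases h t with h2 | h2
      · exact h2
      · exfalso
        obtain ⟨k, hk⟩ := hT ⟨t, ht⟩
        apply hno t (hTK ht) h2 k
        simpa using congrArg (fun z : T => (z : G)) hk
    exact mem_center_of_idx h1 g
  obtain ⟨S, hS⟩ := hT.exists_le_sylow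
  have hy : ∃ y ∈ (S : Subgroup G), (Cn y).index = n := by
    by_contra hno2
    push_neg at hno2
    have hle : (S : Subgroup G) ≤ Cn x := by
      intro y hy
      have h1 : (Cn y).index = 1 := by
        rcases h y with h2 | h2
        · exact h2
        · exact absurd h2 (hno2 y hy)
      exact mem_Cn.mpr (mem_center_of_idx h1 x).symm
    have hd : (Cn x).index ∣ (S : Subgroup G).index := Subgroup.index_dvd_of_le hle
    rw [hx] at hd
    exact S.not_dvd_index (hsn.trans hd)
  obtain ⟨y, hyS, hyn⟩ := hy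
  have hV : IsPGroup s ↥((S : Subgroup G) ⊓ Cn y) :=
    S.isPGroup'.to_le inf_le_left
  have hcard := card_le_of_sylow hTK hTi (inf_le_right : (S : Subgroup G) ⊓ Cn y ≤ Cn y) hV
    (card_Cn_eq hyn hx)
  have hTV : T ≤ (S : Subgroup G) ⊓ Cn y := by
    intro t ht
    exact Subgroup.mem_inf.mpr ⟨hS ht, mem_Cn.mpr (hTc t ht y).symm⟩
  have heq : T = (S : Subgroup G) ⊓ Cn y := Subgroup.eq_of_le_of_card_ge hTV hcard
  have hyT : y ∈ T := by
    rw [heq]
    exact Subgroup.mem_inf.mpr ⟨hyS, mem_Cn.mpr rfl⟩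
  have : (Cn y).index = 1 := idx_of_central (hTc y hyT)
  omega

theorem coprime_orders {r s : ℕ} (hr : r.Prime) (hs : s.Prime) (hne : r ≠ s) {x w : G} {k l : ℕ}
    (hx : x ^ r ^ k = 1) (hw : w ^ s ^ l = 1) : (orderOf x).Coprime (orderOf w) := by
  have h1 : orderOf x ∣ r ^ k := orderOf_dvd_of_pow_eq_one hx
  have h2 : orderOf w ∣ s ^ l := orderOf_dvd_of_pow_eq_one hw
  exact Nat.Coprime.coprime_dvd_left h1 (Nat.Coprime.coprime_dvd_right h2
    (Nat.coprime_pow_primes _ _ hr hs hne))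

include h in
theorem commute_of_coprime_elements {r s : ℕ} (hr : r.Prime) (hs : s.Prime) (hne : r ≠ s)
    (hn : 1 < n) {x w : G} {k l : ℕ} (hxn : (Cn x).index = n) (hx : x ^ r ^ k = 1)
    (hwx : w ∈ Cn x) (hw : w ^ s ^ l = 1) (g : G) (hg : g ∈ Cn x) : g * w = w * g := by
  rcases h w with h1 | h1
  · exact mem_center_of_idx h1 g
  · have h2 : Cn x = Cn w :=
      Cn_eq_of_coprime h (mem_Cn.mp hwx).symm (coprime_orders hr hs hne hx hw) hn hxn h1
    rw [h2] at hg
    exact mem_Cn.mp hg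

include h in
/-- With two primes dividing `n`, the centralizer of a noncentral element of prime power order
is abelian. -/
theorem abelian_of_primary {p q r : ℕ} [hp : Fact p.Prime] [hq : Fact q.Prime] (hr : r.Prime)
    (hpn : p ∣ n) (hqn : q ∣ n) (hpq : p ≠ q) (hn : 1 < n) {x : G} {k : ℕ}
    (hxn : (Cn x).index = n) (hx : x ^ r ^ k = 1) :
    ∀ g ∈ Cn x, ∀ g' ∈ Cn x, g * g' = g' * g := by
  -- a noncentral `s`-element with `s ≠ r`
  have hex : ∃ w ∈ Cn x, (Cn w).index = n ∧ ∃ s : ℕ, s.Prime ∧ s ≠ r ∧ ∃ l : ℕ, w ^ s ^ l = 1 := by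
    by_cases hpr : p = r
    · obtain ⟨w, hw, hwn, l, hl⟩ := exists_nc_pelement h hn hqn hxn
      exact ⟨w, hw, hwn, q, hq.out, fun e => hpq (hpr.trans e.symm), l, hl⟩
    · obtain ⟨w, hw, hwn, l, hl⟩ := exists_nc_pelement h hn hpn hxn
      exact ⟨w, hw, hwn, p, hp.out, hpr, l, hl⟩
  obtain ⟨w, hwx, hwn, s, hs, hsr, l, hl⟩ := hex
  have hCeq : Cn x = Cn w :=
    Cn_eq_of_coprime h (mem_Cn.mp hwx).symm (coprime_orders hr hs hsr.symm hx hl) hn hxn hwn
  intro g hg g' hg'
  -- `g` lies in the center of `Cn x`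
  have key : g ∈ centralizer ((Cn x : Subgroup G) : Set G) := by
    apply mem_of_primary_powers
    intro a ha hpp
    have haC : a ∈ Cn x := (zpowers_le.mpr hg) ha
    obtain ⟨t, j, ht, hj, hoa⟩ := hpp
    have ht' : t.Prime := Nat.prime_iff.mpr ht
    have haj : a ^ t ^ j = 1 := by rw [hoa]; exact pow_orderOf_eq_one a
    rw [mem_centralizer_iff]
    intro c hc
    by_cases htr : t = r
    · have htne : s ≠ t := by rw [htr]; exact hsr
      have haw : a ∈ Cn w := hCeq ▸ haC
      have hcw : c ∈ Cn w := hCeq ▸ hc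
      exact commute_of_coprime_elements h hs ht' htne hn hwn hl haw haj c hcw
    · exact commute_of_coprime_elements h hr ht' (Ne.symm htr) hn hxn hx haC haj c hc
  exact mem_centralizer_iff.mp key g' hg' |>.symm

include h in
/-- A noncentral element has a noncentral power of prime power order (with the same centralizer). -/
theorem exists_primary_nc (hn : 1 < n) {u : G} (hu : (Cn u).index = n) :
    ∃ a ∈ zpowers u, (Cn a).index = n ∧ Cn u = Cn a ∧ ∃ t : ℕ, t.Prime ∧ ∃ j : ℕ, a ^ t ^ j = 1 := by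
  by_contra hno
  push_neg at hno
  have huc : u ∈ center G := by
    apply mem_of_primary_powers
    intro a ha hpp
    obtain ⟨t, j, ht, hj, hoa⟩ := hpp
    have ht' : t.Prime := Nat.prime_iff.mpr ht
    have haj : a ^ t ^ j = 1 := by rw [hoa]; exact pow_orderOf_eq_one a
    have hle : Cn u ≤ Cn a := by
      intro g hg
      have : zpowers u ≤ Cn g := by
        rw [zpowers_le]
        exact mem_Cn.mpr (mem_Cn.mp hg).symm
      exact mem_Cn.mpr (mem_Cn.mp (this ha)).symm
    rcases h a with h1 | h1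
    · rw [Subgroup.mem_center_iff]
      exact mem_center_of_idx h1
    · exact absurd haj (hno a ha h1 (Cn_eq_of_le h hu h1 hle) t ht' j)
  have : (Cn u).index = 1 := idx_of_central (Subgroup.mem_center_iff.mp huc)
  omega

include h in
theorem abelian_of_nc {p q : ℕ} [hp : Fact p.Prime] [hq : Fact q.Prime]
    (hpn : p ∣ n) (hqn : q ∣ n) (hpq : p ≠ q) (hn : 1 < n) {u : G}
    (hu : (Cn u).index = n) : ∀ g ∈ Cn u, ∀ g' ∈ Cn u, g * g' = g' * g := by
  obtain ⟨a, -, han, hCa, t, ht, j, hj⟩ := exists_primary_nc h hn hu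
  rw [hCa]
  exact abelian_of_primary h ht hpn hqn hpq hn han hj

include h in
/-- Commuting noncentral elements have the same centralizer (two primes dividing `n`). -/
theorem Cn_eq_of_commute {p q : ℕ} [hp : Fact p.Prime] [hq : Fact q.Prime]
    (hpn : p ∣ n) (hqn : q ∣ n) (hpq : p ≠ q) (hn : 1 < n) {u v : G}
    (hu : (Cn u).index = n) (hv : (Cn v).index = n) (hc : u * v = v * u) : Cn u = Cn v := by
  apply Cn_eq_of_le h hu hv
  intro g hg
  have hvu : v ∈ Cn u := mem_Cn.mpr hc.symm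
  exact mem_Cn.mpr (abelian_of_nc h hpn hqn hpq hn hu g hg v hvu)

include h in
/-- Counting: `|C(x) ∩ P| ≤ |P : C(x) ∩ P| · |P ∩ Z(G)|`, from Jordan's theorem. -/
theorem card_inf_sylow_le {r p q : ℕ} [hr : Fact r.Prime] [hp : Fact p.Prime] [hq : Fact q.Prime]
    (hrn : r ∣ n) (hpn : p ∣ n) (hqn : q ∣ n) (hpq : p ≠ q) (hn : 1 < n)
    (P : Sylow r G) {x : G} (hx : (Cn x).index = n) :
    Nat.card ↥(Cn x ⊓ (P : Subgroup G)) ≤
      (Cn x ⊓ (P : Subgroup G)).relIndex (P : Subgroup G) *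
        Nat.card ↥((P : Subgroup G) ⊓ center G) := by
  by_contra hlt
  have hlt' := not_le.mp hlt
  set A₀ := Cn x ⊓ (P : Subgroup G) with hA₀
  have hcover : conjUnion (Cn x) = Set.univ := by
    ext u
    simp only [Set.mem_univ, iff_true]
    rcases h u with hu | hu
    · refine ⟨1, ?_⟩
      have : (1 : G)⁻¹ * u * 1 = u := by group
      rw [this]
      exact mem_Cn.mpr (mem_center_of_idx hu x).symm
    · obtain ⟨a, -, han, hCa, t, ht, j, hj⟩ := exists_primary_nc h hn hu
      have hv : ∃ v : G, (Cn v).index = n ∧ Cn u = Cn v ∧ ∃ l : ℕ, v ^ r ^ l = 1 := by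
        by_cases htr : t = r
        · subst htr; exact ⟨a, han, hCa, j, hj⟩
        · obtain ⟨w, hw, hwn, l, hl⟩ := exists_nc_pelement h hn hrn han
          refine ⟨w, hwn, ?_, l, hl⟩
          rw [hCa]
          exact Cn_eq_of_coprime h (mem_Cn.mp hw).symm
            (coprime_orders ht hr.out htr hj hl) hn han hwn
      obtain ⟨v, hvn, hCv, l, hl⟩ := hv
      have hvz : IsPGroup r (zpowers v) := isPGroup_zpowers_iff.mpr (exists_pow_eq_one_iff_orderOf.mp ⟨l, hl⟩)
      obtain ⟨T, hvT, hTK, hT, hTi⟩ := exists_sylow_le (K := Cn v) (U := zpowers v)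
        (zpowers_le.mpr (mem_Cn.mpr rfl)) hvz
      obtain ⟨g, hg⟩ := sylow_conj' P hT
      have hv'P : g⁻¹ * v * g ∈ (P : Subgroup G) := hg v (hvT (mem_zpowers v))
      have hv'n : (Cn (g⁻¹ * v * g)).index = n := by
        rcases h (g⁻¹ * v * g) with h1 | h1
        · exfalso
          have h3 : ∀ c : G, c * v = v * c := by
            intro c
            have h2 := mem_center_of_idx h1 (g⁻¹ * c * g)
            have h4 : g⁻¹ * (c * v) * g = g⁻¹ * (v * c) * g := by
              calc g⁻¹ * (c * v) * g = (g⁻¹ * c * g) * (g⁻¹ * v * g) := by group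
                _ = (g⁻¹ * v * g) * (g⁻¹ * c * g) := h2
                _ = g⁻¹ * (v * c) * g := by group
            exact mul_left_cancel (mul_right_cancel h4)
          have := idx_of_central h3
          omega
        · exact h1
      by_cases hv'x : g⁻¹ * v * g ∈ Cn x
      · have hCe : Cn x = Cn (g⁻¹ * v * g) :=
          Cn_eq_of_commute h hpn hqn hpq hn hx hv'n (mem_Cn.mp hv'x).symm
        refine ⟨g, ?_⟩
        rw [hCe]
        have huv : u ∈ Cn v := by rw [← hCv]; exact mem_Cn.mpr rfl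
        apply mem_Cn.mpr
        have h2 := mem_Cn.mp huv
        calc g⁻¹ * u * g * (g⁻¹ * v * g) = g⁻¹ * (u * v) * g := by group
          _ = g⁻¹ * (v * u) * g := by rw [h2]
          _ = g⁻¹ * v * g * (g⁻¹ * u * g) := by group
      · exfalso
        set v' := g⁻¹ * v * g with hv'
        set D := (P : Subgroup G) ⊓ Cn v' with hD
        have hTD : Nat.card T ≤ Nat.card D := by
          let f : T → D := fun t => ⟨g⁻¹ * (t : G) * g, Subgroup.mem_inf.mpr ⟨hg t t.2, by
            apply mem_Cn.mpr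
            have h2 := mem_Cn.mp (hTK t.2)
            calc g⁻¹ * (t : G) * g * v' = g⁻¹ * ((t : G) * v) * g := by rw [hv']; group
              _ = g⁻¹ * (v * (t : G)) * g := by rw [h2]
              _ = v' * (g⁻¹ * (t : G) * g) := by rw [hv']; group⟩⟩
          apply Nat.card_le_card_of_injective f
          intro t t' htt
          have h2 : g⁻¹ * (t : G) * g = g⁻¹ * (t' : G) * g := congrArg Subtype.val htt
          exact Subtype.ext (mul_left_cancel (mul_right_cancel h2))
        have hDA : D ⊓ A₀ ≤ (P : Subgroup G) ⊓ center G := by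
          intro d hd
          have hd1 := Subgroup.mem_inf.mp hd
          have hdP : d ∈ (P : Subgroup G) := (Subgroup.mem_inf.mp hd1.1).1
          have hdv : d ∈ Cn v' := (Subgroup.mem_inf.mp hd1.1).2
          have hdx : d ∈ Cn x := (Subgroup.mem_inf.mp hd1.2).1
          refine Subgroup.mem_inf.mpr ⟨hdP, ?_⟩
          rcases h d with h2 | h2
          · exact Subgroup.mem_center_iff.mpr (mem_center_of_idx h2)
          · exfalso
            have hCe : Cn x = Cn d :=
              Cn_eq_of_commute h hpn hqn hpq hn hx h2 (mem_Cn.mp hdx).symm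
            apply hv'x
            rw [hCe]
            exact mem_Cn.mpr (mem_Cn.mp hdv).symm
        have hD1 : Nat.card ↥(D ⊓ A₀) * (D ⊓ A₀).relIndex D = Nat.card D :=
          card_mul_relIndex inf_le_left
        have hD2 : (D ⊓ A₀).relIndex D = A₀.relIndex D := inf_relIndex_left D A₀
        have hDP : D ≤ (P : Subgroup G) := inf_le_left
        have hrel : A₀.relIndex D ≤ A₀.relIndex (P : Subgroup G) := by
          apply relIndex_le_of_le_right hDP
          exact (Subgroup.index_ne_zero_of_finite : (A₀.subgroupOf (P : Subgroup G)).index ≠ 0)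
        have hD3 : Nat.card ↥(D ⊓ A₀) ≤ Nat.card ↥((P : Subgroup G) ⊓ center G) :=
          Subgroup.card_le_of_le hDA
        have hDcard : Nat.card D ≤ A₀.relIndex (P : Subgroup G) *
            Nat.card ↥((P : Subgroup G) ⊓ center G) := by
          rw [← hD1, hD2, mul_comm]
          exact Nat.mul_le_mul hrel hD3
        have hA₀T : Nat.card A₀ ≤ Nat.card T :=
          card_le_of_sylow hTK hTi (inf_le_left : A₀ ≤ Cn x)
            (P.isPGroup'.to_le (inf_le_right : A₀ ≤ (P : Subgroup G))) (card_Cn_eq hx hvn)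
        omega
  have hne : Cn x ≠ ⊤ := by
    intro h1
    rw [h1, Subgroup.index_top] at hx
    omega
  have h1 := ncard_conjUnion_lt _ hne
  rw [hcover, Set.ncard_univ] at h1
  exact lt_irrefl _ h1

theorem conj_pow_mul_central {y w ζ : G} (hζc : ∀ g : G, g * ζ = ζ * g)
    (hc : y * w * y⁻¹ = w * ζ) (k : ℕ) : y ^ k * w * (y ^ k)⁻¹ = w * ζ ^ k := by
  induction k with
  | zero => simp
  | succ k ih =>
    calc y ^ (k + 1) * w * (y ^ (k + 1))⁻¹ = y ^ k * (y * w * y⁻¹) * (y ^ k)⁻¹ := by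
          rw [pow_succ]; group
      _ = (y ^ k * w * (y ^ k)⁻¹) * (y ^ k * ζ * (y ^ k)⁻¹) := by rw [hc]; group
      _ = (w * ζ ^ k) * ζ := by
          rw [ih, hζc (y ^ k)]; group
      _ = w * ζ ^ (k + 1) := by rw [pow_succ]; group

theorem commute_of_conj_eq_mul_central {p q : ℕ} (hp : p.Prime) (hq : q.Prime) (hpq : p ≠ q)
    {y w ζ : G} {a b : ℕ} (hy : y ^ p ^ a = 1) (hζ : ζ ^ q ^ b = 1)
    (hζc : ∀ g : G, g * ζ = ζ * g) (hc : y * w * y⁻¹ = w * ζ) : y * w = w * y := by
  have h2 := conj_pow_mul_central hζc hc (q ^ b)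
  rw [hζ, mul_one] at h2
  have h3 : y ^ q ^ b * w = w * y ^ q ^ b := by
    calc y ^ q ^ b * w = (y ^ q ^ b * w * (y ^ q ^ b)⁻¹) * y ^ q ^ b := by group
      _ = w * y ^ q ^ b := by rw [h2]
  have hcop : (q ^ b).Coprime (orderOf y) := by
    have h4 : orderOf y ∣ p ^ a := orderOf_dvd_of_pow_eq_one hy
    exact Nat.Coprime.coprime_dvd_right h4 (Nat.coprime_pow_primes _ _ hq hp (Ne.symm hpq))
  obtain ⟨m, hm⟩ := exists_pow_eq_self_of_coprime hcop
  have h5 : Commute (y ^ q ^ b) w := h3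
  have h6 : Commute ((y ^ q ^ b) ^ m) w := h5.pow_left m
  rw [hm] at h6
  exact h6

/-- The relative index of `K ∩ P` in `P`, when `K ∩ P` is Sylow in `K`. -/
theorem relIndex_eq_pow {r : ℕ} [hr : Fact r.Prime] (P : Sylow r G) (K : Subgroup G)
    (hKP : ¬ r ∣ (K ⊓ (P : Subgroup G)).relIndex K) :
    (K ⊓ (P : Subgroup G)).relIndex (P : Subgroup G) = r ^ (K.index.factorization r) := by
  have hpgrp : IsPGroup r ↥(K ⊓ (P : Subgroup G)) := P.isPGroup'.to_le inf_le_right
  obtain ⟨α, hα⟩ := IsPGroup.iff_card.mp hpgrp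
  have h1 : Nat.card ↥(K ⊓ (P : Subgroup G)) * (K ⊓ (P : Subgroup G)).relIndex K = Nat.card K :=
    card_mul_relIndex inf_le_left
  have h2 : Nat.card ↥(K ⊓ (P : Subgroup G)) *
      (K ⊓ (P : Subgroup G)).relIndex (P : Subgroup G) = Nat.card (P : Subgroup G) :=
    card_mul_relIndex inf_le_right
  have h3 : Nat.card K * K.index = Nat.card G := Subgroup.card_mul_index K
  have h4 : Nat.card (P : Subgroup G) = r ^ (Nat.card G).factorization r :=
    Sylow.card_eq_multiplicity P
  set d := (K ⊓ (P : Subgroup G)).relIndex K with hd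
  set c := (K ⊓ (P : Subgroup G)).relIndex (P : Subgroup G) with hc
  have hd0 : d ≠ 0 := by
    intro h0
    rw [h0, mul_zero] at h1
    exact Nat.card_pos.ne' h1.symm
  have hi0 : K.index ≠ 0 := Subgroup.index_ne_zero_of_finite
  have hpow : (r ^ α) ≠ 0 := pow_ne_zero _ hr.out.ne_zero
  have hf : (Nat.card G).factorization r = α + K.index.factorization r := by
    rw [← h3, ← h1, hα, Nat.factorization_mul (mul_ne_zero hpow hd0) hi0,
      Nat.factorization_mul hpow hd0, Nat.Prime.factorization_pow hr.out]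
    simp only [Finsupp.coe_add, Pi.add_apply, Finsupp.single_eq_same]
    rw [Nat.factorization_eq_zero_of_not_dvd hKP]
    ring
  rw [h4, hf, hα, pow_add] at h2
  exact Nat.eq_of_mul_eq_mul_left (pow_pos hr.out.pos α) h2

/-- When a Sylow subgroup normalizes `K`, it meets `K` in a Sylow subgroup of `K`. -/
theorem not_dvd_relIndex_inf {r : ℕ} [hr : Fact r.Prime] (P : Sylow r G) (K : Subgroup G)
    (hle : (P : Subgroup G) ≤ normalizer (K : Set G)) :
    ¬ r ∣ (K ⊓ (P : Subgroup G)).relIndex K := by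
  intro hdvd
  have h1 := card_sup_mul_card_inf hle
  have h2 : Nat.card ↥(K ⊓ (P : Subgroup G)) * (K ⊓ (P : Subgroup G)).relIndex K = Nat.card K :=
    card_mul_relIndex inf_le_left
  set d := (K ⊓ (P : Subgroup G)).relIndex K with hd
  have h3 : Nat.card ↥(K ⊔ (P : Subgroup G)) = d * Nat.card (P : Subgroup G) := by
    apply Nat.eq_of_mul_eq_mul_right (Nat.card_pos (α := ↥(K ⊓ (P : Subgroup G))))
    rw [h1, ← h2]
    ring
  have h4 : Nat.card ↥(K ⊔ (P : Subgroup G)) ∣ Nat.card G := Subgroup.card_subgroup_dvd_card _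
  have h5 : Nat.card (P : Subgroup G) * (P : Subgroup G).index = Nat.card G :=
    Subgroup.card_mul_index _
  rw [h3, ← h5, mul_comm d] at h4
  have h6 : d ∣ (P : Subgroup G).index := Nat.dvd_of_mul_dvd_mul_left Nat.card_pos h4
  exact P.not_dvd_index (hdvd.trans h6)

include h in
/-- The key inequality: for a prime `p ∣ n` having an element `x` of a Sylow subgroup `P`
that is central modulo the center, and another prime `q ∣ n`. -/
theorem pow_lt_pow_of_special {p q : ℕ} [hp : Fact p.Prime] [hq : Fact q.Prime]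
    (hpn : p ∣ n) (hqn : q ∣ n) (hpq : p ≠ q) (hn : 1 < n) (P : Sylow p G) {x : G}
    (hxP : x ∈ (P : Subgroup G)) (hx : (Cn x).index = n)
    (hs : ∀ y ∈ (P : Subgroup G), y * x * y⁻¹ * x⁻¹ ∈ center G) :
    p ^ (n.factorization p) < q ^ (n.factorization q) := by
  classical
  obtain ⟨w, hwx, hwn, l, hl⟩ := exists_nc_pelement (s := q) h hn hqn hx
  have hPel : ∀ y ∈ (P : Subgroup G), ∃ k : ℕ, y ^ p ^ k = 1 := by
    intro y hy
    obtain ⟨k, hk⟩ := P.isPGroup' ⟨y, hy⟩
    exact ⟨k, by simpa using congrArg (fun z : (P : Subgroup G) => (z : G)) hk⟩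
  obtain ⟨k, hk⟩ := hPel x hxP
  have hCe : Cn x = Cn w := Cn_eq_of_coprime h (mem_Cn.mp hwx).symm
    (coprime_orders hp.out hq.out hpq hk hl) hn hx hwn
  have hwz : IsPGroup q (zpowers w) :=
    isPGroup_zpowers_iff.mpr (exists_pow_eq_one_iff_orderOf.mp ⟨l, hl⟩)
  obtain ⟨T, hwT, hTK, hT, hTi⟩ := exists_sylow_le (K := Cn x) (U := zpowers w)
    (zpowers_le.mpr hwx) hwz
  obtain ⟨Q, hQ⟩ := hT.exists_le_sylow
  set W := Cn x ⊓ (Q : Subgroup G) with hW
  have hTW : T ≤ W := le_inf hTK hQ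
  have hWc : Nat.card W ≤ Nat.card T :=
    card_le_of_sylow hTK hTi inf_le_left (Q.isPGroup'.to_le inf_le_right) rfl
  have hTeq : T = W := Subgroup.eq_of_le_of_card_ge hTW hWc
  have hWi : ¬ q ∣ W.relIndex (Cn x) := hTeq ▸ hTi
  have hab := abelian_of_nc h hpn hqn hpq hn hx
  have hqel : ∀ e ∈ Cn x, (∃ m : ℕ, e ^ q ^ m = 1) → e ∈ W := by
    intro e he hem
    set S : Set G := (T : Set G) ∪ {e} with hS
    have hSC : ∀ s ∈ S, s ∈ Cn x := by
      rintro s (hs' | hs')
      · exact hTK hs'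
      · rw [Set.mem_singleton_iff.mp hs']; exact he
    have hU : IsPGroup q (closure S) := isPGroup_closure_of_commute
       (fun a ha b hb => hab a (hSC a ha) b (hSC b hb))
       (by rintro s (hs' | hs')
           · obtain ⟨m, hm⟩ := hT ⟨s, hs'⟩
             exact ⟨m, by simpa using congrArg (fun z : T => (z : G)) hm⟩
           · rw [Set.mem_singleton_iff.mp hs']; exact hem)
    have hUK : closure S ≤ Cn x := (closure_le _).mpr hSC
    have hTU : T ≤ closure S := fun t ht => subset_closure (Or.inl ht)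
    have hUc := card_le_of_sylow hTK hTi hUK hU rfl
    have h1 := Subgroup.eq_of_le_of_card_ge hTU hUc
    rw [← hTeq, h1]
    exact subset_closure (Or.inr rfl)
  have hPN : ∀ y ∈ (P : Subgroup G), ∀ c ∈ Cn x, y * c * y⁻¹ ∈ Cn x := by
    intro y hy c hc
    have hz := hs y⁻¹ (inv_mem hy)
    rw [inv_inv] at hz
    set z₁ := y⁻¹ * x * y * x⁻¹ with hz₁
    have h1 : y⁻¹ * x * y = z₁ * x := by rw [hz₁]; group
    have h2 : c * z₁ = z₁ * c := (Subgroup.mem_center_iff.mp hz c)
    have h3 : c * x = x * c := mem_Cn.mp hc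
    apply mem_Cn.mpr
    calc y * c * y⁻¹ * x = y * c * (y⁻¹ * x * y) * y⁻¹ := by group
      _ = y * c * (z₁ * x) * y⁻¹ := by rw [h1]
      _ = y * (c * z₁) * x * y⁻¹ := by group
      _ = y * (z₁ * c) * x * y⁻¹ := by rw [h2]
      _ = y * z₁ * (c * x) * y⁻¹ := by group
      _ = y * z₁ * (x * c) * y⁻¹ := by rw [h3]
      _ = y * (z₁ * x) * c * y⁻¹ := by group
      _ = y * (y⁻¹ * x * y) * c * y⁻¹ := by rw [h1]
      _ = x * (y * c * y⁻¹) := by group
  have hPN' : (P : Subgroup G) ≤ normalizer (Cn x : Set G) :=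
    fun y hy => mem_normalizer_of_conj_le' (Cn x) y (hPN y hy)
  set A₀ : Subgroup (P : Subgroup G) := (Cn x).subgroupOf (P : Subgroup G) with hA₀
  have hZsub : ∀ z ∈ (Q : Subgroup G) ⊓ center G, z ∈ Cn x ∧ ∃ m : ℕ, z ^ q ^ m = 1 := by
    intro z hz
    have h1 := Subgroup.mem_inf.mp hz
    refine ⟨mem_Cn.mpr (Subgroup.mem_center_iff.mp h1.2 x).symm, ?_⟩
    obtain ⟨m, hm⟩ := Q.isPGroup' ⟨z, h1.1⟩
    exact ⟨m, by simpa using congrArg (fun z : (Q : Subgroup G) => (z : G)) hm⟩
  let φ : Option (↥(P : Subgroup G) ⧸ A₀) → G :=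
    fun o => o.elim 1 (fun t => ((t.out : ↥(P : Subgroup G)) : G) * w *
      ((t.out : ↥(P : Subgroup G)) : G)⁻¹)
  have hφ1 : ∀ o, φ o ∈ Cn x := by
    rintro (_ | t)
    · exact one_mem _
    · exact hPN _ t.out.2 _ hwx
  have hφ2 : ∀ o, ∃ m : ℕ, φ o ^ q ^ m = 1 := by
    rintro (_ | t)
    · exact ⟨0, by simp [φ]⟩
    · refine ⟨l, ?_⟩
      show (((t.out : ↥(P : Subgroup G)) : G) * w * ((t.out : ↥(P : Subgroup G)) : G)⁻¹) ^ q ^ l = 1
      rw [conj_pow, hl]
      group
  have hmemW : ∀ (o : Option (↥(P : Subgroup G) ⧸ A₀)) (z : ↥((Q : Subgroup G) ⊓ center G)),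
      φ o * (z : G) ∈ W := by
    intro o z
    obtain ⟨hz1, m, hm⟩ := hZsub z z.2
    obtain ⟨m', hm'⟩ := hφ2 o
    apply hqel _ (mul_mem (hφ1 o) hz1)
    refine ⟨m' + m, ?_⟩
    have hcomm : Commute (φ o) (z : G) :=
      ((Subgroup.mem_center_iff.mp (Subgroup.mem_inf.mp z.2).2) (φ o))
    rw [hcomm.mul_pow, pow_add, pow_mul, hm', one_pow, one_mul, mul_comm, pow_mul, hm, one_pow]
  have hcz : ∀ (z : ↥((Q : Subgroup G) ⊓ center G)) (g : G), g * (z : G) = (z : G) * g :=
    fun z => Subgroup.mem_center_iff.mp (Subgroup.mem_inf.mp z.2).2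
  have hnot : ∀ (y ζ : G), (∀ g : G, g * ζ = ζ * g) → y * w * y⁻¹ ≠ ζ := by
    intro y ζ hζ he
    have h1 : w = ζ := by
      calc w = y⁻¹ * (y * w * y⁻¹) * y := by group
        _ = y⁻¹ * ζ * y := by rw [he]
        _ = ζ * (y⁻¹ * y) := by rw [hζ y⁻¹]; group
        _ = ζ := by group
    have : (Cn w).index = 1 := idx_of_central (by rw [h1]; exact hζ)
    omega
  let F : Option (↥(P : Subgroup G) ⧸ A₀) × ↥((Q : Subgroup G) ⊓ center G) → W :=
    fun t => ⟨φ t.1 * (t.2 : G), hmemW t.1 t.2⟩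
  have hinj : Function.Injective F := by
    rintro ⟨o, z⟩ ⟨o', z'⟩ heq
    have e : φ o * (z : G) = φ o' * (z' : G) := congrArg Subtype.val heq
    have hcz' : ∀ g : G, g * ((z' : G) * (z : G)⁻¹) = ((z' : G) * (z : G)⁻¹) * g := by
      intro g
      have h1 : Commute g (z' : G) := hcz z' g
      have h2 : Commute g (z : G) := hcz z g
      exact h1.mul_right h2.inv_right
    have hcz'' : ∀ g : G, g * ((z : G) * (z' : G)⁻¹) = ((z : G) * (z' : G)⁻¹) * g := by
      intro g
      have h1 : Commute g (z' : G) := hcz z' g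
      have h2 : Commute g (z : G) := hcz z g
      exact h2.mul_right h1.inv_right
    rcases o with _ | t <;> rcases o' with _ | t'
    · have e' : (z : G) = z' := by simpa [φ] using e
      rw [Subtype.ext e']
    · exfalso
      have e' : (z : G) = φ (some t') * (z' : G) := by simpa [φ] using e
      apply hnot ((t'.out : ↥(P : Subgroup G)) : G) _ hcz''
      have : φ (some t') = (z : G) * (z' : G)⁻¹ := by rw [e']; group
      exact this
    · exfalso
      have e' : φ (some t) * (z : G) = (z' : G) := by simpa [φ] using e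
      apply hnot ((t.out : ↥(P : Subgroup G)) : G) _ hcz'
      have : φ (some t) = (z' : G) * (z : G)⁻¹ := by rw [← e']; group
      exact this
    · set a : G := ((t.out : ↥(P : Subgroup G)) : G) with ha
      set b : G := ((t'.out : ↥(P : Subgroup G)) : G) with hb
      have e1 : a * w * a⁻¹ * (z : G) = b * w * b⁻¹ * (z' : G) := e
      have hyP : b⁻¹ * a ∈ (P : Subgroup G) := mul_mem (inv_mem t'.out.2) t.out.2
      have e2 : (b⁻¹ * a) * w * (b⁻¹ * a)⁻¹ = w * ((z' : G) * (z : G)⁻¹) := by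
        have e3 : a * w * a⁻¹ = b * w * b⁻¹ * ((z' : G) * (z : G)⁻¹) := by
          calc a * w * a⁻¹ = (a * w * a⁻¹ * (z : G)) * (z : G)⁻¹ := by group
            _ = b * w * b⁻¹ * (z' : G) * (z : G)⁻¹ := by rw [e1]
            _ = _ := by group
        calc (b⁻¹ * a) * w * (b⁻¹ * a)⁻¹ = b⁻¹ * (a * w * a⁻¹) * b := by group
          _ = b⁻¹ * (b * w * b⁻¹ * ((z' : G) * (z : G)⁻¹)) * b := by rw [e3]
          _ = w * (b⁻¹ * ((z' : G) * (z : G)⁻¹) * b) := by group
          _ = w * ((z' : G) * (z : G)⁻¹) := by rw [hcz' b⁻¹]; group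
      obtain ⟨a', ha'⟩ := hPel _ hyP
      have hzz : ∃ m : ℕ, ((z' : G) * (z : G)⁻¹) ^ q ^ m = 1 := by
        obtain ⟨-, m, hm⟩ := hZsub _
          (mul_mem z'.2 (inv_mem z.2) : (z' * z⁻¹ : ↥((Q : Subgroup G) ⊓ center G)).1 ∈ _)
        exact ⟨m, by simpa using hm⟩
      obtain ⟨m, hm⟩ := hzz
      have hcomm := commute_of_conj_eq_mul_central hp.out hq.out hpq ha' hm hcz' e2
      have hyC : b⁻¹ * a ∈ Cn x := by rw [hCe]; exact mem_Cn.mpr hcomm
      have htt : t' = t := by
        have h1 : (t'.out)⁻¹ * t.out ∈ A₀ := by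
          exact mem_subgroupOf.mpr hyC
        have h2 := QuotientGroup.eq.mpr h1
        rw [QuotientGroup.out_eq', QuotientGroup.out_eq'] at h2
        exact h2
      subst htt
      have e4 : (z : G) = z' := by
        have : φ (some t') * (z : G) = φ (some t') * (z' : G) := e
        exact mul_left_cancel this
      rw [Subtype.ext e4]
  have hcard := Nat.card_le_card_of_injective F hinj
  rw [Nat.card_prod, Finite.card_option] at hcard
  have hB := card_inf_sylow_le h hqn hpn hqn hpq hn Q hx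
  have hidx1 : Nat.card (↥(P : Subgroup G) ⧸ A₀) =
      (Cn x ⊓ (P : Subgroup G)).relIndex (P : Subgroup G) := by
    rw [inf_relIndex_right]; rfl
  rw [hidx1, relIndex_eq_pow P (Cn x) (not_dvd_relIndex_inf P (Cn x) hPN'), hx] at hcard
  rw [relIndex_eq_pow Q (Cn x) hWi, hx] at hB
  have hfin := hcard.trans hB
  have hzpos : 0 < Nat.card ↥((Q : Subgroup G) ⊓ center G) := Nat.card_pos
  exact Nat.lt_of_succ_le (Nat.le_of_mul_le_mul_right hfin hzpos)

theorem center_sylow_central {r : ℕ} [hr : Fact r.Prime] (hrn : r ∣ n)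
    (hidx : ∀ x : G, (Cn x).index = 1 ∨ (Cn x).index = n) (P : Sylow r G)
    {y : ↥(P : Subgroup G)} (hy : y ∈ center ↥(P : Subgroup G)) : (y : G) ∈ center G := by
  have h1 : (Cn (y : G)).index = 1 := by
    apply idx_eq_one_of_sylow hrn P _ (hidx y)
    intro g hg
    have := Subgroup.mem_center_iff.mp hy ⟨g, hg⟩
    exact congrArg Subtype.val this
  exact Subgroup.mem_center_iff.mpr (mem_center_of_idx h1)

include h in
/-- Existence of an element central modulo `Z(G)` in a Sylow subgroup, with `p`-th power in `Z(G)`. -/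
theorem exists_special {r : ℕ} [hr : Fact r.Prime] (hrn : r ∣ n)
    (hex : ∃ x₀ : G, (Cn x₀).index = n) (hn : 1 < n) (P : Sylow r G) :
    ∃ x ∈ (P : Subgroup G), (Cn x).index = n ∧
      (∀ y ∈ (P : Subgroup G), y * x * y⁻¹ * x⁻¹ ∈ center G) ∧ x ^ r ∈ center G := by
  have hcen := fun (y : ↥(P : Subgroup G)) (hy : y ∈ center ↥(P : Subgroup G)) =>
    center_sylow_central hrn h P hy
  have htop : center ↥(P : Subgroup G) ≠ ⊤ := by
    intro htop
    obtain ⟨x₀, hx₀⟩ := hex
    have hle : (P : Subgroup G) ≤ Cn x₀ := by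
      intro y hy
      have h1 := hcen ⟨y, hy⟩ (by rw [htop]; trivial)
      exact mem_Cn.mpr (Subgroup.mem_center_iff.mp h1 x₀).symm
    have hd : (Cn x₀).index ∣ (P : Subgroup G).index := Subgroup.index_dvd_of_le hle
    rw [hx₀] at hd
    exact P.not_dvd_index (hrn.trans hd)
  haveI hnt : Nontrivial (↥(P : Subgroup G) ⧸ center ↥(P : Subgroup G)) := by
    rw [← not_subsingleton_iff_nontrivial]
    intro hss
    exact htop (QuotientGroup.subgroup_eq_top_of_subsingleton _ hss)
  have hX : IsPGroup r (↥(P : Subgroup G) ⧸ center ↥(P : Subgroup G)) :=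
    P.isPGroup'.to_quotient _
  haveI hcn := hX.center_nontrivial
  obtain ⟨ξ, hξ⟩ := exists_ne (1 : center (↥(P : Subgroup G) ⧸ center ↥(P : Subgroup G)))
  have hξ' : (ξ : ↥(P : Subgroup G) ⧸ center ↥(P : Subgroup G)) ≠ 1 := fun e => hξ (Subtype.ext e)
  obtain ⟨k, hk⟩ := (IsPGroup.iff_orderOf.mp hX) (ξ : ↥(P : Subgroup G) ⧸ center ↥(P : Subgroup G))
  have hk0 : k ≠ 0 := by
    intro h0
    rw [h0, pow_zero, orderOf_eq_one_iff] at hk
    exact hξ' hk
  set ξ₁ := (ξ : ↥(P : Subgroup G) ⧸ center ↥(P : Subgroup G)) ^ r ^ (k - 1) with hξ₁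
  have hξ₁ne : ξ₁ ≠ 1 := by
    apply pow_ne_one_of_lt_orderOf (pow_ne_zero _ hr.out.ne_zero)
    rw [hk]
    exact Nat.pow_lt_pow_right hr.out.one_lt (Nat.sub_lt (Nat.pos_of_ne_zero hk0) one_pos)
  have hξ₁r : ξ₁ ^ r = 1 := by
    rw [hξ₁, ← pow_mul, ← pow_succ, Nat.sub_add_cancel (Nat.pos_of_ne_zero hk0), ← hk]
    exact pow_orderOf_eq_one _
  have hξ₁c : ξ₁ ∈ center (↥(P : Subgroup G) ⧸ center ↥(P : Subgroup G)) :=
    pow_mem ξ.2 _
  obtain ⟨xt, hxt⟩ := QuotientGroup.mk_surjective ξ₁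
  refine ⟨(xt : G), xt.2, ?_, ?_, ?_⟩
  · rcases h (xt : G) with h1 | h1
    · exfalso
      apply hξ₁ne
      rw [← hxt, QuotientGroup.eq_one_iff]
      rw [Subgroup.mem_center_iff]
      intro g
      apply Subtype.ext
      exact mem_center_of_idx h1 (g : G)
    · exact h1
  · intro y hy
    have h2 : ((⟨y, hy⟩ * xt * (⟨y, hy⟩ : ↥(P : Subgroup G))⁻¹ * xt⁻¹ : ↥(P : Subgroup G)) :
        ↥(P : Subgroup G) ⧸ center ↥(P : Subgroup G)) = 1 := by
      have h3 := Subgroup.mem_center_iff.mp hξ₁c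
        ((⟨y, hy⟩ : ↥(P : Subgroup G)) : ↥(P : Subgroup G) ⧸ center ↥(P : Subgroup G))
      rw [QuotientGroup.mk_mul, QuotientGroup.mk_mul, QuotientGroup.mk_mul, QuotientGroup.mk_inv,
        QuotientGroup.mk_inv, hxt, h3]
      group
    rw [QuotientGroup.eq_one_iff] at h2
    exact hcen _ h2
  · have h2 : ((xt ^ r : ↥(P : Subgroup G)) :
        ↥(P : Subgroup G) ⧸ center ↥(P : Subgroup G)) = 1 := by
      rw [QuotientGroup.mk_pow, hxt, hξ₁r]
    rw [QuotientGroup.eq_one_iff] at h2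
    exact hcen _ h2

include h in
/-- Only one prime divides `n`. -/
theorem prime_unique {p q : ℕ} [hp : Fact p.Prime] [hq : Fact q.Prime]
    (hpn : p ∣ n) (hqn : q ∣ n) (hn : 1 < n) (hex : ∃ x₀ : G, (Cn x₀).index = n) : p = q := by
  by_contra hpq
  obtain ⟨P⟩ : Nonempty (Sylow p G) := inferInstance
  obtain ⟨Q⟩ : Nonempty (Sylow q G) := inferInstance
  obtain ⟨x, hxP, hx, hs, -⟩ := exists_special h hpn hex hn P
  obtain ⟨y, hyQ, hy, ht, -⟩ := exists_special h hqn hex hn Q
  have h1 := pow_lt_pow_of_special h hpn hqn hpq hn P hxP hx hs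
  have h2 := pow_lt_pow_of_special h hqn hpn (Ne.symm hpq) hn Q hyQ hy ht
  omega

end

end Cfsg.Agent.Lib.PGroups.TwoClass
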