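import Cfsg.Agent.Lib.Basic.Frobenius

/-!
# Wielandt's counting: the number of subgroups of order `p ^ β` is `≡ 1 (mod p)`
-/

set_option autoImplicit false

namespace Cfsg.Agent.Lib.PGroups

open Subgroup MulAction
open scoped Pointwise

section Orbit

theorem dvd_card_of_forall_orbit {A X : Type*} [Group A] [MulAction A X] [Finite X] (d : ℕ)
    (h : ∀ x : X, d ∣ Nat.card (orbit A x)) : d ∣ Nat.card X := by
  classical
  haveI : Fintype (orbitRel.Quotient A X) := Fintype.ofFinite _
  rw [Nat.card_congr (MulAction.selfEquivSigmaOrbits A X), Nat.card_sigma]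
  exact Finset.dvd_sum fun ω _ => h _

theorem dvd_card_subtype_of_orbit {A X : Type*} [Group A] [MulAction A X] [Finite X] (P : X → Prop)
    (hinv : ∀ (a : A) (x : X), P x → P (a • x)) (d : ℕ)
    (h : ∀ x : X, P x → d ∣ Nat.card (orbit A x)) : d ∣ Nat.card {x // P x} := by
  letI : MulAction A {x // P x} :=
    { smul := fun a y => ⟨a • y.1, hinv a _ y.2⟩
      one_smul := fun y => Subtype.ext (one_smul A y.1)
      mul_smul := fun a b y => Subtype.ext (mul_smul a b y.1) }
  apply dvd_card_of_forall_orbit (A := A)
  intro y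
  have e : Nat.card (orbit A y) = Nat.card (orbit A y.1) := by
    rw [Nat.card_coe_set_eq, Nat.card_coe_set_eq, ← index_stabilizer, ← index_stabilizer]
    congr 1
    ext a
    rw [mem_stabilizer_iff, mem_stabilizer_iff, Subtype.ext_iff]
    rfl
  rw [e]
  exact h _ y.2

end Orbit

section Main

variable {G : Type*} [Group G]

open Classical in
/-- `G` acts on its subsets of size `k` by left translation. -/
@[instance_reducible] private noncomputable def act (G : Type*) [Group G] (k : ℕ) : MulAction G {S : Finset G // S.card = k} where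
  smul g S := ⟨g • S.1, by rw [Finset.card_smul_finset, S.2]⟩
  one_smul S := Subtype.ext (one_smul _ _)
  mul_smul g h S := Subtype.ext (mul_smul _ _ _)

attribute [local instance] act

private theorem mem_smul' {k : ℕ} (g x : G) (S : {S : Finset G // S.card = k}) :
    x ∈ (g • S).1 ↔ g⁻¹ * x ∈ S.1 := by
  classical
  have : (g • S).1 = g • S.1 := rfl
  rw [this, Finset.mem_smul_finset]
  constructor
  · rintro ⟨y, hy, rfl⟩
    simpa using hy
  · intro h
    exact ⟨_, h, by simp⟩

private theorem card_stabilizer_dvd [Finite G] {k : ℕ} (S : {S : Finset G // S.card = k}) :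
    Nat.card (stabilizer G S) ∣ k := by
  classical
  set T := stabilizer G S with hT
  have hmem : ∀ t ∈ T, ∀ x ∈ S.1, t * x ∈ S.1 := by
    intro t ht x hx
    have h1 : t • S = S := ht
    have h2 : t * x ∈ (t • S).1 := by
      rw [mem_smul']
      simpa using hx
    rwa [h1] at h2
  letI : MulAction T S.1 :=
    { smul := fun t x => ⟨(t : G) * (x : G), hmem t t.2 x x.2⟩
      one_smul := fun x => Subtype.ext (one_mul _)
      mul_smul := fun a b x => Subtype.ext (mul_assoc _ _ _) }
  have hfree : ∀ b : S.1, stabilizer T b = ⊥ := by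
    intro b
    rw [eq_bot_iff]
    intro t ht
    have h1 : t • b = b := ht
    have h2 : (t : G) * (b : G) = b := congrArg Subtype.val h1
    have h3 : (t : G) = 1 := by simpa using h2
    rw [Subgroup.mem_bot]
    exact Subtype.ext h3
  have h := Cfsg.Agent.Lib.Basic.card_dvd_of_free hfree
  have h2 : Nat.card S.1 = k := by
    rw [Nat.card_eq_fintype_card, Fintype.card_coe]
    exact S.2
  rwa [h2] at h

/-- Fibres of the stabilizer map consist of the right cosets. -/
private theorem card_fiber_mul [Finite G] {k : ℕ} (H : Subgroup G) (hH : Nat.card H = k)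
    (hk : 0 < k) :
    Nat.card {S : {S : Finset G // S.card = k} // stabilizer G S = H} * k = Nat.card G := by
  classical
  haveI := Fintype.ofFinite G
  have hcardcoset : ∀ g : G, (Finset.univ.filter (fun x : G => x * g⁻¹ ∈ H)).card = k := by
    intro g
    have h0 : (Finset.univ.filter (fun x : G => x * g⁻¹ ∈ H)).card = Nat.card {x : G // x * g⁻¹ ∈ H} := by
      rw [Nat.card_eq_fintype_card, Fintype.card_subtype]
    rw [h0, ← hH]
    apply Nat.card_congr
    exact
      { toFun := fun x => ⟨x.1 * g⁻¹, x.2⟩
        invFun := fun h => ⟨h.1 * g, by simpa using h.2⟩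
        left_inv := fun x => Subtype.ext (by simp)
        right_inv := fun h => Subtype.ext (by simp) }
  let C : G → {S : Finset G // S.card = k} := fun g =>
    ⟨Finset.univ.filter (fun x : G => x * g⁻¹ ∈ H), hcardcoset g⟩
  have hCmem : ∀ g x : G, x ∈ (C g).1 ↔ x * g⁻¹ ∈ H := by
    intro g x
    simp [C]
  have hCstab : ∀ g : G, stabilizer G (C g) = H := by
    intro g
    symm
    apply Subgroup.eq_of_le_of_card_ge
    · intro h hh
      rw [mem_stabilizer_iff]
      apply Subtype.ext
      ext x
      rw [mem_smul', hCmem, hCmem]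
      have e : h⁻¹ * x * g⁻¹ = h⁻¹ * (x * g⁻¹) := by group
      rw [e]
      exact Subgroup.mul_mem_cancel_left H (inv_mem hh)
    · rw [hH]
      exact Nat.le_of_dvd hk (card_stabilizer_dvd (C g))
  let F := {S : {S : Finset G // S.card = k} // stabilizer G S = H}
  let r : G → F := fun g => ⟨C g, hCstab g⟩
  have hiff : ∀ (g : G) (S : F), r g = S ↔ g ∈ S.1.1 := by
    intro g S
    constructor
    · rintro rfl
      show g ∈ (C g).1
      rw [hCmem]
      simp
    · intro hg
      apply Subtype.ext
      apply Subtype.ext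
      apply Finset.eq_of_subset_of_card_le
      · intro x hx
        have hx' := (hCmem g x).mp hx
        have h1 : x * g⁻¹ ∈ stabilizer G S.1 := by rw [S.2]; exact hx'
        have h2 : (x * g⁻¹) • S.1 = S.1 := h1
        have h3 : x ∈ ((x * g⁻¹) • S.1).1 := by
          rw [mem_smul']
          simpa using hg
        rwa [h2] at h3
      · show S.1.1.card ≤ (C g).1.card
        rw [S.1.2, (C g).2]
  haveI : Fintype F := Fintype.ofFinite F
  have h1 : Nat.card G = ∑ S : F, Nat.card {g : G // r g = S} := by
    rw [Nat.card_congr (Equiv.sigmaFiberEquiv r).symm, Nat.card_sigma]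
  have h2 : ∀ S : F, Nat.card {g : G // r g = S} = k := by
    intro S
    have e : Nat.card {g : G // r g = S} = Nat.card {g : G // g ∈ S.1.1} :=
      Nat.card_congr (Equiv.subtypeEquivRight (fun g => hiff g S))
    rw [e, Nat.card_eq_fintype_card, Fintype.card_coe]
    exact S.1.2
  rw [h1, Finset.sum_congr rfl (fun S _ => h2 S), Finset.sum_const, Finset.card_univ,
    smul_eq_mul, Nat.card_eq_fintype_card]

/-- **Wielandt's count.** -/
theorem choose_modEq_card_subgroups [Finite G] {p β m : ℕ} (hp : p.Prime) (hn : Nat.card G = p ^ β * m) :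
    (Nat.card G).choose (p ^ β) ≡ Nat.card {H : Subgroup G // Nat.card H = p ^ β} * m [MOD p * m] := by
  classical
  haveI := Fintype.ofFinite G
  set k := p ^ β with hk
  have hkpos : 0 < k := pow_pos hp.pos β
  have hGpos : 0 < Nat.card G := Nat.card_pos
  have hmpos : 0 < m := by
    rcases Nat.eq_zero_or_pos m with h | h
    · rw [h, mul_zero] at hn; omega
    · exact h
  let X := {S : Finset G // S.card = k}
  have hXcard : Nat.card X = (Nat.card G).choose k := by
    rw [Nat.card_eq_fintype_card, Fintype.card_finset_len, Nat.card_eq_fintype_card]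
  let P : X → Prop := fun S => Nat.card (stabilizer G S) = k
  have hinv : ∀ (g : G) (S : X), ¬ P S → ¬ P (g • S) := by
    intro g S h1 h2
    apply h1
    have h3 : stabilizer G (g • S) = (stabilizer G S).map (MulAut.conj g).toMonoidHom :=
      stabilizer_smul_eq_stabilizer_map_conj g S
    have h4 : Nat.card (stabilizer G (g • S)) = Nat.card (stabilizer G S) := by
      rw [h3]
      exact Subgroup.card_map_of_injective (MulAut.conj g).injective
    show Nat.card (stabilizer G S) = k
    rw [← h4]
    exact h2
  have hsplit : Nat.card X = Nat.card {S // P S} + Nat.card {S // ¬ P S} := by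
    rw [Nat.card_congr (Equiv.sumCompl P).symm, Nat.card_sum]
  -- the non-full orbits
  have hX1 : p * m ∣ Nat.card {S // ¬ P S} := by
    apply dvd_card_subtype_of_orbit (A := G) _ hinv
    intro S hS
    rw [Nat.card_coe_set_eq, ← index_stabilizer]
    have h1 := Subgroup.index_mul_card (stabilizer G S)
    obtain ⟨γ, hγ, hγe⟩ := (Nat.dvd_prime_pow hp).mp (card_stabilizer_dvd S)
    have hγlt : γ < β := by
      rcases lt_or_eq_of_le hγ with h | h
      · exact h
      · exact absurd (show Nat.card (stabilizer G S) = k by rw [hγe, h, hk]) hS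
    obtain ⟨e, rfl⟩ : ∃ e, β = γ + (e + 1) := ⟨β - γ - 1, by omega⟩
    rw [hγe, hn] at h1
    have h2 : (stabilizer G S).index = p ^ (e + 1) * m := by
      apply Nat.eq_of_mul_eq_mul_right (pow_pos hp.pos γ)
      calc (stabilizer G S).index * p ^ γ = k * m := h1
        _ = p ^ (e + 1) * m * p ^ γ := by
          rw [hk, pow_add]
          ring
    rw [h2, pow_succ]
    exact mul_dvd_mul (Dvd.intro_left _ rfl) dvd_rfl
  -- the full orbits
  have hX0 : Nat.card {S // P S} = Nat.card {H : Subgroup G // Nat.card H = k} * m := by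
    haveI : Fintype {H : Subgroup G // Nat.card H = k} := Fintype.ofFinite _
    let e : (Σ H : {H : Subgroup G // Nat.card H = k}, {S : X // stabilizer G S = H.1}) ≃ {S // P S} :=
      { toFun := fun x => ⟨x.2.1, by
          show Nat.card (stabilizer G x.2.1) = k
          rw [x.2.2]; exact x.1.2⟩
        invFun := fun S => ⟨⟨stabilizer G S.1, S.2⟩, S.1, rfl⟩
        left_inv := by
          rintro ⟨⟨H, hH⟩, S, hS⟩
          dsimp only at hS
          subst hS
          rfl
        right_inv := fun S => rfl }
    rw [← Nat.card_congr e, Nat.card_sigma]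
    have h1 : ∀ H : {H : Subgroup G // Nat.card H = k}, Nat.card {S : X // stabilizer G S = H.1} = m := by
      intro H
      have h2 := card_fiber_mul H.1 H.2 hkpos
      rw [hn, mul_comm] at h2
      exact Nat.eq_of_mul_eq_mul_left hkpos h2
    rw [Finset.sum_congr rfl (fun H _ => h1 H), Finset.sum_const, Finset.card_univ, smul_eq_mul,
      Nat.card_eq_fintype_card]
  rw [← hXcard, hsplit, hX0]
  have h3 : Nat.card {S // ¬ P S} ≡ 0 [MOD p * m] := Nat.modEq_zero_iff_dvd.mpr hX1
  simpa using Nat.ModEq.add_left (Nat.card {H : Subgroup G // Nat.card H = k} * m) h3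

/-- Two subgroups of equal order in a finite cyclic group coincide. -/
theorem subgroup_eq_of_card_eq_of_isCyclic {C : Type*} [Group C] [Finite C] [IsCyclic C]
    {H K : Subgroup C} (hc : Nat.card H = Nat.card K) : H = K := by
  classical
  haveI := Fintype.ofFinite C
  have key : ∀ L : Subgroup C, Nat.card L = Nat.card H →
      (L : Set C) = {a : C | a ^ Nat.card H = 1} := by
    intro L hL
    have h1 : (L : Set C) ⊆ {a : C | a ^ Nat.card H = 1} := by
      intro a ha
      show a ^ Nat.card H = 1
      rw [← hL]
      have := pow_card_eq_one' (x := (⟨a, ha⟩ : L))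
      exact congrArg Subtype.val this
    have h2 := IsCyclic.card_pow_eq_one_le (α := C) (n := Nat.card H) Nat.card_pos
    apply Set.eq_of_subset_of_ncard_le h1 _ (Set.toFinite _)
    have e1 : (L : Set C).ncard = Nat.card H := by
      rw [← Nat.card_coe_set_eq]; exact hL
    have e2 : ({a : C | a ^ Nat.card H = 1} : Set C).ncard ≤ Nat.card H := by
      rw [Set.ncard_eq_toFinset_card']
      convert h2 using 2
      ext a
      simp
    omega
  apply SetLike.coe_injective
  rw [key H rfl, key K hc.symm]

/-- **Frobenius' theorem on the number of subgroups.** -/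
theorem card_subgroups_modEq [Finite G] {p β : ℕ} (hp : p.Prime) (hdiv : p ^ β ∣ Nat.card G) :
    Nat.card {H : Subgroup G // Nat.card H = p ^ β} ≡ 1 [MOD p] := by
  obtain ⟨m, hm⟩ := hdiv
  have hGpos : 0 < Nat.card G := Nat.card_pos
  have hmpos : m ≠ 0 := by
    rintro rfl
    rw [mul_zero] at hm
    omega
  have h1 := choose_modEq_card_subgroups (G := G) hp hm
  -- the cyclic group of the same order
  haveI : NeZero (Nat.card G) := ⟨hGpos.ne'⟩
  let C := Multiplicative (ZMod (Nat.card G))
  have hC : Nat.card C = Nat.card G := by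
    show Nat.card (Multiplicative (ZMod (Nat.card G))) = _
    rw [Nat.card_congr Multiplicative.toAdd, Nat.card_zmod]
  haveI : Fact p.Prime := ⟨hp⟩
  have h2 := choose_modEq_card_subgroups (G := C) hp (hC.trans hm)
  rw [hC] at h2
  have h3 : Nat.card {H : Subgroup C // Nat.card H = p ^ β} = 1 := by
    obtain ⟨K, hK⟩ := Sylow.exists_subgroup_card_pow_prime (G := C) p (n := β) (by rw [hC, hm]; exact Dvd.intro _ rfl)
    rw [Nat.card_eq_one_iff_unique]
    refine ⟨⟨fun a b => Subtype.ext (subgroup_eq_of_card_eq_of_isCyclic (a.2.trans b.2.symm))⟩, ⟨⟨K, hK⟩⟩⟩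
  rw [h3, one_mul] at h2
  have h4 := h1.symm.trans h2
  have h5 : Nat.card {H : Subgroup G // Nat.card H = p ^ β} * m ≡ 1 * m [MOD p * m] := by
    rwa [one_mul]
  exact Nat.ModEq.mul_right_cancel' hmpos h5

end Main

end Cfsg.Agent.Lib.PGroups
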